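import Cfsg.Agent.Lib.Lie.Laced.Rank

/-!
# Conjugacy classes of involutions from certificates
-/

set_option autoImplicit false
set_option linter.style.haveILetI false

namespace CfsgLib.Lie.Laced

open Cfsg.Lie CfsgLib.Lie.Chev
open scoped MatrixGroups

variable {D : ChevalleyDatum} {f : Fast}

/-- the verified classification data: `rk i` is the rank of the `i`-th representative minus one -/
structure InvolCert (D : ChevalleyDatum) (f : Fast) (C : Full D) (O : OrthData) (rk : ℕ → ℕ) : Prop where
  checks : Checks D f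
  keys : KeysOK D
  laced : IsLaced D C
  steps : chkSteps D f O = true
  orth : chkOrthReps f O = true
  reds : chkReds D f O = true
  rank_ne : ∀ t ∈ O.targets, t < O.reps.length ∧ rk t ≠ 0
  rank_inj : ∀ s ∈ O.targets, ∀ t ∈ O.targets, rk s = rk t → s = t
  rank : ∀ t ∈ O.targets,
    ∃ B A P Q, chkRank D f (O.reps.getD t []) (rk t) B A P Q = true

variable {C : Full D} {O : OrthData} {rk : ℕ → ℕ} (H : InvolCert D f C O rk)
variable {K : Type*} [Field K]

theorem allList_of_forall {α : Type} {v : List α} {p : α → Bool} (h : ∀ x ∈ v, p x = true) : allList v p = true := by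
  induction v with
  | nil => rfl
  | cons e v ih =>
    show cond (p e) (allList v p) false = true
    rw [h e List.mem_cons_self, cond_true]
    exact ih fun x hx => h x (List.mem_cons_of_mem _ hx)

theorem nprod_mem (w : List ℕ) : nprod C (K := K) w ∈ D.group K := by
  refine list_prod_mem fun y hy => ?_
  obtain ⟨r, -, rfl⟩ := List.mem_map.1 hy
  rw [xn]
  split
  · exact C.G.xu_mem _ _
  · exact one_mem _

theorem rank_conj {x g h : GL D.Idx K} (e : x * g * x⁻¹ = h) :
    ((g : Matrix D.Idx D.Idx K) - 1).rank = ((h : Matrix D.Idx D.Idx K) - 1).rank := by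
  subst e
  have : ((x * g * x⁻¹ : GL D.Idx K) : Matrix D.Idx D.Idx K) - 1 =
      (x : Matrix D.Idx D.Idx K) * ((g : Matrix D.Idx D.Idx K) - 1) * ((x⁻¹ : GL D.Idx K) : Matrix D.Idx D.Idx K) := by
    rw [mul_sub, mul_one, sub_mul, Units.val_mul, Units.val_mul, Units.mul_inv]
  rw [this, Matrix.rank_mul_eq_left_of_isUnit_det, Matrix.rank_mul_eq_right_of_isUnit_det]
  · exact (Matrix.isUnit_iff_isUnit_det _).1 x.isUnit
  · exact (Matrix.isUnit_iff_isUnit_det _).1 (x⁻¹).isUnit

variable [CharP K 2]

theorem commute_xn (hL : IsLaced D C) {a b : Fin D.nroots} (h : ip D a b = 0) :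
    Commute (C.G.xu a (1 : K)) (C.G.xu b 1) := by
  have hn : b ≠ C.G.negr a := fun e => by rw [e, ip_negr, hL.2.1] at h; omega
  exact (xu_commute hL (Or.inl h) hn 1 1).symm

include H

theorem reps_lt {t : ℕ} (ht : t < O.reps.length) : ∀ r ∈ O.reps.getD t [], r < D.nroots := fun r hr => by
  have h := H.steps
  simp only [chkSteps, Bool.and_eq_true] at h
  rw [List.getD_eq_getElem _ _ ht] at hr
  simpa [Nat.blt_eq] using allList_spec (allList_spec h.1.2 _ (List.getElem_mem ht)) r hr

theorem target_sq {t : ℕ} (ht : t < O.reps.length) :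
    nprod C (K := K) (O.reps.getD t []) * nprod C (O.reps.getD t []) = 1 := by
  have hlt := reps_lt H ht
  have hor := allList_spec H.orth _ (List.getElem_mem ht)
  rw [← List.getD_eq_getElem _ [] ht, Bool.and_eq_true, decide_eq_true_eq] at hor
  generalize O.reps.getD t [] = R at hlt hor
  induction R with
  | nil => simp [nprod]
  | cons a R ih =>
    have hR : ∀ r ∈ R, r < D.nroots := fun r hr => hlt r (List.mem_cons_of_mem _ hr)
    have hc : Commute (xn C (K := K) a) (nprod C R) := by
      refine Commute.list_prod_right _ _ fun y hy => ?_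
      obtain ⟨b, hb, rfl⟩ := List.mem_map.1 hy
      rw [xn, xn, dif_pos (hlt a List.mem_cons_self), dif_pos (hR b hb)]
      refine commute_xn H.laced ?_
      have hne : a ≠ b := fun e => (List.nodup_cons.1 hor.1).1 (e ▸ hb)
      have := allList_spec (allList_spec hor.2 a List.mem_cons_self) b (List.mem_cons_of_mem _ hb)
      rw [natBeq_false hne, Bool.false_or] at this
      rw [← ipF_eq (rowsOK H.checks.rows)]
      exact intBeq_spec this
    have hih := ih hR ⟨(List.nodup_cons.1 hor.1).2, allList_of_forall fun x hx => allList_of_forall fun b hb =>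
      allList_spec (allList_spec hor.2 x (List.mem_cons_of_mem _ hx)) b (List.mem_cons_of_mem _ hb)⟩
    rw [nprod_cons]
    calc xn C (K := K) a * nprod C R * (xn C a * nprod C R)
        = xn C a * (nprod C R * xn C a) * nprod C R := by group
      _ = xn C a * xn C a * (nprod C R * nprod C R) := by rw [← hc.eq]; group
      _ = 1 := by rw [hih, mul_one, xn, dif_pos (hlt a List.mem_cons_self), xu_sq]

theorem rank_target {t : ℕ} (ht : t ∈ O.targets) :
    (((nprod C (K := K) (O.reps.getD t []) : GL D.Idx K) : Matrix D.Idx D.Idx K) - 1).rank = rk t := by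
  obtain ⟨B, A, P, Q, h⟩ := H.rank t ht
  exact rank_eq C (rowsOK H.checks.rows) h

theorem orderOf_target {t : ℕ} (ht : t ∈ O.targets) : orderOf (nprod C (K := K) (O.reps.getD t [])) = 2 := by
  refine orderOf_eq_prime (by rw [pow_two]; exact target_sq H (H.rank_ne t ht).1) fun e => ?_
  have := rank_target H (K := K) ht
  rw [e, Units.val_one, sub_self, Matrix.rank_zero] at this
  exact (H.rank_ne t ht).2 this.symm

theorem target_eq_of_cj {s t : ℕ} (hs : s ∈ O.targets) (ht : t ∈ O.targets)
    (h : Cj (nprod C (K := K) (O.reps.getD s [])) (nprod C (O.reps.getD t []))) : s = t := by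
  obtain ⟨x, -, e⟩ := h
  refine H.rank_inj s hs t ht ?_
  rw [← rank_target H (K := K) hs, ← rank_target H (K := K) ht, rank_conj e]

theorem exists_target [Fintype K] {g : GL D.Idx K} (hg : g ∈ D.group K) (h2 : orderOf g = 2) :
    ∃ t ∈ O.targets, Cj g (nprod C (O.reps.getD t [])) :=
  classify H.laced H.checks H.keys H.steps H.orth H.reds hg h2

theorem card_classes [Fintype K] (hnd : O.targets.Nodup) :
    (ConjClasses.mk '' {g : ↥(D.group K) | orderOf g = 2}).ncard = O.targets.length := by
  classical
  let y : {t // t ∈ O.targets} → ConjClasses ↥(D.group K) := fun t =>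
    ConjClasses.mk ⟨nprod C (O.reps.getD t.1 []), nprod_mem _⟩
  have hset : ConjClasses.mk '' {g : ↥(D.group K) | orderOf g = 2} = Set.range y := by
    ext c
    constructor
    · rintro ⟨g, hg, rfl⟩
      obtain ⟨t, ht, x, hx, e⟩ := exists_target H g.2 ((Subgroup.orderOf_coe g).trans hg)
      exact ⟨⟨t, ht⟩, (ConjClasses.mk_eq_mk_iff_isConj.2 (isConj_iff.2 ⟨⟨x, hx⟩, Subtype.ext e⟩)).symm⟩
    · rintro ⟨⟨t, ht⟩, rfl⟩
      refine ⟨_, ?_, rfl⟩
      show orderOf _ = 2
      rw [← Subgroup.orderOf_coe]
      exact orderOf_target H ht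
  have hinj : Function.Injective y := fun s t e => by
    obtain ⟨x, hx⟩ := isConj_iff.1 (ConjClasses.mk_eq_mk_iff_isConj.1 e)
    exact Subtype.ext (target_eq_of_cj H (K := K) s.2 t.2 ⟨x, x.2, congrArg Subtype.val hx⟩)
  rw [hset, Set.ncard_range_of_injective hinj, Nat.card_eq_fintype_card,
    Fintype.card_of_subtype O.targets.toFinset (by simp), List.toFinset_card_of_nodup hnd]

end CfsgLib.Lie.Laced
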