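import Cfsg.Agent.Lib.Lie.Chev.Full
import Cfsg.Agent.Lib.Lie.Chev.Torus
import Cfsg.Agent.Lib.Lie.Chev.Mk1

/-!
# Simply laced data: pairing, relations and torus action
-/

set_option autoImplicit false

namespace CfsgLib.Lie.Laced

open Cfsg.Lie CfsgLib.Lie.Chev
open scoped MatrixGroups

variable (D : ChevalleyDatum) (f : Fast)

/-- the pairing of a coroot with a root -/
def ip (r q : Fin D.nroots) : ℤ :=
  ∑ i : Fin D.rank, (D.coroot.getD r.val #[]).getD i.val 0 * cart D i q

/-- the pairing from the fast tables -/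
noncomputable def ipF (r q : ℕ) : ℤ :=
  List.rec 0 (fun e _ ih => Int.add (Int.mul e.2 (cartF f e.1 q)) ih) (f.cor.get r)

/-- the possible terms of a commutator -/
noncomputable def termsB (p : ℤ) (L : List (ℕ × ℤ × ℕ × ℕ)) : Bool :=
  match L with
  | [] => intBeq p 0 || intBeq p 1
  | [(_, c, 1, 1)] => Nat.beq c.natAbs 1 && intBeq p (-1)
  | _ => false

/-- the certificate for a simply laced datum -/
noncomputable def chkLaced : Bool :=
  allLt D.nroots fun r => allLt D.nroots fun s =>
    intBeq (ipF f r s) (ipF f s r) &&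
    (cond (Nat.beq s r) (intBeq (ipF f r s) 2)
      (cond (Nat.beq s (f.negs.get r)) (intBeq (ipF f r s) (-2))
        (termsB (ipF f r s) (commTermsF D f r s))))

/-- a datum with the certificate -/
def IsLaced (C : Full D) : Prop :=
  (∀ r s, ip D r s = ip D s r) ∧ (∀ r, ip D r r = 2) ∧
    ∀ r s : Fin D.nroots, s ≠ r → s ≠ C.G.negr r →
      (D.commTerms r.val s.val = [] ∧ (ip D r s = 0 ∨ ip D r s = 1)) ∨
      ∃ (z : ℕ) (c : ℤ), D.commTerms r.val s.val = [(z, c, 1, 1)] ∧ c.natAbs = 1 ∧ ip D r s = -1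

variable {D f}

theorem ipF_eq (h : RowsOK D f) (r s : Fin D.nroots) : ipF f r.val s.val = ip D r s := by
  have hrec : ∀ l : List (ℕ × ℤ),
      (List.rec 0 (fun e _ ih => Int.add (Int.mul e.2 (cartF f e.1 s.val)) ih) l : ℤ) =
        (l.map fun e => e.2 * cartF f e.1 s.val).sum := by
    intro l
    induction l with
    | nil => rfl
    | cons e l ih => rw [List.map_cons, List.sum_cons, ← ih]; rfl
  rw [ipF, hrec, h.cor r.val r.isLt, List.map_map, ← List.map_coe_finRange_eq_range, List.map_map, ip, Fin.sum_univ_def]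
  congr 1
  refine List.map_congr_left fun i _ => ?_
  simp only [Function.comp_apply, cartF_cart h i s]

theorem isLaced (C : Full D) (h : RowsOK D f) (hk : KeysOK D) (hc : chkLaced D f = true) : IsLaced D C := by
  unfold chkLaced at hc
  have key := fun r s : Fin D.nroots => allLt_spec (allLt_spec hc r.val r.isLt) s.val s.isLt
  simp only [Bool.and_eq_true, h.negs _ (Fin.isLt _), ipF_eq h] at key
  refine ⟨fun r s => intBeq_spec (key r s).1, fun r => ?_, fun r s hsr hsn => ?_⟩
  · have := (key r r).2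
    rw [Nat.beq_refl, cond_true] at this
    exact intBeq_spec this
  · have := (key r s).2
    rw [natBeq_false (fun e => hsr (Fin.ext e)),
      natBeq_false (show s.val ≠ D.negIdx.getD r.val 0 from fun e => hsn (Fin.ext (e.trans (C.G.negr_val r).symm))),
      cond_false, cond_false,
      commTermsF_eq h hk r.isLt s.isLt] at this
    revert this
    cases hL : D.commTerms r.val s.val with
    | nil =>
      intro this
      simp only [termsB, Bool.or_eq_true] at this
      exact Or.inl ⟨rfl, this.imp intBeq_spec intBeq_spec⟩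
    | cons a L =>
      intro this
      obtain ⟨z, c, i, j⟩ := a
      unfold termsB at this
      split at this
      · simp at *
      · rename_i z' c' hc'
        simp only [List.cons.injEq, Prod.mk.injEq] at hc'
        obtain ⟨⟨rfl, rfl, rfl, rfl⟩, rfl⟩ := hc'
        simp only [Bool.and_eq_true, Nat.beq_eq] at this
        exact Or.inr ⟨z, c, rfl, this.1, intBeq_spec this.2⟩
      · exact absurd this (by simp)

variable {C : Full D} (hL : IsLaced D C)

theorem ip_add (r : Fin D.nroots) {q s z : Fin D.nroots} (e : C.G.rho z = C.G.rho q + C.G.rho s) :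
    ip D r z = ip D r q + ip D r s := by
  simp only [ip, C.G.cart_eq _ z, C.G.cart_eq _ q, C.G.cart_eq _ s, e, Pi.add_apply, add_mul, mul_add,
    Finset.sum_add_distrib]

theorem ip_negr (r q : Fin D.nroots) : ip D r (C.G.negr q) = - ip D r q := by
  simp only [ip, C.G.cart_negr, mul_neg, Finset.sum_neg_distrib]

include hL

theorem ip_le (r q : Fin D.nroots) (h1 : q ≠ r) (h2 : q ≠ C.G.negr r) :
    ip D r q = -1 ∨ ip D r q = 0 ∨ ip D r q = 1 := by
  rcases hL.2.2 r q h1 h2 with ⟨-, h | h⟩ | ⟨z, c, -, -, h⟩ <;> simp [h]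

theorem exists_sum {r s : Fin D.nroots} (h : ip D r s = -1) :
    ∃ z : Fin D.nroots, C.G.rho z = C.G.rho r + C.G.rho s := by
  have h1 : s ≠ r := fun e => by rw [e, hL.2.1] at h; omega
  have h2 : s ≠ C.G.negr r := fun e => by rw [e, ip_negr, hL.2.1] at h; omega
  rcases hL.2.2 r s h1 h2 with ⟨-, h' | h'⟩ | ⟨z, c, e, -, -⟩
  · omega
  · omega
  obtain ⟨-, -, hz, hzr⟩ := C.commTerms_weight (r := r) (s := s) (c := (z, c, 1, 1)) (by rw [e]; simp)
  exact ⟨⟨z, hz⟩, by simpa using hzr⟩

theorem exists_diff {r t : Fin D.nroots} (h : ip D r t = 1) :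
    ∃ s : Fin D.nroots, C.G.rho t = C.G.rho r + C.G.rho s := by
  obtain ⟨z, hz⟩ := exists_sum hL (r := r) (s := C.G.negr t) (by rw [ip_negr, h])
  exact ⟨C.G.negr z, by rw [C.G.rho_negr, hz, C.G.rho_negr]; abel⟩

theorem ip_sum_eq {r s z : Fin D.nroots} (e : C.G.rho z = C.G.rho r + C.G.rho s) : ip D r s = -1 := by
  have h1 : ∀ a b c : Fin D.nroots, C.G.rho c = C.G.rho a + C.G.rho b → ip D a b ≠ 0 ∧ ip D a b ≠ 1 := by
    intro a b c e
    have hba : b ≠ C.G.negr a := fun h => by
      rw [h, C.G.rho_negr, add_neg_cancel] at e; exact C.G.rho_ne_zero c e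
    have hsum := ip_add (C := C) a e
    rw [hL.2.1] at hsum
    have hca : c ≠ a := fun h => by
      rw [h, left_eq_add] at e; exact C.G.rho_ne_zero b e
    have hcn : c ≠ C.G.negr a → ip D a c ≤ 1 := fun h => by rcases ip_le hL a c hca h with h' | h' | h' <;> omega
    by_cases h : c = C.G.negr a
    · rw [h, ip_negr, hL.2.1] at hsum; omega
    · have := hcn h; omega
  by_cases h : s = r
  · exfalso
    subst h
    have hsum := ip_add (C := C) s e
    rw [hL.2.1] at hsum
    have hcn : z ≠ C.G.negr s := fun h' => by rw [h', ip_negr, hL.2.1] at hsum; omega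
    have hzs : z ≠ s := fun h' => by rw [h', hL.2.1] at hsum; omega
    rcases ip_le hL s z hzs hcn with h' | h' | h' <;> omega
  · have hsn : s ≠ C.G.negr r := fun h' => by
      rw [h', C.G.rho_negr, add_neg_cancel] at e; exact C.G.rho_ne_zero z e
    rcases ip_le hL r s h hsn with h' | h' | h'
    · exact h'
    · exact absurd h' (h1 r s z e).1
    · exact absurd h' (h1 r s z e).2

variable {K : Type*} [Field K] [CharP K 2]

theorem comm_word {r s : Fin D.nroots} (hsr : s ≠ r) (hsn : s ≠ C.G.negr r) (t u : K)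
    {w : GL D.Idx K} (hw : (w : Matrix D.Idx D.Idx K) = wordR K D (cwR D r.val s.val t u)) :
    C.G.xu s u * C.G.xu r t = C.G.xu r t * C.G.xu s u * w := by
  have h := C.commAt (R := K) r s hsr hsn t u
  apply Units.ext
  simp only [Units.val_mul, Good.coe_xu, hw]
  exact h

theorem xu_commute {r s : Fin D.nroots} (h : ip D r s = 0 ∨ ip D r s = 1) (hsn : s ≠ C.G.negr r) (t u : K) :
    C.G.xu s u * C.G.xu r t = C.G.xu r t * C.G.xu s u := by
  by_cases hsr : s = r
  · subst hsr; rw [← C.G.xu_add, ← C.G.xu_add, add_comm]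
  rcases hL.2.2 r s hsr hsn with ⟨e, -⟩ | ⟨z, c, -, -, h'⟩
  · rw [comm_word hL hsr hsn t u (w := 1) (by rw [cwR, e]; simp [wordR]), mul_one]
  · omega

theorem xu_comm {r s z : Fin D.nroots} (e : C.G.rho z = C.G.rho r + C.G.rho s) (t u : K) :
    C.G.xu s u * C.G.xu r t = C.G.xu r t * C.G.xu s u * C.G.xu z (t * u) := by
  have hip := ip_sum_eq hL e
  have hsr : s ≠ r := fun h => by rw [h, hL.2.1] at hip; omega
  have hsn : s ≠ C.G.negr r := fun h => by rw [h, ip_negr, hL.2.1] at hip; omega
  rcases hL.2.2 r s hsr hsn with ⟨-, h⟩ | ⟨z', c, ec, hc, -⟩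
  · omega
  obtain ⟨-, -, hz', hzr⟩ := C.commTerms_weight (r := r) (s := s) (c := (z', c, 1, 1)) (by rw [ec]; simp)
  have hzz : (⟨z', hz'⟩ : Fin D.nroots) = z := C.G.rho_injective (by rw [e]; simpa using hzr)
  refine comm_word hL hsr hsn t u ?_
  have hc' : (c : K) = 1 := by
    rcases Int.natAbs_eq c with h | h <;> rw [h, hc] <;> simp [CharTwo.neg_eq]
  rw [cwR, ec]
  subst hzz
  simp [wordR, xN, hz', hc', Good.coe_xu, CharTwo.neg_eq]

omit [CharP K 2] hL in
theorem hd_conj (r q : Fin D.nroots) (c : Kˣ) (t : K) :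
    C.G.hd r c * C.G.xu q t * (C.G.hd r c)⁻¹ = C.G.xu q (((c ^ ip D r q : Kˣ) : K) * t) := by
  have hhd : C.G.hd r c = C.G.tor fun l => ∏ i, (c ^ (D.coroot.getD r.val #[]).getD i.val 0) ^ cart D i (C.G.simp' l) := by
    rw [C.G.hd_eq_torθ]
    rfl
  rw [hhd, C.G.tor_conj_xu]
  congr 3
  have hpow : ∀ (s : Finset (Fin D.rank)) (a : Fin D.rank → ℤ), ∏ i ∈ s, c ^ a i = c ^ ∑ i ∈ s, a i := by
    intro s a
    induction s using Finset.induction with
    | empty => simp
    | insert b u hb ih => rw [Finset.prod_insert hb, Finset.sum_insert hb, zpow_add, ih]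
  simp only [Good.chi, ip, ← zpow_mul, ← Finset.prod_zpow, C.G.cart_eq _ q, hpow]
  simp only [Finset.sum_mul, Finset.mul_sum]
  rw [Finset.sum_comm]
  congr 1
  exact Finset.sum_congr rfl fun i _ => Finset.sum_congr rfl fun j _ => by ring

end CfsgLib.Lie.Laced
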