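import Cfsg.Agent.Lib.Lie.Laced.Classify

/-!
# Ranks of involutions minus one, certified over the field with two elements
-/

set_option autoImplicit false
set_option linter.style.haveILetI false

namespace CfsgLib.Lie.Laced

open Cfsg.Lie CfsgLib.Lie.Chev
open scoped MatrixGroups

/-- the combination of the vectors selected by the bits of a number -/
def combo : List ℕ → ℕ → ℕ
  | [], _ => 0
  | c :: cs, n => (cond (Nat.beq (n % 2) 1) c 0) ^^^ combo cs (n / 2)

/-- a bit as an element of the field with two elements -/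
def bz (b : Bool) : ZMod 2 := cond b 1 0

/-- the matrix whose columns are given by bit masks -/
def bitMat (n k : ℕ) (cs : List ℕ) : Matrix (Fin n) (Fin k) (ZMod 2) :=
  Matrix.of fun i m => bz ((cs.getD m.val 0).testBit i.val)

theorem bz_xor (a b : Bool) : bz (a ^^ b) = bz a + bz b := by cases a <;> cases b <;> decide

theorem bitMat_mulVec (n : ℕ) : ∀ (k : ℕ) (cs : List ℕ), cs.length = k → ∀ x : ℕ,
    (bitMat n k cs).mulVec (fun m => bz (x.testBit m.val)) = fun i => bz ((combo cs x).testBit i.val) := by
  intro k cs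
  induction cs generalizing k with
  | nil =>
    rintro rfl x
    funext i
    simp [Matrix.mulVec, dotProduct, combo, bz]
  | cons c cs ih =>
    rintro rfl x
    funext i
    simp only [List.length_cons]
    rw [Matrix.mulVec, dotProduct, Fin.sum_univ_succ]
    have h := congrFun (ih cs.length rfl (x / 2)) i
    rw [Matrix.mulVec, dotProduct] at h
    rw [combo, Nat.testBit_xor, bz_xor, ← h]
    congr 1
    · simp only [bitMat, Matrix.of_apply, Fin.val_zero, List.getD_cons_zero, Nat.testBit_zero]
      rcases Nat.mod_two_eq_zero_or_one x with hx | hx <;> simp [hx, bz, Nat.beq]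
    · refine Finset.sum_congr rfl fun m _ => ?_
      simp only [bitMat, Matrix.of_apply, Fin.val_succ, List.getD_cons_succ, Nat.testBit_succ]

theorem bitMat_mul (n k l : ℕ) (A B : List ℕ) (hA : A.length = k) (hB : B.length = l) :
    bitMat n k A * bitMat k l B = bitMat n l (B.map (combo A)) := by
  ext i j
  have h := congrFun (bitMat_mulVec n k A hA (B.getD j.val 0)) i
  simp only [Matrix.mulVec, dotProduct] at h
  rw [Matrix.mul_apply]
  refine h.trans ?_
  have hj : j.val < B.length := hB ▸ j.isLt
  simp only [bitMat, Matrix.of_apply, List.getD_eq_getElem?_getD, List.getElem?_map,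
    List.getElem?_eq_getElem hj, Option.map_some, Option.getD_some]

/-- the unit vectors -/
def idCols (N : ℕ) : List ℕ := (List.range N).map fun j => 2 ^ j

theorem bitMat_id (N : ℕ) : bitMat N N (idCols N) = 1 := by
  ext i j
  simp only [bitMat, idCols, Matrix.of_apply, List.getD_eq_getElem?_getD, List.getElem?_map,
    List.getElem?_range j.isLt, Option.map_some, Option.getD_some, Nat.testBit_two_pow, bz, Matrix.one_apply]
  by_cases h : i = j
  · subst h; simp
  · rw [if_neg h, decide_eq_false (fun e => h (Fin.ext e.symm))]; rfl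

section checks

variable (D : ChevalleyDatum) (f : Fast)

/-- the entries with odd coefficient of a sparse vector -/
noncomputable def parityBits (v : List (ℕ × ℤ)) (start : ℕ) : ℕ :=
  List.rec start (fun e _ ih => cond (Nat.beq (e.2.natAbs % 2) 1) (2 ^ e.1) 0 ^^^ ih) v

/-- the columns of `x_r(1)` modulo two -/
noncomputable def colsX (r : ℕ) : List ℕ :=
  (List.range (D.rank + D.nroots)).map fun j =>
    parityBits (actF f r 1 j) (parityBits (actF f r 2 j) (parityBits (actF f r 3 j) (2 ^ j)))

/-- the columns of a product of root elements modulo two -/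
noncomputable def colsW : List ℕ → List ℕ
  | [] => idCols (D.rank + D.nroots)
  | r :: w => (colsW w).map (combo (colsX D f r))

/-- the columns of a product of root elements minus one -/
noncomputable def colsM (w : List ℕ) : List ℕ :=
  List.zipWith (· ^^^ ·) (colsW D f w) (idCols (D.rank + D.nroots))

/-- a certificate of the rank -/
noncomputable def chkRank (w : List ℕ) (k : ℕ) (B A P Q : List ℕ) : Bool :=
  allList w (fun r => Nat.blt r D.nroots) && Nat.beq B.length k && Nat.beq A.length (D.rank + D.nroots) &&
    Nat.beq P.length (D.rank + D.nroots) && Nat.beq Q.length k &&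
    (colsM D f w == A.map (combo B)) &&
    ((Q.map (combo (colsM D f w))).map (combo P) == idCols k)

end checks

theorem parityBits_spec (v : List (ℕ × ℤ)) (s i : ℕ) :
    bz ((parityBits v s).testBit i) = (coef v i : ZMod 2) + bz (s.testBit i) := by
  induction v with
  | nil => simp [parityBits]
  | cons e v ih =>
    change bz ((cond (Nat.beq (e.2.natAbs % 2) 1) (2 ^ e.1) 0 ^^^ parityBits v s).testBit i) = _
    rw [Nat.testBit_xor, bz_xor, ih, coef_cons, Int.cast_add, add_assoc]
    congr 1
    have hcast : (e.2 : ZMod 2) = (e.2.natAbs : ZMod 2) := by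
      rcases Int.natAbs_eq e.2 with h | h <;> conv_lhs => rw [h]
      · simp
      · simp [CharTwo.neg_eq]
    rcases Nat.mod_two_eq_zero_or_one e.2.natAbs with hx | hx
    · have h0 : (e.2 : ZMod 2) = 0 := by
        rw [hcast, ZMod.natCast_eq_zero_iff_even, Nat.even_iff, hx]
      simp [hx, bz, h0, Nat.beq, apply_ite (Int.cast : ℤ → ZMod 2)]
    · have h1 : (e.2 : ZMod 2) = 1 := by
        rw [hcast, ZMod.natCast_eq_one_iff_odd, Nat.odd_iff, hx]
      simp only [hx, Nat.beq_refl, cond_true, Nat.testBit_two_pow, bz]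
      by_cases h : e.1 = i
      · simp [h, h1]
      · simp [h]

variable {D : ChevalleyDatum} {f : Fast}

/-- the positions as a bijection -/
noncomputable def posEquiv (D : ChevalleyDatum) : D.Idx ≃ Fin (D.rank + D.nroots) :=
  Equiv.ofBijective (fun b => ⟨pos D b, pos_lt D b⟩) <| by
    rw [Fintype.bijective_iff_injective_and_card]
    refine ⟨fun a b h => pos_injective D (congrArg Fin.val h), ?_⟩
    simp

theorem colsX_spec (h : RowsOK D f) (r : Fin D.nroots) :
    (xg (ZMod 2) r 1).reindex (posEquiv D) (posEquiv D) =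
      bitMat (D.rank + D.nroots) (D.rank + D.nroots) (colsX D f r.val) := by
  ext i j
  obtain ⟨a, rfl⟩ := (posEquiv D).surjective i
  obtain ⟨b, rfl⟩ := (posEquiv D).surjective j
  simp only [Matrix.reindex_apply, Matrix.submatrix_apply, Equiv.symm_apply_apply, xg_apply, one_pow, one_mul,
    bitMat, colsX, Matrix.of_apply, List.getD_eq_getElem?_getD, List.getElem?_map]
  show _ = bz (Nat.testBit (Option.getD (Option.map _ (List.range (D.rank + D.nroots))[pos D b]?) 0) (pos D a))
  rw [List.getElem?_range (pos_lt D b), Option.map_some, Option.getD_some, parityBits_spec, parityBits_spec,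
    parityBits_spec, actF_eq h r.isLt le_rfl (by norm_num) (pos_lt D b),
    actF_eq h r.isLt (by norm_num) (by norm_num) (pos_lt D b),
    actF_eq h r.isLt (by norm_num) le_rfl (pos_lt D b), Nat.testBit_two_pow, bz]
  by_cases hab : a = b
  · subst hab; simp; ring
  · rw [if_neg hab, decide_eq_false (fun e => hab (pos_injective D e.symm))]; simp; ring

variable (C : Full D)

theorem colsW_length : ∀ w : List ℕ, (colsW D f w).length = D.rank + D.nroots
  | [] => by simp [colsW, idCols]
  | _ :: w => by simp [colsW, colsW_length w]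

theorem colsW_spec (h : RowsOK D f) : ∀ w : List ℕ, (∀ r ∈ w, r < D.nroots) →
    ((nprod C (K := ZMod 2) w : GL D.Idx (ZMod 2)) : Matrix D.Idx D.Idx (ZMod 2)).reindex (posEquiv D) (posEquiv D) =
      bitMat (D.rank + D.nroots) (D.rank + D.nroots) (colsW D f w) := by
  intro w
  induction w with
  | nil => intro _; simp [colsW, bitMat_id, nprod]
  | cons r w ih =>
    intro hw
    have hr := hw r List.mem_cons_self
    rw [colsW, ← bitMat_mul _ (D.rank + D.nroots) _ _ _ (by simp [colsX]) (colsW_length w), ← ih fun s hs => hw s (List.mem_cons_of_mem _ hs),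
      ← colsX_spec h ⟨r, hr⟩, nprod_cons, Units.val_mul, xn, dif_pos hr, Good.coe_xu]
    simp only [Matrix.reindex_apply, Matrix.submatrix_mul_equiv]

theorem colsM_spec (h : RowsOK D f) (w : List ℕ) (hw : ∀ r ∈ w, r < D.nroots) :
    (((nprod C (K := ZMod 2) w : GL D.Idx (ZMod 2)) : Matrix D.Idx D.Idx (ZMod 2)) - 1).reindex (posEquiv D) (posEquiv D) =
      bitMat (D.rank + D.nroots) (D.rank + D.nroots) (colsM D f w) := by
  have h1 := colsW_spec C h w hw
  ext i j
  have h2 := congrFun (congrFun h1 i) j
  have h3 := congrFun (congrFun (bitMat_id (D.rank + D.nroots)) i) j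
  simp only [Matrix.reindex_apply, Matrix.submatrix_apply, Matrix.sub_apply] at h2 ⊢
  rw [h2, show (1 : Matrix D.Idx D.Idx (ZMod 2)) ((posEquiv D).symm i) ((posEquiv D).symm j) =
      (1 : Matrix (Fin (D.rank + D.nroots)) (Fin (D.rank + D.nroots)) (ZMod 2)) i j by
    simp [Matrix.one_apply], ← h3]
  have hl1 : j.val < (colsW D f w).length := by rw [colsW_length]; exact j.isLt
  have hl2 : j.val < (idCols (D.rank + D.nroots)).length := by simp [idCols]
  simp only [bitMat, Matrix.of_apply, colsM, List.getD_eq_getElem?_getD, List.getElem?_zipWith,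
    List.getElem?_eq_getElem hl1, List.getElem?_eq_getElem hl2, Option.map_some, Option.bind_some,
    Option.getD_some, Nat.testBit_xor, bz_xor, CharTwo.sub_eq_add]

theorem nprod_map {K : Type*} [Field K] (φ : ZMod 2 →+* K) (w : List ℕ) :
    ((nprod C (K := K) w : GL D.Idx K) : Matrix D.Idx D.Idx K) =
      ((nprod C (K := ZMod 2) w : GL D.Idx (ZMod 2)) : Matrix D.Idx D.Idx (ZMod 2)).map φ := by
  induction w with
  | nil => simp [nprod]
  | cons r w ih =>
    rw [nprod_cons, nprod_cons, Units.val_mul, Units.val_mul, Matrix.map_mul, ih]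
    congr 1
    unfold xn
    split
    · rw [Good.coe_xu, Good.coe_xu, xg_map, map_one]
    · simp

theorem rank_eq (h : RowsOK D f) {K : Type*} [Field K] [CharP K 2] {w : List ℕ} {k : ℕ} {B A P Q : List ℕ}
    (hc : chkRank D f w k B A P Q = true) :
    (((nprod C (K := K) w : GL D.Idx K) : Matrix D.Idx D.Idx K) - 1).rank = k := by
  simp only [chkRank, Bool.and_eq_true, Nat.beq_eq, beq_iff_eq] at hc
  obtain ⟨⟨⟨⟨⟨⟨hw, hB⟩, hA⟩, hP⟩, hQ⟩, hAB⟩, hPQ⟩ := hc
  have hw' : ∀ r ∈ w, r < D.nroots := fun r hr => by simpa [Nat.blt_eq] using allList_spec hw r hr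
  set N := D.rank + D.nroots
  have hM := colsM_spec C h w hw'
  have hMl : (colsM D f w).length = N := by simp [colsM, colsW_length, idCols, N]
  let φ : ZMod 2 →+* K := ZMod.castHom dvd_rfl K
  have e1 : bitMat N N (colsM D f w) = bitMat N k B * bitMat k N A := by
    rw [bitMat_mul N k N B A hB hA, hAB]
  have e2 : bitMat k N P * (bitMat N N (colsM D f w) * bitMat N k Q) = 1 := by
    rw [bitMat_mul N N k _ Q hMl hQ, bitMat_mul k N k P _ hP (by rw [List.length_map, hQ]), hPQ, bitMat_id]
  set M : Matrix (Fin N) (Fin N) K := (bitMat N N (colsM D f w)).map φ with hMdef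
  have hrank : M.rank = k := by
    refine le_antisymm ?_ ?_
    · rw [hMdef, e1, Matrix.map_mul]
      refine (Matrix.rank_mul_le_left _ _).trans ((Matrix.rank_le_card_width _).trans ?_)
      simp
    · have h2 := congrArg (fun X : Matrix (Fin k) (Fin k) (ZMod 2) => X.map φ) e2
      simp only [Matrix.map_mul, Matrix.map_one _ (map_zero φ) (map_one φ)] at h2
      calc k = (1 : Matrix (Fin k) (Fin k) K).rank := by rw [Matrix.rank_one, Fintype.card_fin]
        _ ≤ (M * (bitMat N k Q).map φ).rank := h2 ▸ Matrix.rank_mul_le_right _ _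
        _ ≤ M.rank := Matrix.rank_mul_le_left _ _
  rw [← hrank, hMdef, ← hM, nprod_map C φ w]
  rw [← Matrix.rank_submatrix (((nprod C (K := ZMod 2) w : GL D.Idx (ZMod 2)) : Matrix D.Idx D.Idx (ZMod 2)).map φ - 1)
    (posEquiv D).symm (posEquiv D).symm]
  congr 1
  ext i j
  simp [Matrix.one_apply, apply_ite φ]

end CfsgLib.Lie.Laced
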