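import Cfsg.Agent.Lib.Lie.Laced.Collect
import Cfsg.Agent.Lib.Lie.Chev.CoxCert

/-!
# Classification of products over orthogonal roots from a certificate
-/

set_option autoImplicit false
set_option linter.style.haveILetI false

namespace CfsgLib.Lie.Laced

open Cfsg.Lie CfsgLib.Lie.Chev
open scoped MatrixGroups

/-- a reduction: `word₁` maps representative `i` to `conf`, conjugation by the word `conj` turns it into
`out`, and `word₂` maps `out` to representative `j` -/
structure Red where
  i : ℕ
  word₁ : List ℕ
  conf : List ℕ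
  conj : List ℕ
  out : List ℕ
  word₂ : List ℕ
  j : ℕ

/-- the data of a classification -/
structure OrthData where
  reps : List (List ℕ)
  steps : List (ℕ × ℕ × List ℕ × ℕ)
  reds : List Red
  targets : List ℕ

section checks

variable (D : ChevalleyDatum) (f : Fast) (O : OrthData)

/-- a word maps one list onto another -/
noncomputable def mapsB (w A B : List ℕ) : Bool :=
  allList w (fun i => Nat.blt i D.rank) && (A.map (wordF f w)).isPerm B

/-- positivity from the fast tables -/
noncomputable def posB (r : ℕ) : Bool :=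
  Nat.blt r D.nroots && allList (f.cor.get r) (fun e => decide (0 ≤ e.2))

/-- every extension of a representative is covered -/
noncomputable def chkSteps : Bool :=
  (O.reps.head? == some []) && allList O.reps (fun R => allList R fun s => Nat.blt s D.nroots) &&
  allLt O.reps.length fun i => allLt D.nroots fun r =>
    cond (allList (O.reps.getD i []) fun s => intBeq (ipF f r s) 0)
      (O.steps.any fun x => Nat.beq x.1 i && Nat.beq x.2.1 r && Nat.blt x.2.2.2 O.reps.length &&
        mapsB D f x.2.2.1 (r :: O.reps.getD i []) (O.reps.getD x.2.2.2 []))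
      true

/-- one reduction is valid -/
noncomputable def redB (x : Red) : Bool :=
  Nat.blt x.j x.i && Nat.blt x.i O.reps.length &&
    allList (x.conf ++ (x.conj ++ x.out)) (posB D f) &&
    mapsB D f x.word₁ (O.reps.getD x.i []) x.conf && mapsB D f x.word₂ x.out (O.reps.getD x.j []) &&
    (collect D f 300 (x.conj ++ (x.conf ++ x.conj.reverse)) == collect D f 300 x.out)

/-- every representative other than a target can be reduced -/
noncomputable def chkReds : Bool :=
  allList O.reds (redB D f O) &&
    allLt O.reps.length fun i => Nat.beq i 0 || O.targets.any (Nat.beq i) || O.reds.any fun x => Nat.beq x.i i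

/-- representatives are orthogonal -/
noncomputable def chkOrthReps : Bool :=
  allList O.reps fun R => decide R.Nodup && allList R fun a => allList R fun b => Nat.beq a b || intBeq (ipF f a b) 0

end checks

variable {D : ChevalleyDatum} {f : Fast} {C : Full D} (hL : IsLaced D C)

theorem rho_w_sum (i : Fin D.rank) {a b z : Fin D.nroots} (e : C.G.rho z = C.G.rho a + C.G.rho b) :
    C.G.rho (C.G.w i z) = C.G.rho (C.G.w i a) + C.G.rho (C.G.w i b) := by
  have hc : cart D i z = cart D i a + cart D i b := by
    simp only [C.G.cart_eq i z, C.G.cart_eq i a, C.G.cart_eq i b, e, Pi.add_apply, add_mul, Finset.sum_add_distrib]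
  rw [C.G.rho_w, C.G.rho_w, C.G.rho_w, e, hc, add_smul]
  abel

include hL

theorem ip_zero_iff (a b : Fin D.nroots) : ip D a b = 0 ↔ b ≠ a ∧ b ≠ C.G.negr a ∧
    (¬ ∃ z, C.G.rho z = C.G.rho a + C.G.rho b) ∧ ¬ ∃ z, C.G.rho z = C.G.rho a + C.G.rho (C.G.negr b) := by
  constructor
  · intro h
    refine ⟨fun e => ?_, fun e => ?_, fun ⟨z, hz⟩ => ?_, fun ⟨z, hz⟩ => ?_⟩
    · rw [e, hL.2.1] at h; omega
    · rw [e, ip_negr, hL.2.1] at h; omega
    · have := ip_sum_eq hL hz; omega
    · have := ip_sum_eq hL hz; rw [ip_negr] at this; omega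
  · rintro ⟨h1, h2, h3, h4⟩
    rcases ip_le hL a b h1 h2 with h | h | h
    · exact absurd (exists_sum hL h) h3
    · exact h
    · exact absurd (exists_sum hL (r := a) (s := C.G.negr b) (by rw [ip_negr, h])) h4

theorem ip_zero_w (i : Fin D.rank) {a b : Fin D.nroots} (h : ip D a b = 0) :
    ip D (C.G.w i a) (C.G.w i b) = 0 := by
  rw [ip_zero_iff hL] at h ⊢
  refine ⟨fun e => h.1 (C.G.w_injective i e), fun e => h.2.1 ?_, fun ⟨z, hz⟩ => h.2.2.1 ?_,
    fun ⟨z, hz⟩ => h.2.2.2 ?_⟩
  · rw [← C.G.w_negr] at e
    exact C.G.w_injective i e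
  · refine ⟨C.G.w i z, ?_⟩
    have := rho_w_sum (C := C) i hz
    rwa [C.G.w_w, C.G.w_w] at this
  · refine ⟨C.G.w i z, ?_⟩
    rw [← C.G.w_negr] at hz
    have := rho_w_sum (C := C) i hz
    rwa [C.G.w_w, C.G.w_w] at this

theorem ip_zero_pw (l : List (Fin D.rank)) {a b : Fin D.nroots} (h : ip D a b = 0) :
    ip D (C.G.pw l a) (C.G.pw l b) = 0 := by
  induction l with
  | nil => simpa [C.G.pw_nil] using h
  | cons i l ih => simp only [C.G.pw_cons, Equiv.Perm.mul_apply, Good.sP_apply]; exact ip_zero_w hL i ih

omit hL
variable {K : Type*} [Field K] [CharP K 2]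

variable (C) in
theorem nw_conj (l : List (Fin D.rank)) (r : Fin D.nroots) :
    C.G.nw l * C.G.xu r (1 : K) * (C.G.nw l)⁻¹ = C.G.xu (C.G.pw l r) 1 := by
  induction l with
  | nil => simp [Good.nw_nil, C.G.pw_nil]
  | cons i l ih =>
    rw [C.G.nw_cons, C.G.pw_cons, Equiv.Perm.mul_apply, Good.sP_apply,
      show C.G.nU i * C.G.nw l * C.G.xu r (1 : K) * (C.G.nU i * C.G.nw l)⁻¹ =
        C.G.nU i * (C.G.nw l * C.G.xu r 1 * (C.G.nw l)⁻¹) * (C.G.nU i)⁻¹ by group, ih, C.G.nU_xu,
      mul_assoc, mul_inv_cancel, mul_one]
    congr 1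
    rcases C.G.eta_unit i (C.G.pw l r) with e | e <;> simp [e, CharTwo.neg_eq]

variable (C) in
theorem cj_pw (l : List (Fin D.rank)) (T : List (Fin D.nroots)) :
    Cj (xprod C (K := K) T) (xprod C (T.map (C.G.pw l))) := by
  refine ⟨C.G.nw l, C.G.monomial_le_group (C.G.nw_mem_monomial l), ?_⟩
  induction T with
  | nil => simp [xprod]
  | cons a T ih =>
    simp only [xprod, List.map_cons, List.prod_cons] at ih ⊢
    rw [← nw_conj C, ← ih]
    group

include hL

theorem xprod_perm {T T' : List (Fin D.nroots)} (h : T.Perm T') (hT : T.Pairwise fun a b => ip D a b = 0) :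
    xprod C (K := K) T = xprod C T' := by
  refine (h.map _).prod_eq' (List.pairwise_map.2 (hT.imp fun {a b} hab => ?_))
  have hn : b ≠ C.G.negr a := fun e => by rw [e, ip_negr, hL.2.1] at hab; omega
  exact (xu_commute hL (Or.inl hab) hn 1 1).symm

omit [CharP K 2] hL in
theorem posB_spec (h : RowsOK D f) {r : ℕ} (hr : posB D f r = true) : D.IsPosRoot r := by
  simp only [posB, Bool.and_eq_true, Nat.blt_eq] at hr
  refine ⟨hr.1, fun c hc => ?_⟩
  obtain ⟨i, hi, rfl⟩ := List.mem_iff_getElem.1 hc
  rw [Array.length_toList] at hi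
  have hi' : i < D.rank := by rwa [h.corsize r hr.1] at hi
  have := allList_spec hr.2 (i, (D.coroot.getD r #[]).getD i 0)
    (by rw [h.cor r hr.1]; exact List.mem_map.2 ⟨i, List.mem_range.2 hi', rfl⟩)
  simp only [decide_eq_true_eq] at this
  have hget : (D.coroot.getD r #[]).getD i 0 = ((D.coroot.getD r #[]).toList)[i] := by
    rw [Array.getD_eq_getD_getElem?, Array.getElem?_eq_getElem hi, Option.getD_some]
    rfl
  exact hget ▸ this

omit [CharP K 2] hL in
theorem mapsB_spec (hc : Checks D f) {w A B : List ℕ} (hA : ∀ a ∈ A, a < D.nroots)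
    (h : mapsB D f w A B = true) : ∃ l : List (Fin D.rank), ∀ TA TB : List (Fin D.nroots),
      TA.map Fin.val = A → TB.map Fin.val = B → (TA.map (C.G.pw l)).Perm TB := by
  simp only [mapsB, Bool.and_eq_true] at h
  have hw : ∀ i ∈ w, i < D.rank := fun i hi => by simpa [Nat.blt_eq] using allList_spec h.1 i hi
  refine ⟨w.pmap (fun i hi => (⟨i, hi⟩ : Fin D.rank)) hw, fun TA TB eA eB => ?_⟩
  refine (List.map_perm_map_iff Fin.val_injective).1 ?_
  have e : (w.pmap (fun i hi => (⟨i, hi⟩ : Fin D.rank)) hw).map Fin.val = w := by simp [List.map_pmap]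
  rw [List.map_map, eB]
  have e2 : TA.map (Fin.val ∘ C.G.pw (w.pmap (fun i hi => (⟨i, hi⟩ : Fin D.rank)) hw)) = A.map (wordF f w) := by
    rw [← eA, List.map_map]
    refine List.map_congr_left fun a _ => ?_
    simp only [Function.comp_apply, C.G.pw_val hc, e]
  rw [e2]
  exact List.isPerm_iff.1 h.2

/-- the roots of a list of indices -/
def toRoots (D : ChevalleyDatum) (A : List ℕ) : List (Fin D.nroots) :=
  A.filterMap fun a => if h : a < D.nroots then some ⟨a, h⟩ else none

omit [CharP K 2] hL in
theorem toRoots_val {A : List ℕ} (hA : ∀ a ∈ A, a < D.nroots) : (toRoots D A).map Fin.val = A := by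
  induction A with
  | nil => rfl
  | cons a A ih =>
    have ha := hA a List.mem_cons_self
    have := ih fun b hb => hA b (List.mem_cons_of_mem _ hb)
    simp only [toRoots] at this ⊢
    rw [List.filterMap_cons, dif_pos ha]
    simp only [List.map_cons, this]

omit [CharP K 2] in
theorem exists_rep (hc : Checks D f) {O : OrthData} (ho : chkSteps D f O = true) :
    ∀ T : List (Fin D.nroots), T.Pairwise (fun a b => ip D a b = 0) →
    ∃ i < O.reps.length, ∃ l : List (Fin D.rank), (T.map (C.G.pw l)).Perm (toRoots D (O.reps.getD i [])) := by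
  simp only [chkSteps, Bool.and_eq_true, beq_iff_eq] at ho
  obtain ⟨⟨hhead, hlt⟩, hcov⟩ := ho
  have h := rowsOK hc.rows
  have hR : ∀ i, ∀ a ∈ O.reps.getD i [], a < D.nroots := fun i a ha => by
    by_cases hi : i < O.reps.length
    · rw [List.getD_eq_getElem _ _ hi] at ha
      simpa [Nat.blt_eq] using allList_spec (allList_spec hlt _ (List.getElem_mem hi)) a ha
    · rw [List.getD_eq_default _ _ (not_lt.1 hi)] at ha
      simp at ha
  intro T
  induction T with
  | nil =>
    intro _
    obtain ⟨R, hR'⟩ : ∃ R, O.reps = [] :: R := by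
      cases hO : O.reps with
      | nil => simp [hO] at hhead
      | cons a R => simp [hO] at hhead; exact ⟨R, by rw [hhead]⟩
    exact ⟨0, by simp [hR'], [], by simp [hR', toRoots]⟩
  | cons a T ih =>
    intro hp
    rw [List.pairwise_cons] at hp
    obtain ⟨i, hi, l, hl⟩ := ih hp.2
    set a' := C.G.pw l a with ha'
    have hcond : (allList (O.reps.getD i []) fun s => intBeq (ipF f a'.val s) 0) = true := by
      have hall : ∀ s ∈ O.reps.getD i [], intBeq (ipF f a'.val s) 0 = true := by
        intro s hs
        have hs' : (⟨s, hR i s hs⟩ : Fin D.nroots) ∈ toRoots D (O.reps.getD i []) :=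
          List.mem_filterMap.2 ⟨s, hs, dif_pos (hR i s hs)⟩
        obtain ⟨b, hb, hbs⟩ := List.mem_map.1 (hl.mem_iff.2 hs')
        have h0 := ip_zero_pw hL l (hp.1 b hb)
        rw [hbs] at h0
        rw [show ipF f a'.val s = ip D a' ⟨s, hR i s hs⟩ from ipF_eq h a' ⟨s, hR i s hs⟩, ha', h0]
        rfl
      revert hall
      generalize O.reps.getD i [] = L
      intro hall
      induction L with
      | nil => rfl
      | cons x L ihL =>
        show cond (intBeq (ipF f a'.val x) 0) (allList L fun s => intBeq (ipF f a'.val s) 0) false = true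
        rw [hall x List.mem_cons_self, cond_true]
        exact ihL fun s hs => hall s (List.mem_cons_of_mem _ hs)
    have hx := allLt_spec (allLt_spec hcov i hi) a'.val a'.isLt
    rw [hcond, cond_true, List.any_eq_true] at hx
    obtain ⟨⟨i', r', w, j⟩, -, hx⟩ := hx
    simp only [Bool.and_eq_true, Nat.beq_eq, Nat.blt_eq] at hx
    obtain ⟨⟨⟨rfl, rfl⟩, hj⟩, hmap⟩ := hx
    obtain ⟨l', hl'⟩ := mapsB_spec (C := C) hc (A := a'.val :: O.reps.getD i' []) (fun b hb => by
      rcases List.mem_cons.1 hb with rfl | hb
      exacts [a'.isLt, hR i' b hb]) hmap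
    refine ⟨j, hj, l' ++ l, ?_⟩
    have h1 := hl' (a' :: toRoots D (O.reps.getD i' [])) (toRoots D (O.reps.getD j []))
      (by rw [List.map_cons, toRoots_val (hR i')]) (toRoots_val (hR j))
    have h2 : ((a :: T).map (C.G.pw (l' ++ l))) = ((a :: T).map (C.G.pw l)).map (C.G.pw l') := by
      rw [List.map_map]
      refine List.map_congr_left fun x _ => ?_
      rw [Good.pw_append, Equiv.Perm.mul_apply]
      rfl
    rw [h2, List.map_cons]
    exact ((hl.cons a').map _).trans h1

theorem classify [Fintype K] (hc : Checks D f) (hk : KeysOK D) {O : OrthData}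
    (ho : chkSteps D f O = true) (hor : chkOrthReps f O = true) (hred : chkReds D f O = true)
    {g : GL D.Idx K} (hg : g ∈ D.group K) (h2 : orderOf g = 2) :
    ∃ t ∈ O.targets, Cj g (nprod C (O.reps.getD t [])) := by
  have h := rowsOK hc.rows
  obtain ⟨T, hT, -, hgT⟩ := exists_orth hL hg h2
  obtain ⟨i, hi, l, hl⟩ := exists_rep hL hc ho T hT
  have ho' := ho
  simp only [chkSteps, Bool.and_eq_true, beq_iff_eq] at ho'
  obtain ⟨⟨hhead, hlt⟩, -⟩ := ho'
  have hR : ∀ i, ∀ a ∈ O.reps.getD i [], a < D.nroots := fun i a ha => by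
    by_cases hi : i < O.reps.length
    · rw [List.getD_eq_getElem _ _ hi] at ha
      simpa [Nat.blt_eq] using allList_spec (allList_spec hlt _ (List.getElem_mem hi)) a ha
    · rw [List.getD_eq_default _ _ (not_lt.1 hi)] at ha
      simp at ha
  have hTl : (T.map (C.G.pw l)).Pairwise fun a b => ip D a b = 0 :=
    List.pairwise_map.2 (hT.imp fun hab => ip_zero_pw hL l hab)
  have hgi : Cj g (nprod C (O.reps.getD i [])) := by
    have := hgT.trans (cj_pw C l T)
    rwa [xprod_perm hL hl hTl, ← nprod_val, toRoots_val (hR i)] at this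
  simp only [chkReds, Bool.and_eq_true] at hred
  obtain ⟨hok, hall⟩ := hred
  simp only [chkOrthReps] at hor
  clear hl hTl
  induction i using Nat.strong_induction_on with
  | _ i ih =>
    have hx := allLt_spec hall i hi
    simp only [Bool.or_eq_true, List.any_eq_true, Nat.beq_eq] at hx
    rcases hx with (rfl | ⟨t, ht, rfl⟩) | ⟨x, hxm, rfl⟩
    · exfalso
      obtain ⟨R, hR'⟩ : ∃ R, O.reps = [] :: R := by
        cases hO : O.reps with
        | nil => simp [hO] at hhead
        | cons a R => simp [hO] at hhead; exact ⟨R, by rw [hhead]⟩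
      obtain ⟨y, -, e⟩ := hgi
      rw [hR', List.getD_cons_zero, show nprod C (K := K) [] = 1 by simp [nprod], mul_inv_eq_one, mul_eq_left] at e
      rw [e, orderOf_one] at h2
      omega
    · exact ⟨_, ht, hgi⟩
    · have hxr := allList_spec hok x hxm
      simp only [redB, Bool.and_eq_true, Nat.blt_eq, beq_iff_eq] at hxr
      obtain ⟨⟨⟨⟨⟨hji, -⟩, hpos⟩, hm1⟩, hm2⟩, hcol⟩ := hxr
      have hp : ∀ r ∈ x.conf ++ (x.conj ++ x.out), D.IsPosRoot r := fun r hr => posB_spec h (allList_spec hpos r hr)
      obtain ⟨l1, hl1⟩ := mapsB_spec (C := C) hc (hR x.i) hm1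
      have hout : ∀ a ∈ x.out, a < D.nroots := fun a ha => (hp a (by simp [ha])).1
      have hconf : ∀ a ∈ x.conf, a < D.nroots := fun a ha => (hp a (by simp [ha])).1
      obtain ⟨l2, hl2⟩ := mapsB_spec (C := C) hc hout hm2
      have horth : ∀ k < O.reps.length, (toRoots D (O.reps.getD k [])).Nodup →
          (toRoots D (O.reps.getD k [])).Pairwise fun a b => ip D a b = 0 := by
        intro k hk' hnd
        refine List.Pairwise.imp_of_mem (fun {a b} ha hb hab => ?_) hnd
        obtain ⟨a', ha', e⟩ := List.mem_filterMap.1 ha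
        obtain ⟨b', hb', e'⟩ := List.mem_filterMap.1 hb
        rw [dif_pos (hR k a' ha'), Option.some.injEq] at e
        rw [dif_pos (hR k b' hb'), Option.some.injEq] at e'
        subst e e'
        rw [List.getD_eq_getElem _ _ hk'] at ha' hb'
        have hR0 := allList_spec hor _ (List.getElem_mem hk')
        rw [Bool.and_eq_true] at hR0
        have := allList_spec (allList_spec hR0.2 a' ha') b' hb'
        rw [natBeq_false (fun e => hab (Fin.ext e)), Bool.false_or] at this
        rw [← ipF_eq h]
        exact intBeq_spec this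
      -- the representative is conjugate to the configuration
      have hnd : ∀ k < O.reps.length, (O.reps.getD k []).Nodup → (toRoots D (O.reps.getD k [])).Nodup := by
        intro k _ hn
        rw [← List.nodup_map_iff Fin.val_injective, toRoots_val (hR k)]
        exact hn
      have hjl : x.j < O.reps.length := by omega
      have e1 := hl1 (toRoots D (O.reps.getD x.i [])) (toRoots D x.conf) (toRoots_val (hR x.i)) (toRoots_val hconf)
      have e2 := hl2 (toRoots D x.out) (toRoots D (O.reps.getD x.j [])) (toRoots_val hout) (toRoots_val (hR x.j))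
      have hnod : ∀ k < O.reps.length, (O.reps.getD k []).Nodup := fun k hk' => by
        have hR0 := allList_spec hor _ (List.getElem_mem hk')
        rw [Bool.and_eq_true, decide_eq_true_eq] at hR0
        rw [List.getD_eq_getElem _ _ hk']
        exact hR0.1
      have hdi := And.intro (hnod x.i hi) (hnod x.j hjl)
      · have h1' : Cj (nprod C (K := K) (O.reps.getD x.i [])) (nprod C x.conf) := by
          have := cj_pw (K := K) C l1 (toRoots D (O.reps.getD x.i []))
          rwa [xprod_perm hL e1 (List.pairwise_map.2 ((horth x.i hi (hnd x.i hi hdi.1)).imp fun hab =>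
            ip_zero_pw hL l1 hab)), ← nprod_val, ← nprod_val, toRoots_val (hR x.i), toRoots_val hconf] at this
        have h2' : Cj (nprod C (K := K) x.conf) (nprod C x.out) := by
          refine ⟨nprod C x.conj, ?_, ?_⟩
          · refine list_prod_mem fun y hy => ?_
            obtain ⟨r, hr, rfl⟩ := List.mem_map.1 hy
            rw [xn]
            split
            · exact C.G.xu_mem _ _
            · exact one_mem _
          · have hrev : ∀ l : List ℕ, (nprod C (K := K) l)⁻¹ = nprod C l.reverse := by
              intro l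
              induction l with
              | nil => simp [nprod]
              | cons a l ihl =>
                rw [nprod_cons, _root_.mul_inv_rev, ihl, List.reverse_cons, nprod_append]
                refine congrArg₂ (· * ·) rfl ?_
                simp only [nprod, List.map_cons, List.map_nil, List.prod_cons, List.prod_nil, mul_one, xn]
                split
                · exact xu_inv_self C _ _
                · exact inv_one
            have hp' : ∀ r ∈ x.conj ++ (x.conf ++ x.conj.reverse), D.IsPosRoot r := fun r hr => hp r (by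
              simp only [List.mem_append, List.mem_reverse] at hr ⊢
              rcases hr with hr | hr | hr
              exacts [Or.inr (Or.inl hr), Or.inl hr, Or.inr (Or.inl hr)])
            rw [hrev, ← nprod_append, ← nprod_append, List.append_assoc]
            exact nprod_eq_of_collect hL h hk hp' (fun r hr => hp r (by simp [hr])) hcol
        have h3' : Cj (nprod C (K := K) x.out) (nprod C (O.reps.getD x.j [])) := by
          have := cj_pw (K := K) C l2 (toRoots D x.out)
          rwa [xprod_perm hL e2 (e2.symm.pairwise (horth x.j hjl (hnd x.j hjl hdi.2))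
            (fun {a b} hab => (hL.1 b a).trans hab)), ← nprod_val, ← nprod_val, toRoots_val (hR x.j),
            toRoots_val hout] at this
        exact ih x.j hji hjl (((hgi.trans h1').trans h2').trans h3')

end CfsgLib.Lie.Laced
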