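import Cfsg.Agent.Lib.Lie.Laced.RankE6
import Cfsg.Agent.Lib.Lie.Chev.FullAll

/-!
# The certificate of the involution classes of type E6
-/

set_option autoImplicit false
set_option maxRecDepth 100000

namespace CfsgLib.Lie.Laced

open Cfsg.Lie CfsgLib.Lie.Chev

theorem lacedE6 : chkLaced chevE6 fastE6 = true := by decide +kernel

theorem stepsE6_ok : chkSteps chevE6 fastE6 orthE6 = true := by decide +kernel

theorem orthE6_ok : chkOrthReps fastE6 orthE6 = true := by decide +kernel

theorem redsE6_ok : chkReds chevE6 fastE6 orthE6 = true := by decide +kernel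

theorem certE6 (C : Full chevE6) : InvolCert chevE6 fastE6 C orthE6 rkE6 where
  checks := checksE6
  keys := C.keys
  laced := isLaced C (rowsOK checksE6.rows) C.keys lacedE6
  steps := stepsE6_ok
  orth := orthE6_ok
  reds := redsE6_ok
  rank_ne := by decide +kernel
  rank_inj := by decide +kernel
  rank := fun t ht => by
    simp only [orthE6, List.mem_cons, List.not_mem_nil, or_false] at ht
    rcases ht with rfl | rfl | rfl
    exacts [rankE6_1, rankE6_2, rankE6_3]

end CfsgLib.Lie.Laced
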