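import Cfsg.Agent.Lib.Lie.Laced.OrthTwist

/-!
# Scaling the coefficients by a fixed element of the torus
-/

set_option autoImplicit false
set_option linter.style.haveILetI false
set_option linter.unusedSectionVars false
set_option maxHeartbeats 1000000

namespace CfsgLib.Lie.Laced.TwLaced

open Cfsg.Lie CfsgLib.Lie.Chev
open scoped MatrixGroups

variable {D : ChevalleyDatum} {C : Full D} {K : Type*} [Field K] [CharP K 2]
variable {T : Twist C.G K} {θ : K ≃+* K} {h : Fin D.nroots → ℤ} (H : TwLaced T θ h)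

/-- the roots of an orbit -/
def orbR (T : Twist C.G K) (r : Fin D.nroots) : List (Fin D.nroots) :=
  if T.p r = r then [r] else [r, T.p r]

include H

theorem zr_p' {m a : Fin D.nroots} (ha : Zr T m a) : Zr T m (T.p a) :=
  ⟨by rw [← H.ip_p]; exact ha.2, by rw [H.ipp]; exact ha.1⟩

theorem zr_symm {m a : Fin D.nroots} (ha : Zr T m a) : Zr T a m :=
  ⟨by rw [H.laced.1]; exact ha.1, by rw [H.ip_p, H.laced.1]; exact ha.2⟩

theorem φ_hd (r : Fin D.nroots) (u : Kˣ) :
    (T.φ ⟨C.G.hd r u, C.G.diagonal_le_group (C.G.hd_mem_H _ _)⟩ : GL D.Idx K) =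
      C.G.hd (T.p r) (Units.map θ.toMonoidHom u) := by
  have e : ∀ (j : Fin D.nroots) (v : Kˣ),
      (⟨C.G.hd j v, C.G.diagonal_le_group (C.G.hd_mem_H _ _)⟩ : ↥(D.group K)) =
        (⟨C.G.xu j (v : K), C.G.xu_mem _ _⟩ * ⟨C.G.xu (C.G.negr j) (-(v : K)⁻¹), C.G.xu_mem _ _⟩ *
          ⟨C.G.xu j (v : K), C.G.xu_mem _ _⟩) *
        (⟨C.G.xu j (-1), C.G.xu_mem _ _⟩ * ⟨C.G.xu (C.G.negr j) (-(-1)⁻¹), C.G.xu_mem _ _⟩ *
          ⟨C.G.xu j (-1), C.G.xu_mem _ _⟩) := fun j v => Subtype.ext (C.G.hE_eq j v).symm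
  rw [show C.G.hd (T.p r) (Units.map θ.toMonoidHom u) =
    ((⟨C.G.hd (T.p r) (Units.map θ.toMonoidHom u), C.G.diagonal_le_group (C.G.hd_mem_H _ _)⟩ : ↥(D.group K)) :
      GL D.Idx K) from rfl, e, e]
  simp only [map_mul, T.φ_xu, H.eps, H.sig, T.p_negr, one_mul, map_neg, map_one, map_inv₀]
  rfl

theorem hd_orb_fix (r : Fin D.nroots) (u : Kˣ) (hu : T.p r = r → θ (u : K) = u) :
    (if T.p r = r then C.G.hd r u else C.G.hd r u * C.G.hd (T.p r) (Units.map θ.toMonoidHom u)) ∈ T.Fix := by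
  split
  · next e =>
    refine T.mem_Fix.2 ⟨C.G.diagonal_le_group (C.G.hd_mem_H _ _), Subtype.ext ?_⟩
    rw [H.φ_hd, e]
    congr 1
    exact Units.ext (hu e)
  · refine T.mem_Fix.2 ⟨mul_mem (C.G.diagonal_le_group (C.G.hd_mem_H _ _))
      (C.G.diagonal_le_group (C.G.hd_mem_H _ _)), Subtype.ext ?_⟩
    rw [show (⟨C.G.hd r u * C.G.hd (T.p r) (Units.map θ.toMonoidHom u), _⟩ : ↥(D.group K)) =
      ⟨C.G.hd r u, C.G.diagonal_le_group (C.G.hd_mem_H _ _)⟩ *
        ⟨C.G.hd (T.p r) (Units.map θ.toMonoidHom u), C.G.diagonal_le_group (C.G.hd_mem_H _ _)⟩ from rfl, map_mul,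
      Subgroup.coe_mul, H.φ_hd, H.φ_hd, H.pp]
    rw [show Units.map θ.toMonoidHom (Units.map θ.toMonoidHom u) = u from Units.ext (H.th _)]
    exact C.G.diagonal_comm (C.G.hd_mem_H _ _) (C.G.hd_mem_H _ _)

theorem orbProd_flat (l : List (Fin D.nroots)) :
    H.orbProd (l.map fun r => (r, (1 : K))) = xprod C (l.flatMap (orbR T)) := by
  induction l with
  | nil => simp [orbProd, xprod]
  | cons r l ih =>
    rw [List.flatMap_cons, List.map_cons]
    simp only [orbProd, List.map_cons, List.prod_cons] at ih ⊢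
    rw [ih]
    unfold orbEl orbR xprod
    split <;> simp [map_one, mul_assoc]

/-- the coefficients can be scaled to one by a fixed element -/
theorem scale_orb [Finite K] : ∀ L : List (Fin D.nroots × K), L.Pairwise (fun a b => Zr T a.1 b.1) →
    (∀ a ∈ L, D.IsPosRoot a.1.val ∧ a.2 ≠ 0 ∧ (T.p a.1 = a.1 → θ a.2 = a.2)) →
    ∃ g ∈ T.Fix, (∀ q : Fin D.nroots, (∀ a ∈ L, Zr T a.1 q) → ∀ t : K, g * C.G.xu q t * g⁻¹ = C.G.xu q t) ∧
      g * H.orbProd L * g⁻¹ = xprod C ((L.map Prod.fst).flatMap (orbR T)) := by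
  intro L
  induction L with
  | nil => intro _ _; exact ⟨1, one_mem _, fun q _ t => by simp, by simp [orbProd, xprod]⟩
  | cons a L ih =>
    intro hp hne
    rw [List.pairwise_cons] at hp
    obtain ⟨g, hg, hfix, he⟩ := ih hp.2 fun b hb => hne b (List.mem_cons_of_mem _ hb)
    obtain ⟨hpos, ha0, haf⟩ := hne a List.mem_cons_self
    obtain ⟨y, hy⟩ := (bijective_frobenius K 2).2 a.2⁻¹
    rw [frobenius_def] at hy
    have hy0 : y ≠ 0 := by
      rintro rfl
      exact inv_ne_zero ha0 (by simpa using hy.symm)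
    set u := Units.mk0 y hy0
    have huf : T.p a.1 = a.1 → θ (u : K) = u := fun e => by
      refine (bijective_frobenius K 2).1 ?_
      simp only [frobenius_def, u, Units.val_mk0, ← map_pow, hy, map_inv₀, haf e]
    set U := Units.map θ.toMonoidHom u
    set e := if T.p a.1 = a.1 then C.G.hd a.1 u else C.G.hd a.1 u * C.G.hd (T.p a.1) U with hedef
    have hef : ∀ q : Fin D.nroots, Zr T a.1 q → ∀ t : K, e * C.G.xu q t * e⁻¹ = C.G.xu q t := fun q hq t => by
      have h1 : ∀ v : K, C.G.hd a.1 u * C.G.xu q v * (C.G.hd a.1 u)⁻¹ = C.G.xu q v := fun v => by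
        rw [hd_conj, hq.1, zpow_zero, Units.val_one, one_mul]
      have h2 : C.G.hd (T.p a.1) U * C.G.xu q t * (C.G.hd (T.p a.1) U)⁻¹ = C.G.xu q t := by
        rw [hd_conj, hq.2, zpow_zero, Units.val_one, one_mul]
      rw [hedef]
      split
      · exact h1 t
      · calc _ = C.G.hd a.1 u * (C.G.hd (T.p a.1) U * C.G.xu q t * (C.G.hd (T.p a.1) U)⁻¹) * (C.G.hd a.1 u)⁻¹ := by
              group
          _ = _ := by rw [h2, h1]
    have hsq : (u : K) ^ 2 * a.2 = 1 := by rw [Units.val_mk0, hy, inv_mul_cancel₀ ha0]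
    have hea : e * H.orbEl a.1 a.2 * e⁻¹ = xprod C (orbR T a.1) := by
      have h1 : C.G.hd a.1 u * C.G.xu a.1 a.2 * (C.G.hd a.1 u)⁻¹ = C.G.xu a.1 1 := by
        rw [hd_conj, H.laced.2.1, zpow_ofNat, Units.val_pow_eq_pow_val, hsq]
      rw [hedef]
      unfold orbEl orbR xprod
      by_cases hf : T.p a.1 = a.1
      · simp only [if_pos hf, List.map_cons, List.map_nil, List.prod_cons, List.prod_nil, mul_one]; exact h1
      · have hor : ip D a.1 (T.p a.1) = 0 := (H.orth a.1).resolve_left hf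
        simp only [if_neg hf, List.map_cons, List.map_nil, List.prod_cons, List.prod_nil, mul_one]
        have h2 : C.G.hd (T.p a.1) U * C.G.xu a.1 a.2 * (C.G.hd (T.p a.1) U)⁻¹ = C.G.xu a.1 a.2 := by
          rw [hd_conj, show ip D (T.p a.1) a.1 = 0 by rw [H.laced.1, hor], zpow_zero, Units.val_one, one_mul]
        have h3 : C.G.hd (T.p a.1) U * C.G.xu (T.p a.1) (θ a.2) * (C.G.hd (T.p a.1) U)⁻¹ =
            C.G.xu (T.p a.1) 1 := by
          rw [hd_conj, H.laced.2.1, zpow_ofNat, Units.val_pow_eq_pow_val]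
          show C.G.xu (T.p a.1) (θ (u : K) ^ 2 * θ a.2) = _
          rw [← map_pow, ← map_mul, hsq, map_one]
        have h4 : C.G.hd a.1 u * C.G.xu (T.p a.1) 1 * (C.G.hd a.1 u)⁻¹ = C.G.xu (T.p a.1) 1 := by
          rw [hd_conj, hor, zpow_zero, Units.val_one, one_mul]
        calc _ = C.G.hd a.1 u * ((C.G.hd (T.p a.1) U * C.G.xu a.1 a.2 * (C.G.hd (T.p a.1) U)⁻¹) *
              (C.G.hd (T.p a.1) U * C.G.xu (T.p a.1) (θ a.2) * (C.G.hd (T.p a.1) U)⁻¹)) * (C.G.hd a.1 u)⁻¹ := by group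
          _ = (C.G.hd a.1 u * C.G.xu a.1 a.2 * (C.G.hd a.1 u)⁻¹) *
              (C.G.hd a.1 u * C.G.xu (T.p a.1) 1 * (C.G.hd a.1 u)⁻¹) := by rw [h2, h3]; group
          _ = _ := by rw [h1, h4]
    have hefix : e ∈ T.Fix := H.hd_orb_fix a.1 u huf
    have hgq : ∀ v, g * C.G.xu a.1 v * g⁻¹ = C.G.xu a.1 v := fun v =>
      hfix a.1 (fun b hb => H.zr_symm (hp.1 b hb)) v
    have hgq' : ∀ v, g * C.G.xu (T.p a.1) v * g⁻¹ = C.G.xu (T.p a.1) v := fun v =>
      hfix (T.p a.1) (fun b hb => H.zr_p' (H.zr_symm (hp.1 b hb))) v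
    have hga : g * H.orbEl a.1 a.2 * g⁻¹ = H.orbEl a.1 a.2 := by
      unfold orbEl
      split
      · exact hgq _
      · calc _ = (g * C.G.xu a.1 a.2 * g⁻¹) * (g * C.G.xu (T.p a.1) (θ a.2) * g⁻¹) := by group
          _ = _ := by rw [hgq, hgq']
    have hrest : e * xprod C (K := K) ((L.map Prod.fst).flatMap (orbR T)) * e⁻¹ =
        xprod C ((L.map Prod.fst).flatMap (orbR T)) := by
      have hl : ∀ l : List (Fin D.nroots), (∀ q ∈ l, Zr T a.1 q) →
          e * xprod C (K := K) l * e⁻¹ = xprod C l := by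
        intro l
        induction l with
        | nil => intro _; simp [xprod]
        | cons q l ihl =>
          intro hl
          simp only [xprod, List.map_cons, List.prod_cons] at ihl ⊢
          rw [show e * (C.G.xu q 1 * (l.map fun r => C.G.xu r (1 : K)).prod) * e⁻¹ =
            (e * C.G.xu q 1 * e⁻¹) * (e * (l.map fun r => C.G.xu r (1 : K)).prod * e⁻¹) by group,
            hef q (hl q List.mem_cons_self), ihl fun r hr => hl r (List.mem_cons_of_mem _ hr)]
      refine hl _ fun q hq => ?_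
      obtain ⟨r, hr, hq'⟩ := List.mem_flatMap.1 hq
      obtain ⟨b, hb, rfl⟩ := List.mem_map.1 hr
      unfold orbR at hq'
      split at hq'
      · rw [List.mem_singleton] at hq'; rw [hq']; exact hp.1 b hb
      · simp only [List.mem_cons, List.not_mem_nil, or_false] at hq'
        rcases hq' with rfl | rfl
        exacts [hp.1 b hb, H.zr_p' (hp.1 b hb)]
    refine ⟨e * g, mul_mem hefix hg, fun q hq t => ?_, ?_⟩
    · calc e * g * C.G.xu q t * (e * g)⁻¹ = e * (g * C.G.xu q t * g⁻¹) * e⁻¹ := by group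
        _ = _ := by rw [hfix q (fun b hb => hq b (List.mem_cons_of_mem _ hb)), hef q (hq a List.mem_cons_self)]
    · rw [List.map_cons, List.flatMap_cons,
        show xprod C (K := K) (orbR T a.1 ++ (L.map Prod.fst).flatMap (orbR T)) =
          xprod C (orbR T a.1) * xprod C ((L.map Prod.fst).flatMap (orbR T)) by simp [xprod]]
      rw [← hea, ← hrest, ← he]
      simp only [orbProd, List.map_cons, List.prod_cons]
      conv_rhs => rw [← hga]
      group

end CfsgLib.Lie.Laced.TwLaced
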