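import Cfsg.Agent.Lib.Lie.Laced.RankE7
import Cfsg.Agent.Lib.Lie.Chev.FullAll

/-!
# The certificate of the involution classes of type E7
-/

set_option autoImplicit false
set_option maxRecDepth 100000

namespace CfsgLib.Lie.Laced

open Cfsg.Lie CfsgLib.Lie.Chev

theorem lacedE7 : chkLaced chevE7 fastE7 = true := by decide +kernel

theorem stepsE7_ok : chkSteps chevE7 fastE7 orthE7 = true := by decide +kernel

theorem orthE7_ok : chkOrthReps fastE7 orthE7 = true := by decide +kernel

theorem redsE7_ok : chkReds chevE7 fastE7 orthE7 = true := by decide +kernel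

theorem certE7 (C : Full chevE7) : InvolCert chevE7 fastE7 C orthE7 rkE7 where
  checks := checksE7
  keys := C.keys
  laced := isLaced C (rowsOK checksE7.rows) C.keys lacedE7
  steps := stepsE7_ok
  orth := orthE7_ok
  reds := redsE7_ok
  rank_ne := by decide +kernel
  rank_inj := by decide +kernel
  rank := fun t ht => by
    simp only [orthE7, List.mem_cons, List.not_mem_nil, or_false] at ht
    rcases ht with rfl | rfl | rfl | rfl | rfl
    exacts [rankE7_1, rankE7_2, rankE7_3, rankE7_4, rankE7_5]

end CfsgLib.Lie.Laced
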