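import Cfsg.Agent.Lib.Lie.Laced.RankE8
import Cfsg.Agent.Lib.Lie.Chev.FullAll

/-!
# The certificate of the involution classes of type E8
-/

set_option autoImplicit false
set_option maxRecDepth 100000

namespace CfsgLib.Lie.Laced

open Cfsg.Lie CfsgLib.Lie.Chev

theorem lacedE8 : chkLaced chevE8 fastE8 = true := by decide +kernel

theorem stepsE8_ok : chkSteps chevE8 fastE8 orthE8 = true := by decide +kernel

theorem orthE8_ok : chkOrthReps fastE8 orthE8 = true := by decide +kernel

theorem redsE8_ok : chkReds chevE8 fastE8 orthE8 = true := by decide +kernel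

theorem certE8 (C : Full chevE8) : InvolCert chevE8 fastE8 C orthE8 rkE8 where
  checks := checksE8
  keys := C.keys
  laced := isLaced C (rowsOK checksE8.rows) C.keys lacedE8
  steps := stepsE8_ok
  orth := orthE8_ok
  reds := redsE8_ok
  rank_ne := by decide +kernel
  rank_inj := by decide +kernel
  rank := fun t ht => by
    simp only [orthE8, List.mem_cons, List.not_mem_nil, or_false] at ht
    rcases ht with rfl | rfl | rfl | rfl
    exacts [rankE8_1, rankE8_2, rankE8_3, rankE8_4]

end CfsgLib.Lie.Laced
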