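import Cfsg.Agent.Lib.Lie.Laced.Orth

/-!
# Collection of words in root elements with parameter one
-/

set_option autoImplicit false

namespace CfsgLib.Lie.Laced

open Cfsg.Lie CfsgLib.Lie.Chev
open scoped MatrixGroups

variable {D : ChevalleyDatum} {f : Fast}

/-- the root in the commutator of two root elements -/
noncomputable def sumF (D : ChevalleyDatum) (f : Fast) (r s : ℕ) : List ℕ :=
  (commTermsF D f r s).map fun c => c.1

/-- one step of the collection -/
noncomputable def cstep (D : ChevalleyDatum) (f : Fast) : List ℕ → List ℕ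
  | [] => []
  | [a] => [a]
  | a :: b :: l => cond (Nat.blt b a) (b :: a :: (sumF D f b a ++ l))
      (cond (Nat.beq a b) l (a :: cstep D f (b :: l)))

/-- the collection -/
noncomputable def collect (D : ChevalleyDatum) (f : Fast) (n : ℕ) (l : List ℕ) : List ℕ :=
  Nat.rec l (fun _ ih => cstep D f ih) n

variable (C : Full D) {K : Type*} [Field K]

/-- a root element with parameter one, by index -/
noncomputable def xn (r : ℕ) : GL D.Idx K := if h : r < D.nroots then C.G.xu ⟨r, h⟩ (1 : K) else 1

/-- the product of a word -/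
noncomputable def nprod (l : List ℕ) : GL D.Idx K := (l.map (xn C (K := K))).prod

theorem nprod_cons (a : ℕ) (l : List ℕ) : nprod C (K := K) (a :: l) = xn C a * nprod C l := by
  simp [nprod]

theorem nprod_append (a b : List ℕ) : nprod C (K := K) (a ++ b) = nprod C a * nprod C b := by
  simp [nprod]

theorem nprod_val (T : List (Fin D.nroots)) : nprod C (K := K) (T.map Fin.val) = xprod C T := by
  induction T with
  | nil => simp [nprod, xprod]
  | cons a T ih =>
    rw [List.map_cons, nprod_cons, ih, xn, dif_pos a.isLt]
    simp [xprod]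

variable [CharP K 2] {C} (hL : IsLaced D C) (h : RowsOK D f) (hk : KeysOK D)
include hL h hk

theorem cstep_spec : ∀ l : List ℕ, (∀ r ∈ l, D.IsPosRoot r) →
    nprod C (K := K) (cstep D f l) = nprod C l ∧ ∀ r ∈ cstep D f l, D.IsPosRoot r := by
  intro l
  induction l using List.twoStepInduction with
  | nil => intro hp; exact ⟨rfl, hp⟩
  | singleton a => intro hp; exact ⟨rfl, hp⟩
  | cons_cons a b l _ ih =>
    intro hp
    have ha := hp a List.mem_cons_self
    have hb := hp b (List.mem_cons_of_mem _ List.mem_cons_self)
    have hl : ∀ r ∈ l, D.IsPosRoot r := fun r hr => hp r (List.mem_cons_of_mem _ (List.mem_cons_of_mem _ hr))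
    show nprod C (cond (Nat.blt b a) (b :: a :: (sumF D f b a ++ l)) (cond (Nat.beq a b) l (a :: cstep D f (b :: l)))) = _ ∧
      ∀ r ∈ cond (Nat.blt b a) (b :: a :: (sumF D f b a ++ l)) (cond (Nat.beq a b) l (a :: cstep D f (b :: l))),
        D.IsPosRoot r
    cases h1 : Nat.blt b a with
    | true =>
      simp only [cond_true]
      rw [Nat.blt_eq] at h1
      set A : Fin D.nroots := ⟨a, ha.1⟩
      set B : Fin D.nroots := ⟨b, hb.1⟩
      have hne : A ≠ B := fun e => h1.ne (congrArg Fin.val e).symm
      have hn : A ≠ C.G.negr B := C.pos_ne_negr hb ha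
      rw [sumF, commTermsF_eq h hk hb.1 ha.1]
      have hkey : C.G.xu A (1 : K) * C.G.xu B 1 =
          C.G.xu B 1 * C.G.xu A 1 * nprod C ((D.commTerms b a).map fun c => c.1) ∧
          ∀ r ∈ (D.commTerms b a).map (fun c => c.1), D.IsPosRoot r := by
        rcases hL.2.2 B A hne hn with ⟨e, hip⟩ | ⟨z, c, e, -, -⟩
        · change D.commTerms b a = [] at e
          rw [e]
          refine ⟨?_, by simp⟩
          rw [xu_commute hL hip hn]
          simp [nprod]
        · obtain ⟨-, -, hz, hzr⟩ := C.commTerms_weight (r := B) (s := A) (c := (z, c, 1, 1)) (by rw [e]; simp)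
          change D.commTerms b a = [(z, c, 1, 1)] at e
          have hsum : C.G.rho ⟨z, hz⟩ = C.G.rho B + C.G.rho A := by simpa using hzr
          rw [e]
          refine ⟨?_, by simpa using (lt_of_sum C hb ha hsum).1⟩
          rw [xu_comm hL hsum, mul_one]
          simp [nprod, xn, hz]
      refine ⟨?_, fun r hr => ?_⟩
      · simp only [nprod_cons, nprod_append, xn, dif_pos ha.1, dif_pos hb.1, ← mul_assoc]
        rw [← hkey.1]
      · simp only [List.mem_cons, List.mem_append] at hr
        rcases hr with rfl | rfl | hr | hr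
        exacts [hb, ha, hkey.2 r hr, hl r hr]
    | false =>
      simp only [cond_false]
      cases h2 : Nat.beq a b with
      | true =>
        simp only [cond_true]
        obtain rfl := Nat.eq_of_beq_eq_true h2
        refine ⟨?_, hl⟩
        simp only [nprod_cons, ← mul_assoc, xn, dif_pos ha.1, xu_sq, one_mul]
      | false =>
        simp only [cond_false]
        obtain ⟨e, hpos⟩ := ih _ (fun r hr => hp r (List.mem_cons_of_mem _ hr))
        refine ⟨by simp only [nprod_cons, e], fun r hr => ?_⟩
        rcases List.mem_cons.1 hr with rfl | hr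
        exacts [ha, hpos r hr]

theorem collect_spec (n : ℕ) (l : List ℕ) (hp : ∀ r ∈ l, D.IsPosRoot r) :
    nprod C (K := K) (collect D f n l) = nprod C l := by
  suffices H : nprod C (K := K) (collect D f n l) = nprod C l ∧ ∀ r ∈ collect D f n l, D.IsPosRoot r from H.1
  induction n with
  | zero => exact ⟨rfl, hp⟩
  | succ n ih =>
    obtain ⟨e, hpos⟩ := cstep_spec (K := K) hL h hk _ ih.2
    exact ⟨e.trans ih.1, hpos⟩

theorem nprod_eq_of_collect {N : ℕ} {a b : List ℕ} (ha : ∀ r ∈ a, D.IsPosRoot r) (hb : ∀ r ∈ b, D.IsPosRoot r)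
    (e : collect D f N a = collect D f N b) : nprod C (K := K) a = nprod C b := by
  rw [← collect_spec hL h hk N a ha, e, collect_spec hL h hk N b hb]

end CfsgLib.Lie.Laced
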