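import Cfsg.Agent.Lib.Lie.Laced.Classes

/-!
# Classification data of the involutions of type E6
-/

set_option autoImplicit false
set_option maxRecDepth 100000

namespace CfsgLib.Lie.Laced

/-- extension steps -/
def stepsE6_0 : List (ℕ × ℕ × List ℕ × ℕ) := [
  (0, 0, [1, 3, 4, 5, 2, 3, 4, 1, 3, 2, 0, 2, 3, 1, 4, 3, 2, 5, 4, 3, 1], 1),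
  (0, 1, [1, 3, 4, 5, 2, 3, 4, 1, 3, 2, 0, 2, 3, 1, 4, 3, 2, 5, 4, 3, 1, 1], 1),
  (0, 2, [1, 3, 4, 5, 2, 3, 4, 1, 3, 2, 0, 2, 3, 1, 4, 3, 2, 5, 4, 3, 1, 1, 3], 1),
  (0, 3, [1, 3, 4, 5, 2, 3, 4, 1, 3, 2, 0, 2, 3, 1, 4, 3, 2, 5, 4, 3, 1, 1, 3, 4], 1),
  (0, 4, [1, 3, 4, 5, 2, 3, 4, 1, 3, 2, 0, 2, 3, 1, 4, 3, 2, 5, 4, 3, 1, 1, 3, 4, 5], 1),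
  (0, 5, [1, 3, 4, 5, 2, 3, 4, 1, 3, 2, 0, 2, 3, 1, 4, 3, 2, 5, 4, 3, 1, 1, 3, 2], 1),
  (0, 6, [1, 3, 4, 5, 2, 3, 4, 1, 3, 2, 0, 2, 3, 1, 4, 3, 2, 5, 4, 3, 1, 1, 3, 2, 4], 1),
  (0, 7, [1, 3, 4, 5, 2, 3, 4, 1, 3, 2, 0, 2, 3, 1, 4, 3, 2, 5, 4, 3, 1, 1, 3, 2, 4, 5], 1),
  (0, 8, [1, 3, 4, 5, 2, 3, 4, 1, 3, 2, 0, 2, 3, 1, 4, 3, 2, 5, 4, 3, 1, 1, 3, 2, 4, 3], 1),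
  (0, 9, [1, 3, 4, 5, 2, 3, 4, 1, 3, 2, 0, 2, 3, 1, 4, 3, 2, 5, 4, 3, 1, 1, 3, 2, 4, 3, 5], 1),
  (0, 10, [1, 3, 4, 5, 2, 3, 4, 1, 3, 2, 0, 2, 3, 1, 4, 3, 2, 5, 4, 3, 1, 1, 3, 2, 4, 3, 5, 4], 1),
  (0, 11, [1, 3, 4, 5, 2, 3, 4, 1, 3, 2, 0, 2, 3, 1, 4, 3, 2, 5, 4, 3, 1, 1, 3, 2, 4, 3, 1], 1),
  (0, 12, [1, 3, 4, 5, 2, 3, 4, 1, 3, 2, 0, 2, 3, 1, 4, 3, 2, 5, 4, 3, 1, 1, 3, 2, 4, 3, 1, 5], 1),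
  (0, 13, [1, 3, 4, 5, 2, 3, 4, 1, 3, 2, 0, 2, 3, 1, 4, 3, 2, 5, 4, 3, 1, 1, 3, 2, 4, 3, 1, 5, 4], 1),
  (0, 14, [1, 3, 4, 5, 2, 3, 4, 1, 3, 2, 0, 2, 3, 1, 4, 3, 2, 5, 4, 3, 1, 1, 3, 2, 4, 3, 1, 5, 4, 3], 1),
  (0, 15, [1, 3, 4, 5, 2, 3, 4, 1, 3, 2, 0, 2, 3, 1, 4, 3, 2, 5, 4, 3, 1, 1, 3, 2, 4, 3, 1, 5, 4, 3, 2], 1),
  (0, 16, [1, 3, 4, 5, 2, 3, 4, 1, 3, 2, 0, 2, 3, 1, 4, 3, 2, 5, 4, 3, 1, 1, 3, 2, 0], 1),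
  (0, 17, [1, 3, 4, 5, 2, 3, 4, 1, 3, 2, 0, 2, 3, 1, 4, 3, 2, 5, 4, 3, 1, 1, 3, 2, 0, 4], 1),
  (0, 18, [1, 3, 4, 5, 2, 3, 4, 1, 3, 2, 0, 2, 3, 1, 4, 3, 2, 5, 4, 3, 1, 1, 3, 2, 0, 4, 5], 1),
  (0, 19, [1, 3, 4, 5, 2, 3, 4, 1, 3, 2, 0, 2, 3, 1, 4, 3, 2, 5, 4, 3, 1, 1, 3, 2, 0, 4, 3], 1),
  (0, 20, [1, 3, 4, 5, 2, 3, 4, 1, 3, 2, 0, 2, 3, 1, 4, 3, 2, 5, 4, 3, 1, 1, 3, 2, 0, 4, 3, 5], 1),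
  (0, 21, [1, 3, 4, 5, 2, 3, 4, 1, 3, 2, 0, 2, 3, 1, 4, 3, 2, 5, 4, 3, 1, 1, 3, 2, 0, 4, 3, 5, 4], 1),
  (0, 22, [1, 3, 4, 5, 2, 3, 4, 1, 3, 2, 0, 2, 3, 1, 4, 3, 2, 5, 4, 3, 1, 1, 3, 2, 0, 4, 3, 2], 1),
  (0, 23, [1, 3, 4, 5, 2, 3, 4, 1, 3, 2, 0, 2, 3, 1, 4, 3, 2, 5, 4, 3, 1, 1, 3, 2, 0, 4, 3, 2, 5], 1),
  (0, 24, [1, 3, 4, 5, 2, 3, 4, 1, 3, 2, 0, 2, 3, 1, 4, 3, 2, 5, 4, 3, 1, 1, 3, 2, 0, 4, 3, 2, 5, 4], 1),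
  (0, 25, [1, 3, 4, 5, 2, 3, 4, 1, 3, 2, 0, 2, 3, 1, 4, 3, 2, 5, 4, 3, 1, 1, 3, 2, 0, 4, 3, 2, 5, 4, 3], 1),
  (0, 26, [1, 3, 4, 5, 2, 3, 4, 1, 3, 2, 0, 2, 3, 1, 4, 3, 2, 5, 4, 3, 1, 1, 3, 2, 0, 4, 3, 1], 1),
  (0, 27, [1, 3, 4, 5, 2, 3, 4, 1, 3, 2, 0, 2, 3, 1, 4, 3, 2, 5, 4, 3, 1, 1, 3, 2, 0, 4, 3, 1, 5], 1),
  (0, 28, [1, 3, 4, 5, 2, 3, 4, 1, 3, 2, 0, 2, 3, 1, 4, 3, 2, 5, 4, 3, 1, 1, 3, 2, 0, 4, 3, 1, 5, 4], 1),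
  (0, 29, [1, 3, 4, 5, 2, 3, 4, 1, 3, 2, 0, 2, 3, 1, 4, 3, 2, 5, 4, 3, 1, 1, 3, 2, 0, 4, 3, 1, 5, 4, 3], 1),
  (0, 30, [1, 3, 4, 5, 2, 3, 4, 1, 3, 2, 0, 2, 3, 1, 4, 3, 2, 5, 4, 3, 1, 1, 3, 2, 0, 4, 3, 1, 2], 1),
  (0, 31, [1, 3, 4, 5, 2, 3, 4, 1, 3, 2, 0, 2, 3, 1, 4, 3, 2, 5, 4, 3, 1, 1, 3, 2, 0, 4, 3, 1, 2, 5], 1),
  (0, 32, [1, 3, 4, 5, 2, 3, 4, 1, 3, 2, 0, 2, 3, 1, 4, 3, 2, 5, 4, 3, 1, 1, 3, 2, 0, 4, 3, 1, 2, 5, 4], 1),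
  (0, 33, [1, 3, 4, 5, 2, 3, 4, 1, 3, 2, 0, 2, 3, 1, 4, 3, 2, 5, 4, 3, 1, 1, 3, 2, 0, 4, 3, 1, 2, 3], 1),
  (0, 34, [1, 3, 4, 5, 2, 3, 4, 1, 3, 2, 0, 2, 3, 1, 4, 3, 2, 5, 4, 3, 1, 1, 3, 2, 0, 4, 3, 1, 2, 3, 5], 1),
  (0, 35, [1, 3, 4, 5, 2, 3, 4, 1, 3, 2, 0, 2, 3, 1, 4, 3, 2, 5, 4, 3, 1, 1, 3, 2, 0, 4, 3, 1, 2, 3, 4], 1),
  (0, 36, [1, 3, 2, 0, 4, 3, 1, 2, 3, 4], 1),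
  (0, 37, [1, 3, 2, 0, 4, 3, 1, 2, 3, 5], 1),
  (0, 38, [1, 3, 2, 0, 4, 3, 1, 2, 3], 1),
  (0, 39, [1, 3, 2, 0, 4, 3, 1, 2, 5, 4], 1),
  (0, 40, [1, 3, 2, 0, 4, 3, 1, 2, 5], 1),
  (0, 41, [1, 3, 2, 0, 4, 3, 1, 2], 1),
  (0, 42, [1, 3, 2, 0, 4, 3, 1, 5, 4, 3], 1),
  (0, 43, [1, 3, 2, 0, 4, 3, 1, 5, 4], 1),
  (0, 44, [1, 3, 2, 0, 4, 3, 1, 5], 1),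
  (0, 45, [1, 3, 2, 0, 4, 3, 1], 1),
  (0, 46, [1, 3, 2, 0, 4, 3, 2, 5, 4, 3], 1),
  (0, 47, [1, 3, 2, 0, 4, 3, 2, 5, 4], 1),
  (0, 48, [1, 3, 2, 0, 4, 3, 2, 5], 1),
  (0, 49, [1, 3, 2, 0, 4, 3, 2], 1),
  (0, 50, [1, 3, 2, 0, 4, 3, 5, 4], 1),
  (0, 51, [1, 3, 2, 0, 4, 3, 5], 1),
  (0, 52, [1, 3, 2, 0, 4, 3], 1),
  (0, 53, [1, 3, 2, 0, 4, 5], 1),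
  (0, 54, [1, 3, 2, 0, 4], 1),
  (0, 55, [1, 3, 2, 0], 1),
  (0, 56, [1, 3, 2, 4, 3, 1, 5, 4, 3, 2], 1),
  (0, 57, [1, 3, 2, 4, 3, 1, 5, 4, 3], 1),
  (0, 58, [1, 3, 2, 4, 3, 1, 5, 4], 1),
  (0, 59, [1, 3, 2, 4, 3, 1, 5], 1),
  (0, 60, [1, 3, 2, 4, 3, 1], 1),
  (0, 61, [1, 3, 2, 4, 3, 5, 4], 1),
  (0, 62, [1, 3, 2, 4, 3, 5], 1),
  (0, 63, [1, 3, 2, 4, 3], 1),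
  (0, 64, [1, 3, 2, 4, 5], 1),
  (0, 65, [1, 3, 2, 4], 1),
  (0, 66, [1, 3, 2], 1),
  (0, 67, [1, 3, 4, 5], 1),
  (0, 68, [1, 3, 4], 1),
  (0, 69, [1, 3], 1),
  (0, 70, [1], 1),
  (0, 71, [], 1),
  (1, 11, [5, 2, 3, 4, 1, 3, 2, 0, 2, 3, 1, 4, 3, 2, 5, 2, 3, 1], 2),
  (1, 12, [5, 2, 3, 4, 1, 3, 2, 0, 2, 3, 1, 4, 3, 2, 5, 2, 3, 1, 5], 2),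
  (1, 13, [5, 2, 3, 4, 1, 3, 2, 0, 2, 3, 1, 4, 3, 2, 5, 2, 3, 1, 5, 4], 2),
  (1, 14, [5, 2, 3, 4, 1, 3, 2, 0, 2, 3, 1, 4, 3, 2, 5, 2, 3, 1, 5, 4, 3], 2),
  (1, 15, [5, 2, 3, 4, 1, 3, 2, 0, 2, 3, 1, 4, 3, 2, 5, 2, 3, 1, 5, 4, 3, 2], 2),
  (1, 26, [4, 5, 3, 4, 1, 3, 2, 0, 2, 3, 1, 4, 3, 5, 4, 0, 4, 3, 1], 2),
  (1, 27, [4, 5, 3, 4, 1, 3, 2, 0, 2, 3, 1, 4, 3, 5, 4, 0, 4, 3, 1, 5], 2),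
  (1, 28, [4, 5, 3, 4, 1, 3, 2, 0, 2, 3, 1, 4, 3, 5, 4, 0, 4, 3, 1, 5, 4], 2),
  (1, 29, [4, 5, 3, 4, 1, 3, 2, 0, 2, 3, 1, 4, 3, 5, 4, 0, 4, 3, 1, 5, 4, 3], 2),
  (1, 30, [4, 5, 3, 4, 1, 3, 2, 0, 2, 3, 1, 4, 3, 5, 4, 0, 4, 3, 1, 2], 2),
  (1, 31, [4, 5, 3, 4, 1, 3, 2, 0, 2, 3, 1, 4, 3, 5, 4, 0, 4, 3, 1, 2, 5], 2),
  (1, 32, [4, 5, 3, 4, 1, 3, 2, 0, 2, 3, 1, 4, 3, 5, 4, 0, 4, 3, 1, 2, 5, 4], 2),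
  (1, 33, [4, 5, 3, 4, 1, 3, 2, 0, 2, 3, 1, 4, 3, 5, 4, 0, 4, 3, 1, 2, 3], 2),
  (1, 34, [4, 5, 3, 4, 1, 3, 2, 0, 2, 3, 1, 4, 3, 5, 4, 0, 4, 3, 1, 2, 3, 5], 2),
  (1, 35, [4, 5, 3, 4, 1, 3, 2, 0, 2, 3, 1, 4, 3, 5, 4, 0, 4, 3, 1, 2, 3, 4], 2),
  (1, 36, [0, 4, 3, 1, 2, 3, 4], 2),
  (1, 37, [0, 4, 3, 1, 2, 3, 5], 2),
  (1, 38, [0, 4, 3, 1, 2, 3], 2),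
  (1, 39, [0, 4, 3, 1, 2, 5, 4], 2),
  (1, 40, [0, 4, 3, 1, 2, 5], 2),
  (1, 41, [0, 4, 3, 1, 2], 2),
  (1, 42, [0, 4, 3, 1, 5, 4, 3], 2),
  (1, 43, [0, 4, 3, 1, 5, 4], 2),
  (1, 44, [0, 4, 3, 1, 5], 2),
  (1, 45, [0, 4, 3, 1], 2),
  (1, 56, [2, 3, 1, 5, 4, 3, 2], 2),
  (1, 57, [2, 3, 1, 5, 4, 3], 2),
  (1, 58, [2, 3, 1, 5, 4], 2)]

/-- extension steps -/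
def stepsE6_1 : List (ℕ × ℕ × List ℕ × ℕ) := [
  (1, 59, [2, 3, 1, 5], 2),
  (1, 60, [2, 3, 1], 2),
  (2, 18, [5, 3, 4, 1, 3, 2, 0, 2, 3, 1, 4, 3, 5, 0, 5], 3),
  (2, 20, [5, 3, 4, 1, 3, 2, 0, 2, 3, 1, 4, 3, 5, 0, 3, 5], 3),
  (2, 24, [5, 3, 4, 1, 3, 2, 0, 2, 3, 1, 4, 3, 5, 0, 3, 2, 5, 4], 3),
  (2, 25, [5, 3, 4, 1, 3, 2, 0, 2, 3, 1, 4, 3, 5, 0, 3, 2, 5, 4, 3], 3),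
  (2, 27, [5, 3, 4, 1, 3, 2, 0, 2, 3, 1, 4, 3, 5, 0, 3, 1, 5], 3),
  (2, 32, [5, 3, 4, 1, 3, 2, 0, 2, 3, 1, 4, 3, 5, 0, 3, 1, 2, 5, 4], 3),
  (2, 39, [0, 3, 1, 2, 5, 4], 3),
  (2, 44, [0, 3, 1, 5], 3),
  (2, 46, [0, 3, 2, 5, 4, 3], 3),
  (2, 47, [0, 3, 2, 5, 4], 3),
  (2, 51, [0, 3, 5], 3),
  (2, 53, [0, 5], 3),
  (3, 25, [1], 4),
  (3, 46, [], 4)]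

/-- the classification data -/
def orthE6 : OrthData where
  reps := [[], [71], [68, 66], [55, 65, 67], [46, 55, 65, 67]]
  steps := stepsE6_0 ++ stepsE6_1
  reds := [
    ⟨4, [1, 3, 2, 0], [39, 45, 59, 71], [62, 52, 45, 47], [39, 45, 59], [0, 3, 2, 0, 4, 3, 2, 5, 4, 3, 1, 2], 3⟩]
  targets := [1, 2, 3]

/-- the ranks -/
def rkE6 (i : ℕ) : ℕ := ([0, 22, 32, 38, 38] : List ℕ).getD i 0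

end CfsgLib.Lie.Laced
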