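import Cfsg.Agent.Lib.Lie.Laced.Classes

/-!
# Classification data of the involutions of type E7
-/

set_option autoImplicit false
set_option maxRecDepth 100000

namespace CfsgLib.Lie.Laced

/-- extension steps -/
def stepsE7_0 : List (ℕ × ℕ × List ℕ × ℕ) := [
  (0, 0, [0, 2, 3, 4, 5, 6, 1, 3, 4, 5, 2, 3, 4, 1, 3, 2, 0, 2, 3, 1, 4, 3, 2, 5, 4, 3, 1, 6, 5, 4, 3, 2, 0], 1),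
  (0, 1, [0, 2, 3, 4, 5, 6, 1, 3, 4, 5, 2, 3, 4, 1, 3, 2, 0, 2, 3, 1, 4, 3, 2, 5, 4, 3, 1, 6, 5, 4, 3, 2, 0, 0], 1),
  (0, 2, [0, 2, 3, 4, 5, 6, 1, 3, 4, 5, 2, 3, 4, 1, 3, 2, 0, 2, 3, 1, 4, 3, 2, 5, 4, 3, 1, 6, 5, 4, 3, 2, 0, 0, 2], 1),
  (0, 3, [0, 2, 3, 4, 5, 6, 1, 3, 4, 5, 2, 3, 4, 1, 3, 2, 0, 2, 3, 1, 4, 3, 2, 5, 4, 3, 1, 6, 5, 4, 3, 2, 0, 0, 2, 3], 1),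
  (0, 4, [0, 2, 3, 4, 5, 6, 1, 3, 4, 5, 2, 3, 4, 1, 3, 2, 0, 2, 3, 1, 4, 3, 2, 5, 4, 3, 1, 6, 5, 4, 3, 2, 0, 0, 2, 3, 4], 1),
  (0, 5, [0, 2, 3, 4, 5, 6, 1, 3, 4, 5, 2, 3, 4, 1, 3, 2, 0, 2, 3, 1, 4, 3, 2, 5, 4, 3, 1, 6, 5, 4, 3, 2, 0, 0, 2, 3, 4, 5], 1),
  (0, 6, [0, 2, 3, 4, 5, 6, 1, 3, 4, 5, 2, 3, 4, 1, 3, 2, 0, 2, 3, 1, 4, 3, 2, 5, 4, 3, 1, 6, 5, 4, 3, 2, 0, 0, 2, 3, 4, 5, 6], 1),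
  (0, 7, [0, 2, 3, 4, 5, 6, 1, 3, 4, 5, 2, 3, 4, 1, 3, 2, 0, 2, 3, 1, 4, 3, 2, 5, 4, 3, 1, 6, 5, 4, 3, 2, 0, 0, 2, 3, 1], 1),
  (0, 8, [0, 2, 3, 4, 5, 6, 1, 3, 4, 5, 2, 3, 4, 1, 3, 2, 0, 2, 3, 1, 4, 3, 2, 5, 4, 3, 1, 6, 5, 4, 3, 2, 0, 0, 2, 3, 1, 4], 1),
  (0, 9, [0, 2, 3, 4, 5, 6, 1, 3, 4, 5, 2, 3, 4, 1, 3, 2, 0, 2, 3, 1, 4, 3, 2, 5, 4, 3, 1, 6, 5, 4, 3, 2, 0, 0, 2, 3, 1, 4, 5], 1),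
  (0, 10, [0, 2, 3, 4, 5, 6, 1, 3, 4, 5, 2, 3, 4, 1, 3, 2, 0, 2, 3, 1, 4, 3, 2, 5, 4, 3, 1, 6, 5, 4, 3, 2, 0, 0, 2, 3, 1, 4, 5, 6], 1),
  (0, 11, [0, 2, 3, 4, 5, 6, 1, 3, 4, 5, 2, 3, 4, 1, 3, 2, 0, 2, 3, 1, 4, 3, 2, 5, 4, 3, 1, 6, 5, 4, 3, 2, 0, 0, 2, 3, 1, 4, 3], 1),
  (0, 12, [0, 2, 3, 4, 5, 6, 1, 3, 4, 5, 2, 3, 4, 1, 3, 2, 0, 2, 3, 1, 4, 3, 2, 5, 4, 3, 1, 6, 5, 4, 3, 2, 0, 0, 2, 3, 1, 4, 3, 5], 1),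
  (0, 13, [0, 2, 3, 4, 5, 6, 1, 3, 4, 5, 2, 3, 4, 1, 3, 2, 0, 2, 3, 1, 4, 3, 2, 5, 4, 3, 1, 6, 5, 4, 3, 2, 0, 0, 2, 3, 1, 4, 3, 5, 6], 1),
  (0, 14, [0, 2, 3, 4, 5, 6, 1, 3, 4, 5, 2, 3, 4, 1, 3, 2, 0, 2, 3, 1, 4, 3, 2, 5, 4, 3, 1, 6, 5, 4, 3, 2, 0, 0, 2, 3, 1, 4, 3, 5, 4], 1),
  (0, 15, [0, 2, 3, 4, 5, 6, 1, 3, 4, 5, 2, 3, 4, 1, 3, 2, 0, 2, 3, 1, 4, 3, 2, 5, 4, 3, 1, 6, 5, 4, 3, 2, 0, 0, 2, 3, 1, 4, 3, 5, 4, 6], 1),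
  (0, 16, [0, 2, 3, 4, 5, 6, 1, 3, 4, 5, 2, 3, 4, 1, 3, 2, 0, 2, 3, 1, 4, 3, 2, 5, 4, 3, 1, 6, 5, 4, 3, 2, 0, 0, 2, 3, 1, 4, 3, 5, 4, 6, 5], 1),
  (0, 17, [0, 2, 3, 4, 5, 6, 1, 3, 4, 5, 2, 3, 4, 1, 3, 2, 0, 2, 3, 1, 4, 3, 2, 5, 4, 3, 1, 6, 5, 4, 3, 2, 0, 0, 2, 3, 1, 4, 3, 2], 1),
  (0, 18, [0, 2, 3, 4, 5, 6, 1, 3, 4, 5, 2, 3, 4, 1, 3, 2, 0, 2, 3, 1, 4, 3, 2, 5, 4, 3, 1, 6, 5, 4, 3, 2, 0, 0, 2, 3, 1, 4, 3, 2, 5], 1),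
  (0, 19, [0, 2, 3, 4, 5, 6, 1, 3, 4, 5, 2, 3, 4, 1, 3, 2, 0, 2, 3, 1, 4, 3, 2, 5, 4, 3, 1, 6, 5, 4, 3, 2, 0, 0, 2, 3, 1, 4, 3, 2, 5, 6], 1),
  (0, 20, [0, 2, 3, 4, 5, 6, 1, 3, 4, 5, 2, 3, 4, 1, 3, 2, 0, 2, 3, 1, 4, 3, 2, 5, 4, 3, 1, 6, 5, 4, 3, 2, 0, 0, 2, 3, 1, 4, 3, 2, 5, 4], 1),
  (0, 21, [0, 2, 3, 4, 5, 6, 1, 3, 4, 5, 2, 3, 4, 1, 3, 2, 0, 2, 3, 1, 4, 3, 2, 5, 4, 3, 1, 6, 5, 4, 3, 2, 0, 0, 2, 3, 1, 4, 3, 2, 5, 4, 6], 1),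
  (0, 22, [0, 2, 3, 4, 5, 6, 1, 3, 4, 5, 2, 3, 4, 1, 3, 2, 0, 2, 3, 1, 4, 3, 2, 5, 4, 3, 1, 6, 5, 4, 3, 2, 0, 0, 2, 3, 1, 4, 3, 2, 5, 4, 6, 5], 1),
  (0, 23, [0, 2, 3, 4, 5, 6, 1, 3, 4, 5, 2, 3, 4, 1, 3, 2, 0, 2, 3, 1, 4, 3, 2, 5, 4, 3, 1, 6, 5, 4, 3, 2, 0, 0, 2, 3, 1, 4, 3, 2, 5, 4, 3], 1),
  (0, 24, [0, 2, 3, 4, 5, 6, 1, 3, 4, 5, 2, 3, 4, 1, 3, 2, 0, 2, 3, 1, 4, 3, 2, 5, 4, 3, 1, 6, 5, 4, 3, 2, 0, 0, 2, 3, 1, 4, 3, 2, 5, 4, 3, 6], 1),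
  (0, 25, [0, 2, 3, 4, 5, 6, 1, 3, 4, 5, 2, 3, 4, 1, 3, 2, 0, 2, 3, 1, 4, 3, 2, 5, 4, 3, 1, 6, 5, 4, 3, 2, 0, 0, 2, 3, 1, 4, 3, 2, 5, 4, 3, 6, 5], 1),
  (0, 26, [0, 2, 3, 4, 5, 6, 1, 3, 4, 5, 2, 3, 4, 1, 3, 2, 0, 2, 3, 1, 4, 3, 2, 5, 4, 3, 1, 6, 5, 4, 3, 2, 0, 0, 2, 3, 1, 4, 3, 2, 5, 4, 3, 6, 5, 4], 1),
  (0, 27, [0, 2, 3, 4, 5, 6, 1, 3, 4, 5, 2, 3, 4, 1, 3, 2, 0, 2, 3, 1, 4, 3, 2, 5, 4, 3, 1, 6, 5, 4, 3, 2, 0, 0, 2, 3, 1, 4, 3, 2, 5, 4, 3, 1], 1),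
  (0, 28, [0, 2, 3, 4, 5, 6, 1, 3, 4, 5, 2, 3, 4, 1, 3, 2, 0, 2, 3, 1, 4, 3, 2, 5, 4, 3, 1, 6, 5, 4, 3, 2, 0, 0, 2, 3, 1, 4, 3, 2, 5, 4, 3, 1, 6], 1),
  (0, 29, [0, 2, 3, 4, 5, 6, 1, 3, 4, 5, 2, 3, 4, 1, 3, 2, 0, 2, 3, 1, 4, 3, 2, 5, 4, 3, 1, 6, 5, 4, 3, 2, 0, 0, 2, 3, 1, 4, 3, 2, 5, 4, 3, 1, 6, 5], 1),
  (0, 30, [0, 2, 3, 4, 5, 6, 1, 3, 4, 5, 2, 3, 4, 1, 3, 2, 0, 2, 3, 1, 4, 3, 2, 5, 4, 3, 1, 6, 5, 4, 3, 2, 0, 0, 2, 3, 1, 4, 3, 2, 5, 4, 3, 1, 6, 5, 4], 1),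
  (0, 31, [0, 2, 3, 4, 5, 6, 1, 3, 4, 5, 2, 3, 4, 1, 3, 2, 0, 2, 3, 1, 4, 3, 2, 5, 4, 3, 1, 6, 5, 4, 3, 2, 0, 0, 2, 3, 1, 4, 3, 2, 5, 4, 3, 1, 6, 5, 4, 3], 1),
  (0, 32, [0, 2, 3, 4, 5, 6, 1, 3, 4, 5, 2, 3, 4, 1, 3, 2, 0, 2, 3, 1, 4, 3, 2, 5, 4, 3, 1, 6, 5, 4, 3, 2, 0, 0, 2, 3, 1, 4, 3, 2, 5, 4, 3, 1, 6, 5, 4, 3, 2], 1),
  (0, 33, [0, 2, 3, 4, 5, 6, 1, 3, 4, 5, 2, 3, 4, 1, 3, 2, 0, 2, 3, 1, 4, 3, 2, 5, 4, 3, 1, 6, 5, 4, 3, 2, 0, 0, 2, 3, 1, 4, 3, 2, 0], 1),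
  (0, 34, [0, 2, 3, 4, 5, 6, 1, 3, 4, 5, 2, 3, 4, 1, 3, 2, 0, 2, 3, 1, 4, 3, 2, 5, 4, 3, 1, 6, 5, 4, 3, 2, 0, 0, 2, 3, 1, 4, 3, 2, 0, 5], 1),
  (0, 35, [0, 2, 3, 4, 5, 6, 1, 3, 4, 5, 2, 3, 4, 1, 3, 2, 0, 2, 3, 1, 4, 3, 2, 5, 4, 3, 1, 6, 5, 4, 3, 2, 0, 0, 2, 3, 1, 4, 3, 2, 0, 5, 6], 1),
  (0, 36, [0, 2, 3, 4, 5, 6, 1, 3, 4, 5, 2, 3, 4, 1, 3, 2, 0, 2, 3, 1, 4, 3, 2, 5, 4, 3, 1, 6, 5, 4, 3, 2, 0, 0, 2, 3, 1, 4, 3, 2, 0, 5, 4], 1),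
  (0, 37, [0, 2, 3, 4, 5, 6, 1, 3, 4, 5, 2, 3, 4, 1, 3, 2, 0, 2, 3, 1, 4, 3, 2, 5, 4, 3, 1, 6, 5, 4, 3, 2, 0, 0, 2, 3, 1, 4, 3, 2, 0, 5, 4, 6], 1),
  (0, 38, [0, 2, 3, 4, 5, 6, 1, 3, 4, 5, 2, 3, 4, 1, 3, 2, 0, 2, 3, 1, 4, 3, 2, 5, 4, 3, 1, 6, 5, 4, 3, 2, 0, 0, 2, 3, 1, 4, 3, 2, 0, 5, 4, 6, 5], 1),
  (0, 39, [0, 2, 3, 4, 5, 6, 1, 3, 4, 5, 2, 3, 4, 1, 3, 2, 0, 2, 3, 1, 4, 3, 2, 5, 4, 3, 1, 6, 5, 4, 3, 2, 0, 0, 2, 3, 1, 4, 3, 2, 0, 5, 4, 3], 1),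
  (0, 40, [0, 2, 3, 4, 5, 6, 1, 3, 4, 5, 2, 3, 4, 1, 3, 2, 0, 2, 3, 1, 4, 3, 2, 5, 4, 3, 1, 6, 5, 4, 3, 2, 0, 0, 2, 3, 1, 4, 3, 2, 0, 5, 4, 3, 6], 1),
  (0, 41, [0, 2, 3, 4, 5, 6, 1, 3, 4, 5, 2, 3, 4, 1, 3, 2, 0, 2, 3, 1, 4, 3, 2, 5, 4, 3, 1, 6, 5, 4, 3, 2, 0, 0, 2, 3, 1, 4, 3, 2, 0, 5, 4, 3, 6, 5], 1),
  (0, 42, [0, 2, 3, 4, 5, 6, 1, 3, 4, 5, 2, 3, 4, 1, 3, 2, 0, 2, 3, 1, 4, 3, 2, 5, 4, 3, 1, 6, 5, 4, 3, 2, 0, 0, 2, 3, 1, 4, 3, 2, 0, 5, 4, 3, 6, 5, 4], 1),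
  (0, 43, [0, 2, 3, 4, 5, 6, 1, 3, 4, 5, 2, 3, 4, 1, 3, 2, 0, 2, 3, 1, 4, 3, 2, 5, 4, 3, 1, 6, 5, 4, 3, 2, 0, 0, 2, 3, 1, 4, 3, 2, 0, 5, 4, 3, 2], 1),
  (0, 44, [0, 2, 3, 4, 5, 6, 1, 3, 4, 5, 2, 3, 4, 1, 3, 2, 0, 2, 3, 1, 4, 3, 2, 5, 4, 3, 1, 6, 5, 4, 3, 2, 0, 0, 2, 3, 1, 4, 3, 2, 0, 5, 4, 3, 2, 6], 1),
  (0, 45, [0, 2, 3, 4, 5, 6, 1, 3, 4, 5, 2, 3, 4, 1, 3, 2, 0, 2, 3, 1, 4, 3, 2, 5, 4, 3, 1, 6, 5, 4, 3, 2, 0, 0, 2, 3, 1, 4, 3, 2, 0, 5, 4, 3, 2, 6, 5], 1),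
  (0, 46, [0, 2, 3, 4, 5, 6, 1, 3, 4, 5, 2, 3, 4, 1, 3, 2, 0, 2, 3, 1, 4, 3, 2, 5, 4, 3, 1, 6, 5, 4, 3, 2, 0, 0, 2, 3, 1, 4, 3, 2, 0, 5, 4, 3, 2, 6, 5, 4], 1),
  (0, 47, [0, 2, 3, 4, 5, 6, 1, 3, 4, 5, 2, 3, 4, 1, 3, 2, 0, 2, 3, 1, 4, 3, 2, 5, 4, 3, 1, 6, 5, 4, 3, 2, 0, 0, 2, 3, 1, 4, 3, 2, 0, 5, 4, 3, 2, 6, 5, 4, 3], 1),
  (0, 48, [0, 2, 3, 4, 5, 6, 1, 3, 4, 5, 2, 3, 4, 1, 3, 2, 0, 2, 3, 1, 4, 3, 2, 5, 4, 3, 1, 6, 5, 4, 3, 2, 0, 0, 2, 3, 1, 4, 3, 2, 0, 5, 4, 3, 1], 1),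
  (0, 49, [0, 2, 3, 4, 5, 6, 1, 3, 4, 5, 2, 3, 4, 1, 3, 2, 0, 2, 3, 1, 4, 3, 2, 5, 4, 3, 1, 6, 5, 4, 3, 2, 0, 0, 2, 3, 1, 4, 3, 2, 0, 5, 4, 3, 1, 6], 1),
  (0, 50, [0, 2, 3, 4, 5, 6, 1, 3, 4, 5, 2, 3, 4, 1, 3, 2, 0, 2, 3, 1, 4, 3, 2, 5, 4, 3, 1, 6, 5, 4, 3, 2, 0, 0, 2, 3, 1, 4, 3, 2, 0, 5, 4, 3, 1, 6, 5], 1),
  (0, 51, [0, 2, 3, 4, 5, 6, 1, 3, 4, 5, 2, 3, 4, 1, 3, 2, 0, 2, 3, 1, 4, 3, 2, 5, 4, 3, 1, 6, 5, 4, 3, 2, 0, 0, 2, 3, 1, 4, 3, 2, 0, 5, 4, 3, 1, 6, 5, 4], 1),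
  (0, 52, [0, 2, 3, 4, 5, 6, 1, 3, 4, 5, 2, 3, 4, 1, 3, 2, 0, 2, 3, 1, 4, 3, 2, 5, 4, 3, 1, 6, 5, 4, 3, 2, 0, 0, 2, 3, 1, 4, 3, 2, 0, 5, 4, 3, 1, 6, 5, 4, 3], 1),
  (0, 53, [0, 2, 3, 4, 5, 6, 1, 3, 4, 5, 2, 3, 4, 1, 3, 2, 0, 2, 3, 1, 4, 3, 2, 5, 4, 3, 1, 6, 5, 4, 3, 2, 0, 0, 2, 3, 1, 4, 3, 2, 0, 5, 4, 3, 1, 2], 1),
  (0, 54, [0, 2, 3, 4, 5, 6, 1, 3, 4, 5, 2, 3, 4, 1, 3, 2, 0, 2, 3, 1, 4, 3, 2, 5, 4, 3, 1, 6, 5, 4, 3, 2, 0, 0, 2, 3, 1, 4, 3, 2, 0, 5, 4, 3, 1, 2, 6], 1),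
  (0, 55, [0, 2, 3, 4, 5, 6, 1, 3, 4, 5, 2, 3, 4, 1, 3, 2, 0, 2, 3, 1, 4, 3, 2, 5, 4, 3, 1, 6, 5, 4, 3, 2, 0, 0, 2, 3, 1, 4, 3, 2, 0, 5, 4, 3, 1, 2, 6, 5], 1),
  (0, 56, [0, 2, 3, 4, 5, 6, 1, 3, 4, 5, 2, 3, 4, 1, 3, 2, 0, 2, 3, 1, 4, 3, 2, 5, 4, 3, 1, 6, 5, 4, 3, 2, 0, 0, 2, 3, 1, 4, 3, 2, 0, 5, 4, 3, 1, 2, 6, 5, 4], 1),
  (0, 57, [0, 2, 3, 4, 5, 6, 1, 3, 4, 5, 2, 3, 4, 1, 3, 2, 0, 2, 3, 1, 4, 3, 2, 5, 4, 3, 1, 6, 5, 4, 3, 2, 0, 0, 2, 3, 1, 4, 3, 2, 0, 5, 4, 3, 1, 2, 3], 1),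
  (0, 58, [0, 2, 3, 4, 5, 6, 1, 3, 4, 5, 2, 3, 4, 1, 3, 2, 0, 2, 3, 1, 4, 3, 2, 5, 4, 3, 1, 6, 5, 4, 3, 2, 0, 0, 2, 3, 1, 4, 3, 2, 0, 5, 4, 3, 1, 2, 3, 6], 1),
  (0, 59, [0, 2, 3, 4, 5, 6, 1, 3, 4, 5, 2, 3, 4, 1, 3, 2, 0, 2, 3, 1, 4, 3, 2, 5, 4, 3, 1, 6, 5, 4, 3, 2, 0, 0, 2, 3, 1, 4, 3, 2, 0, 5, 4, 3, 1, 2, 3, 6, 5], 1),
  (0, 60, [0, 2, 3, 4, 5, 6, 1, 3, 4, 5, 2, 3, 4, 1, 3, 2, 0, 2, 3, 1, 4, 3, 2, 5, 4, 3, 1, 6, 5, 4, 3, 2, 0, 0, 2, 3, 1, 4, 3, 2, 0, 5, 4, 3, 1, 2, 3, 4], 1),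
  (0, 61, [0, 2, 3, 4, 5, 6, 1, 3, 4, 5, 2, 3, 4, 1, 3, 2, 0, 2, 3, 1, 4, 3, 2, 5, 4, 3, 1, 6, 5, 4, 3, 2, 0, 0, 2, 3, 1, 4, 3, 2, 0, 5, 4, 3, 1, 2, 3, 4, 6], 1),
  (0, 62, [0, 2, 3, 4, 5, 6, 1, 3, 4, 5, 2, 3, 4, 1, 3, 2, 0, 2, 3, 1, 4, 3, 2, 5, 4, 3, 1, 6, 5, 4, 3, 2, 0, 0, 2, 3, 1, 4, 3, 2, 0, 5, 4, 3, 1, 2, 3, 4, 5], 1),
  (0, 63, [0, 2, 3, 1, 4, 3, 2, 0, 5, 4, 3, 1, 2, 3, 4, 5], 1),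
  (0, 64, [0, 2, 3, 1, 4, 3, 2, 0, 5, 4, 3, 1, 2, 3, 4, 6], 1),
  (0, 65, [0, 2, 3, 1, 4, 3, 2, 0, 5, 4, 3, 1, 2, 3, 4], 1),
  (0, 66, [0, 2, 3, 1, 4, 3, 2, 0, 5, 4, 3, 1, 2, 3, 6, 5], 1),
  (0, 67, [0, 2, 3, 1, 4, 3, 2, 0, 5, 4, 3, 1, 2, 3, 6], 1),
  (0, 68, [0, 2, 3, 1, 4, 3, 2, 0, 5, 4, 3, 1, 2, 3], 1),
  (0, 69, [0, 2, 3, 1, 4, 3, 2, 0, 5, 4, 3, 1, 2, 6, 5, 4], 1),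
  (0, 70, [0, 2, 3, 1, 4, 3, 2, 0, 5, 4, 3, 1, 2, 6, 5], 1),
  (0, 71, [0, 2, 3, 1, 4, 3, 2, 0, 5, 4, 3, 1, 2, 6], 1),
  (0, 72, [0, 2, 3, 1, 4, 3, 2, 0, 5, 4, 3, 1, 2], 1),
  (0, 73, [0, 2, 3, 1, 4, 3, 2, 0, 5, 4, 3, 1, 6, 5, 4, 3], 1),
  (0, 74, [0, 2, 3, 1, 4, 3, 2, 0, 5, 4, 3, 1, 6, 5, 4], 1),
  (0, 75, [0, 2, 3, 1, 4, 3, 2, 0, 5, 4, 3, 1, 6, 5], 1),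
  (0, 76, [0, 2, 3, 1, 4, 3, 2, 0, 5, 4, 3, 1, 6], 1),
  (0, 77, [0, 2, 3, 1, 4, 3, 2, 0, 5, 4, 3, 1], 1),
  (0, 78, [0, 2, 3, 1, 4, 3, 2, 0, 5, 4, 3, 2, 6, 5, 4, 3], 1),
  (0, 79, [0, 2, 3, 1, 4, 3, 2, 0, 5, 4, 3, 2, 6, 5, 4], 1),
  (0, 80, [0, 2, 3, 1, 4, 3, 2, 0, 5, 4, 3, 2, 6, 5], 1),
  (0, 81, [0, 2, 3, 1, 4, 3, 2, 0, 5, 4, 3, 2, 6], 1),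
  (0, 82, [0, 2, 3, 1, 4, 3, 2, 0, 5, 4, 3, 2], 1),
  (0, 83, [0, 2, 3, 1, 4, 3, 2, 0, 5, 4, 3, 6, 5, 4], 1),
  (0, 84, [0, 2, 3, 1, 4, 3, 2, 0, 5, 4, 3, 6, 5], 1),
  (0, 85, [0, 2, 3, 1, 4, 3, 2, 0, 5, 4, 3, 6], 1),
  (0, 86, [0, 2, 3, 1, 4, 3, 2, 0, 5, 4, 3], 1),
  (0, 87, [0, 2, 3, 1, 4, 3, 2, 0, 5, 4, 6, 5], 1),
  (0, 88, [0, 2, 3, 1, 4, 3, 2, 0, 5, 4, 6], 1),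
  (0, 89, [0, 2, 3, 1, 4, 3, 2, 0, 5, 4], 1),
  (0, 90, [0, 2, 3, 1, 4, 3, 2, 0, 5, 6], 1),
  (0, 91, [0, 2, 3, 1, 4, 3, 2, 0, 5], 1),
  (0, 92, [0, 2, 3, 1, 4, 3, 2, 0], 1),
  (0, 93, [0, 2, 3, 1, 4, 3, 2, 5, 4, 3, 1, 6, 5, 4, 3, 2], 1),
  (0, 94, [0, 2, 3, 1, 4, 3, 2, 5, 4, 3, 1, 6, 5, 4, 3], 1),
  (0, 95, [0, 2, 3, 1, 4, 3, 2, 5, 4, 3, 1, 6, 5, 4], 1),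
  (0, 96, [0, 2, 3, 1, 4, 3, 2, 5, 4, 3, 1, 6, 5], 1),
  (0, 97, [0, 2, 3, 1, 4, 3, 2, 5, 4, 3, 1, 6], 1),
  (0, 98, [0, 2, 3, 1, 4, 3, 2, 5, 4, 3, 1], 1),
  (0, 99, [0, 2, 3, 1, 4, 3, 2, 5, 4, 3, 6, 5, 4], 1)]

/-- extension steps -/
def stepsE7_1 : List (ℕ × ℕ × List ℕ × ℕ) := [
  (0, 100, [0, 2, 3, 1, 4, 3, 2, 5, 4, 3, 6, 5], 1),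
  (0, 101, [0, 2, 3, 1, 4, 3, 2, 5, 4, 3, 6], 1),
  (0, 102, [0, 2, 3, 1, 4, 3, 2, 5, 4, 3], 1),
  (0, 103, [0, 2, 3, 1, 4, 3, 2, 5, 4, 6, 5], 1),
  (0, 104, [0, 2, 3, 1, 4, 3, 2, 5, 4, 6], 1),
  (0, 105, [0, 2, 3, 1, 4, 3, 2, 5, 4], 1),
  (0, 106, [0, 2, 3, 1, 4, 3, 2, 5, 6], 1),
  (0, 107, [0, 2, 3, 1, 4, 3, 2, 5], 1),
  (0, 108, [0, 2, 3, 1, 4, 3, 2], 1),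
  (0, 109, [0, 2, 3, 1, 4, 3, 5, 4, 6, 5], 1),
  (0, 110, [0, 2, 3, 1, 4, 3, 5, 4, 6], 1),
  (0, 111, [0, 2, 3, 1, 4, 3, 5, 4], 1),
  (0, 112, [0, 2, 3, 1, 4, 3, 5, 6], 1),
  (0, 113, [0, 2, 3, 1, 4, 3, 5], 1),
  (0, 114, [0, 2, 3, 1, 4, 3], 1),
  (0, 115, [0, 2, 3, 1, 4, 5, 6], 1),
  (0, 116, [0, 2, 3, 1, 4, 5], 1),
  (0, 117, [0, 2, 3, 1, 4], 1),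
  (0, 118, [0, 2, 3, 1], 1),
  (0, 119, [0, 2, 3, 4, 5, 6], 1),
  (0, 120, [0, 2, 3, 4, 5], 1),
  (0, 121, [0, 2, 3, 4], 1),
  (0, 122, [0, 2, 3], 1),
  (0, 123, [0, 2], 1),
  (0, 124, [0], 1),
  (0, 125, [], 1),
  (1, 33, [5, 6, 4, 5, 3, 4, 2, 3, 1, 3, 2, 4, 3, 5, 4, 6, 5], 2),
  (1, 34, [5, 6, 4, 5, 3, 4, 2, 3, 1, 3, 2, 4, 3, 5, 4, 6, 5, 5], 2),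
  (1, 35, [5, 6, 4, 5, 3, 4, 2, 3, 1, 3, 2, 4, 3, 5, 4, 6, 5, 5, 6], 2),
  (1, 36, [5, 6, 4, 5, 3, 4, 2, 3, 1, 3, 2, 4, 3, 5, 4, 6, 5, 5, 4], 2),
  (1, 37, [5, 6, 4, 5, 3, 4, 2, 3, 1, 3, 2, 4, 3, 5, 4, 6, 5, 5, 4, 6], 2),
  (1, 38, [5, 6, 4, 5, 3, 4, 2, 3, 1, 3, 2, 4, 3, 5, 4, 6, 5, 5, 4, 6, 5], 2),
  (1, 39, [5, 6, 4, 5, 3, 4, 2, 3, 1, 3, 2, 4, 3, 5, 4, 6, 5, 5, 4, 3], 2),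
  (1, 40, [5, 6, 4, 5, 3, 4, 2, 3, 1, 3, 2, 4, 3, 5, 4, 6, 5, 5, 4, 3, 6], 2),
  (1, 41, [5, 6, 4, 5, 3, 4, 2, 3, 1, 3, 2, 4, 3, 5, 4, 6, 5, 5, 4, 3, 6, 5], 2),
  (1, 42, [5, 6, 4, 5, 3, 4, 2, 3, 1, 3, 2, 4, 3, 5, 4, 6, 5, 5, 4, 3, 6, 5, 4], 2),
  (1, 43, [5, 6, 4, 5, 3, 4, 2, 3, 1, 3, 2, 4, 3, 5, 4, 6, 5, 5, 4, 3, 2], 2),
  (1, 44, [5, 6, 4, 5, 3, 4, 2, 3, 1, 3, 2, 4, 3, 5, 4, 6, 5, 5, 4, 3, 2, 6], 2),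
  (1, 45, [5, 6, 4, 5, 3, 4, 2, 3, 1, 3, 2, 4, 3, 5, 4, 6, 5, 5, 4, 3, 2, 6, 5], 2),
  (1, 46, [5, 6, 4, 5, 3, 4, 2, 3, 1, 3, 2, 4, 3, 5, 4, 6, 5, 5, 4, 3, 2, 6, 5, 4], 2),
  (1, 47, [5, 6, 4, 5, 3, 4, 2, 3, 1, 3, 2, 4, 3, 5, 4, 6, 5, 5, 4, 3, 2, 6, 5, 4, 3], 2),
  (1, 48, [5, 6, 4, 5, 3, 4, 2, 3, 1, 3, 2, 4, 3, 5, 4, 6, 5, 5, 4, 3, 1], 2),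
  (1, 49, [5, 6, 4, 5, 3, 4, 2, 3, 1, 3, 2, 4, 3, 5, 4, 6, 5, 5, 4, 3, 1, 6], 2),
  (1, 50, [5, 6, 4, 5, 3, 4, 2, 3, 1, 3, 2, 4, 3, 5, 4, 6, 5, 5, 4, 3, 1, 6, 5], 2),
  (1, 51, [5, 6, 4, 5, 3, 4, 2, 3, 1, 3, 2, 4, 3, 5, 4, 6, 5, 5, 4, 3, 1, 6, 5, 4], 2),
  (1, 52, [5, 6, 4, 5, 3, 4, 2, 3, 1, 3, 2, 4, 3, 5, 4, 6, 5, 5, 4, 3, 1, 6, 5, 4, 3], 2),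
  (1, 53, [5, 6, 4, 5, 3, 4, 2, 3, 1, 3, 2, 4, 3, 5, 4, 6, 5, 5, 4, 3, 1, 2], 2),
  (1, 54, [5, 6, 4, 5, 3, 4, 2, 3, 1, 3, 2, 4, 3, 5, 4, 6, 5, 5, 4, 3, 1, 2, 6], 2),
  (1, 55, [5, 6, 4, 5, 3, 4, 2, 3, 1, 3, 2, 4, 3, 5, 4, 6, 5, 5, 4, 3, 1, 2, 6, 5], 2),
  (1, 56, [5, 6, 4, 5, 3, 4, 2, 3, 1, 3, 2, 4, 3, 5, 4, 6, 5, 5, 4, 3, 1, 2, 6, 5, 4], 2),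
  (1, 57, [5, 6, 4, 5, 3, 4, 2, 3, 1, 3, 2, 4, 3, 5, 4, 6, 5, 5, 4, 3, 1, 2, 3], 2),
  (1, 58, [5, 6, 4, 5, 3, 4, 2, 3, 1, 3, 2, 4, 3, 5, 4, 6, 5, 5, 4, 3, 1, 2, 3, 6], 2),
  (1, 59, [5, 6, 4, 5, 3, 4, 2, 3, 1, 3, 2, 4, 3, 5, 4, 6, 5, 5, 4, 3, 1, 2, 3, 6, 5], 2),
  (1, 60, [5, 6, 4, 5, 3, 4, 2, 3, 1, 3, 2, 4, 3, 5, 4, 6, 5, 5, 4, 3, 1, 2, 3, 4], 2),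
  (1, 61, [5, 6, 4, 5, 3, 4, 2, 3, 1, 3, 2, 4, 3, 5, 4, 6, 5, 5, 4, 3, 1, 2, 3, 4, 6], 2),
  (1, 62, [5, 6, 4, 5, 3, 4, 2, 3, 1, 3, 2, 4, 3, 5, 4, 6, 5, 5, 4, 3, 1, 2, 3, 4, 5], 2),
  (1, 63, [5, 4, 3, 1, 2, 3, 4, 5], 2),
  (1, 64, [5, 4, 3, 1, 2, 3, 4, 6], 2),
  (1, 65, [5, 4, 3, 1, 2, 3, 4], 2),
  (1, 66, [5, 4, 3, 1, 2, 3, 6, 5], 2),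
  (1, 67, [5, 4, 3, 1, 2, 3, 6], 2),
  (1, 68, [5, 4, 3, 1, 2, 3], 2),
  (1, 69, [5, 4, 3, 1, 2, 6, 5, 4], 2),
  (1, 70, [5, 4, 3, 1, 2, 6, 5], 2),
  (1, 71, [5, 4, 3, 1, 2, 6], 2),
  (1, 72, [5, 4, 3, 1, 2], 2),
  (1, 73, [5, 4, 3, 1, 6, 5, 4, 3], 2),
  (1, 74, [5, 4, 3, 1, 6, 5, 4], 2),
  (1, 75, [5, 4, 3, 1, 6, 5], 2),
  (1, 76, [5, 4, 3, 1, 6], 2),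
  (1, 77, [5, 4, 3, 1], 2),
  (1, 78, [5, 4, 3, 2, 6, 5, 4, 3], 2),
  (1, 79, [5, 4, 3, 2, 6, 5, 4], 2),
  (1, 80, [5, 4, 3, 2, 6, 5], 2),
  (1, 81, [5, 4, 3, 2, 6], 2),
  (1, 82, [5, 4, 3, 2], 2),
  (1, 83, [5, 4, 3, 6, 5, 4], 2),
  (1, 84, [5, 4, 3, 6, 5], 2),
  (1, 85, [5, 4, 3, 6], 2),
  (1, 86, [5, 4, 3], 2),
  (1, 87, [5, 4, 6, 5], 2),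
  (1, 88, [5, 4, 6], 2),
  (1, 89, [5, 4], 2),
  (1, 90, [5, 6], 2),
  (1, 91, [5], 2),
  (1, 92, [], 2),
  (2, 38, [3, 4, 2, 3, 1, 3, 2, 4, 3], 3),
  (2, 41, [3, 4, 2, 3, 1, 3, 2, 4, 3, 3], 3),
  (2, 42, [3, 4, 2, 3, 1, 3, 2, 4, 3, 3, 4], 3),
  (2, 45, [3, 4, 2, 3, 1, 3, 2, 4, 3, 3, 2], 3),
  (2, 46, [3, 4, 2, 3, 1, 3, 2, 4, 3, 3, 2, 4], 3),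
  (2, 47, [3, 4, 2, 3, 1, 3, 2, 4, 3, 3, 2, 4, 3], 3),
  (2, 50, [3, 4, 2, 3, 1, 3, 2, 4, 3, 3, 1], 3),
  (2, 51, [3, 4, 2, 3, 1, 3, 2, 4, 3, 3, 1, 4], 3),
  (2, 52, [3, 4, 2, 3, 1, 3, 2, 4, 3, 3, 1, 4, 3], 3),
  (2, 55, [3, 4, 2, 3, 1, 3, 2, 4, 3, 3, 1, 2], 3),
  (2, 56, [3, 4, 2, 3, 1, 3, 2, 4, 3, 3, 1, 2, 4], 3),
  (2, 59, [3, 4, 2, 3, 1, 3, 2, 4, 3, 3, 1, 2, 3], 3),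
  (2, 62, [6], 4),
  (2, 63, [], 4)]

/-- extension steps -/
def stepsE7_2 : List (ℕ × ℕ × List ℕ × ℕ) := [
  (2, 66, [3, 1, 2, 3], 3),
  (2, 69, [3, 1, 2, 4], 3),
  (2, 70, [3, 1, 2], 3),
  (2, 73, [3, 1, 4, 3], 3),
  (2, 74, [3, 1, 4], 3),
  (2, 75, [3, 1], 3),
  (2, 78, [3, 2, 4, 3], 3),
  (2, 79, [3, 2, 4], 3),
  (2, 80, [3, 2], 3),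
  (2, 83, [3, 4], 3),
  (2, 84, [3], 3),
  (2, 87, [], 3),
  (3, 47, [1], 5),
  (3, 52, [2], 6),
  (3, 59, [1, 0, 2, 3, 1, 4, 3, 2, 0], 5),
  (3, 62, [1, 0, 2, 3, 1, 4, 3, 2, 0, 5, 4, 6, 5], 5),
  (3, 63, [0, 2, 3, 1, 4, 3, 2, 0, 5, 4, 6, 5], 5),
  (3, 66, [0, 2, 3, 1, 4, 3, 2, 0], 5),
  (3, 73, [], 6),
  (3, 78, [], 5),
  (4, 38, [0, 2, 3, 4, 5, 6, 1, 3, 4, 5, 2, 3, 4, 1, 3, 2, 0, 2, 3, 1, 4, 3, 2, 5, 4, 3, 1, 6, 5, 4, 3, 2, 0, 0, 2, 3, 1, 4, 3, 2, 0, 5, 4, 6, 5], 5),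
  (4, 41, [0, 2, 3, 4, 5, 6, 1, 3, 4, 5, 2, 3, 4, 1, 3, 2, 0, 2, 3, 1, 4, 3, 2, 5, 4, 3, 1, 6, 5, 4, 3, 2, 0, 0, 2, 3, 1, 4, 3, 2, 0, 5, 4, 3, 6, 5], 5),
  (4, 42, [0, 2, 3, 4, 5, 6, 1, 3, 4, 5, 2, 3, 4, 1, 3, 2, 0, 2, 3, 1, 4, 3, 2, 5, 4, 3, 1, 6, 5, 4, 3, 2, 0, 0, 2, 3, 1, 4, 3, 2, 0, 5, 4, 3, 6, 5, 4], 5),
  (4, 45, [0, 2, 3, 4, 5, 6, 1, 3, 4, 5, 2, 3, 4, 1, 3, 2, 0, 2, 3, 1, 4, 3, 2, 5, 4, 3, 1, 6, 5, 4, 3, 2, 0, 0, 2, 3, 1, 4, 3, 2, 0, 5, 4, 3, 2, 6, 5], 5),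
  (4, 46, [0, 2, 3, 4, 5, 6, 1, 3, 4, 5, 2, 3, 4, 1, 3, 2, 0, 2, 3, 1, 4, 3, 2, 5, 4, 3, 1, 6, 5, 4, 3, 2, 0, 0, 2, 3, 1, 4, 3, 2, 0, 5, 4, 3, 2, 6, 5, 4], 5),
  (4, 47, [0, 2, 3, 4, 5, 6, 1, 3, 4, 5, 2, 3, 4, 1, 3, 2, 0, 2, 3, 1, 4, 3, 2, 5, 4, 3, 1, 6, 5, 4, 3, 2, 0, 0, 2, 3, 1, 4, 3, 2, 0, 5, 4, 3, 2, 6, 5, 4, 3], 5),
  (4, 50, [0, 2, 3, 4, 5, 6, 1, 3, 4, 5, 2, 3, 4, 1, 3, 2, 0, 2, 3, 1, 4, 3, 2, 5, 4, 3, 1, 6, 5, 4, 3, 2, 0, 0, 2, 3, 1, 4, 3, 2, 0, 5, 4, 3, 1, 6, 5], 5),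
  (4, 51, [0, 2, 3, 4, 5, 6, 1, 3, 4, 5, 2, 3, 4, 1, 3, 2, 0, 2, 3, 1, 4, 3, 2, 5, 4, 3, 1, 6, 5, 4, 3, 2, 0, 0, 2, 3, 1, 4, 3, 2, 0, 5, 4, 3, 1, 6, 5, 4], 5),
  (4, 52, [0, 2, 3, 4, 5, 6, 1, 3, 4, 5, 2, 3, 4, 1, 3, 2, 0, 2, 3, 1, 4, 3, 2, 5, 4, 3, 1, 6, 5, 4, 3, 2, 0, 0, 2, 3, 1, 4, 3, 2, 0, 5, 4, 3, 1, 6, 5, 4, 3], 5),
  (4, 55, [0, 2, 3, 4, 5, 6, 1, 3, 4, 5, 2, 3, 4, 1, 3, 2, 0, 2, 3, 1, 4, 3, 2, 5, 4, 3, 1, 6, 5, 4, 3, 2, 0, 0, 2, 3, 1, 4, 3, 2, 0, 5, 4, 3, 1, 2, 6, 5], 5),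
  (4, 56, [0, 2, 3, 4, 5, 6, 1, 3, 4, 5, 2, 3, 4, 1, 3, 2, 0, 2, 3, 1, 4, 3, 2, 5, 4, 3, 1, 6, 5, 4, 3, 2, 0, 0, 2, 3, 1, 4, 3, 2, 0, 5, 4, 3, 1, 2, 6, 5, 4], 5),
  (4, 59, [0, 2, 3, 4, 5, 6, 1, 3, 4, 5, 2, 3, 4, 1, 3, 2, 0, 2, 3, 1, 4, 3, 2, 5, 4, 3, 1, 6, 5, 4, 3, 2, 0, 0, 2, 3, 1, 4, 3, 2, 0, 5, 4, 3, 1, 2, 3, 6, 5], 5),
  (4, 66, [0, 2, 3, 1, 4, 3, 2, 0, 5, 4, 3, 1, 2, 3, 6, 5], 5),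
  (4, 69, [0, 2, 3, 1, 4, 3, 2, 0, 5, 4, 3, 1, 2, 6, 5, 4], 5),
  (4, 70, [0, 2, 3, 1, 4, 3, 2, 0, 5, 4, 3, 1, 2, 6, 5], 5),
  (4, 73, [0, 2, 3, 1, 4, 3, 2, 0, 5, 4, 3, 1, 6, 5, 4, 3], 5),
  (4, 74, [0, 2, 3, 1, 4, 3, 2, 0, 5, 4, 3, 1, 6, 5, 4], 5),
  (4, 75, [0, 2, 3, 1, 4, 3, 2, 0, 5, 4, 3, 1, 6, 5], 5),
  (4, 78, [0, 2, 3, 1, 4, 3, 2, 0, 5, 4, 3, 2, 6, 5, 4, 3], 5),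
  (4, 79, [0, 2, 3, 1, 4, 3, 2, 0, 5, 4, 3, 2, 6, 5, 4], 5),
  (4, 80, [0, 2, 3, 1, 4, 3, 2, 0, 5, 4, 3, 2, 6, 5], 5),
  (4, 83, [0, 2, 3, 1, 4, 3, 2, 0, 5, 4, 3, 6, 5, 4], 5),
  (4, 84, [0, 2, 3, 1, 4, 3, 2, 0, 5, 4, 3, 6, 5], 5),
  (4, 87, [0, 2, 3, 1, 4, 3, 2, 0, 5, 4, 6, 5], 5),
  (5, 52, [2], 7),
  (5, 59, [2, 3, 2, 4, 3], 7),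
  (5, 62, [2, 3, 2, 4, 3, 5, 4, 6, 5], 7),
  (5, 63, [3, 2, 4, 3, 5, 4, 6, 5], 7),
  (5, 66, [3, 2, 4, 3], 7),
  (5, 73, [], 7),
  (6, 47, [1], 7),
  (6, 59, [1, 3, 1, 4, 3], 7),
  (6, 62, [1, 3, 1, 4, 3, 5, 4, 6, 5], 7),
  (6, 63, [3, 1, 4, 3, 5, 4, 6, 5], 7),
  (6, 66, [3, 1, 4, 3], 7),
  (6, 78, [], 7),
  (7, 59, [4], 8),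
  (7, 62, [4, 5, 4, 6, 5], 8),
  (7, 63, [5, 4, 6, 5], 8),
  (7, 66, [], 8),
  (8, 62, [6], 9),
  (8, 63, [], 9)]

/-- the classification data -/
def orthE7 : OrthData where
  reps := [[], [125], [92, 125], [87, 92, 125], [63, 92, 125], [78, 87, 92, 125], [73, 87, 92, 125], [73, 78, 87, 92, 125], [66, 73, 78, 87, 92, 125], [63, 66, 73, 78, 87, 92, 125]]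
  steps := stepsE7_0 ++ stepsE7_1 ++ stepsE7_2
  reds := [
    ⟨6, [], [73, 87, 92, 125], [108, 103, 87, 94], [73, 87, 92], [0, 3, 1, 4, 3, 2, 5, 4, 3, 1, 6, 5, 4, 3, 2, 0], 3⟩,
    ⟨7, [], [73, 78, 87, 92, 125], [108, 103, 87, 94], [73, 78, 87, 92], [0, 2, 3, 1, 2, 0, 3, 2, 4, 3, 5, 4, 3, 1, 2, 3, 6, 5, 4, 3, 1, 2, 0, 3], 5⟩,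
    ⟨8, [], [66, 73, 78, 87, 92, 125], [79, 74, 73, 70], [66, 73, 78, 92, 125], [3, 1, 2, 3], 7⟩,
    ⟨9, [], [63, 66, 73, 78, 87, 92, 125], [110, 106, 66, 105], [63, 66, 73, 78, 87, 92], [5, 4, 3, 1, 2, 0, 3, 2, 4, 3, 1, 5, 4, 3, 2, 0], 8⟩]
  targets := [1, 2, 3, 4, 5]

/-- the ranks -/
def rkE7 (i : ℕ) : ℕ := ([0, 34, 52, 62, 53, 63, 62, 63, 63, 63] : List ℕ).getD i 0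

end CfsgLib.Lie.Laced
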