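import Cfsg.Agent.Lib.Lie.Laced.Pairing
import Cfsg.Agent.Lib.Lie.Chev.SylowU

/-!
# Involutions as products of root elements of orthogonal roots
-/

set_option autoImplicit false
set_option linter.style.haveILetI false

namespace CfsgLib.Lie.Laced

open Cfsg.Lie CfsgLib.Lie.Chev
open scoped MatrixGroups

variable {D : ChevalleyDatum} (C : Full D) {K : Type*} [Field K]

/-- the subgroup of the root elements with roots in a set -/
noncomputable def US (P : Fin D.nroots → Prop) : Subgroup (GL D.Idx K) :=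
  Subgroup.closure {g | ∃ q t, P q ∧ g = C.G.xu q t}

/-- positive and closed under sums -/
def Closed (P : Fin D.nroots → Prop) : Prop :=
  (∀ q, P q → D.IsPosRoot q.val) ∧ ∀ q s z, P q → P s → C.G.rho z = C.G.rho q + C.G.rho s → P z

theorem xu_mem_US {P : Fin D.nroots → Prop} {q : Fin D.nroots} (hq : P q) (t : K) :
    C.G.xu q t ∈ US C (K := K) P := Subgroup.subset_closure ⟨q, t, hq, rfl⟩

theorem US_mono {P Q : Fin D.nroots → Prop} (h : ∀ q, P q → Q q) : US C (K := K) P ≤ US C Q :=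
  (Subgroup.closure_le _).2 fun _ ⟨q, t, hq, e⟩ => e ▸ xu_mem_US C (h q hq) t

theorem US_le_Uge {P : Fin D.nroots → Prop} {m : ℕ} (h : ∀ q, P q → m ≤ q.val ∧ D.IsPosRoot q.val) :
    US C (K := K) P ≤ C.G.Uge m :=
  (Subgroup.closure_le _).2 fun _ ⟨q, t, hq, e⟩ => e ▸ C.G.xu_mem_Uge (h q hq).1 (h q hq).2 t

theorem Uge_le_US {P : Fin D.nroots → Prop} {m : ℕ}
    (h : ∀ q : Fin D.nroots, m ≤ q.val → D.IsPosRoot q.val → P q) : C.G.Uge (K := K) m ≤ US C P :=
  (Subgroup.closure_le _).2 fun _ ⟨q, t, h1, h2, e⟩ => e ▸ xu_mem_US C (h q h1 h2) t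

theorem lt_of_sum {r s z : Fin D.nroots} (hr : D.IsPosRoot r.val) (hs : D.IsPosRoot s.val)
    (e : C.G.rho z = C.G.rho r + C.G.rho s) : D.IsPosRoot z.val ∧ r.val < z.val ∧ s.val < z.val :=
  C.rho_combo_index hr hs le_rfl le_rfl (by simpa using e)

variable [CharP K 2]

theorem xu_sq (q : Fin D.nroots) (t : K) : C.G.xu q t * C.G.xu q t = 1 := by
  rw [← C.G.xu_add, CharTwo.add_self_eq_zero, C.G.xu_zero]

theorem xu_inv_self (q : Fin D.nroots) (t : K) : (C.G.xu q t)⁻¹ = C.G.xu q t := by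
  rw [C.G.xu_inv, CharTwo.neg_eq]

variable {C} (hL : IsLaced D C)
include hL

theorem conj_of_zero {r s : Fin D.nroots} (h : ip D r s = 0 ∨ ip D r s = 1) (hsn : s ≠ C.G.negr r) (t u : K) :
    C.G.xu r t * C.G.xu s u * C.G.xu r t = C.G.xu s u := by
  rw [mul_assoc, xu_commute hL h hsn, ← mul_assoc, xu_sq, one_mul]

theorem conj_of_sum {r s z : Fin D.nroots} (e : C.G.rho z = C.G.rho r + C.G.rho s) (t u : K) :
    C.G.xu r t * C.G.xu s u * C.G.xu r t = C.G.xu s u * C.G.xu z (t * u) := by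
  rw [mul_assoc, xu_comm hL e, ← mul_assoc, ← mul_assoc, xu_sq, one_mul]

theorem conj_US {Q W : Fin D.nroots → Prop} {m : Fin D.nroots} (hm : D.IsPosRoot m.val)
    (hQ : ∀ q, Q q → D.IsPosRoot q.val ∧ W q)
    (hW : ∀ q z, Q q → C.G.rho z = C.G.rho m + C.G.rho q → W z) (t : K) {v : GL D.Idx K}
    (hv : v ∈ US C (K := K) Q) : C.G.xu m t * v * C.G.xu m t ∈ US C (K := K) W := by
  induction hv using Subgroup.closure_induction with
  | one => rw [mul_one, xu_sq]; exact one_mem _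
  | mul a b _ _ ha hb =>
    have : C.G.xu m t * (a * b) * C.G.xu m t =
        (C.G.xu m t * a * C.G.xu m t) * (C.G.xu m t * b * C.G.xu m t) := by
      rw [show (C.G.xu m t * a * C.G.xu m t) * (C.G.xu m t * b * C.G.xu m t) =
        C.G.xu m t * a * (C.G.xu m t * C.G.xu m t) * (b * C.G.xu m t) by group, xu_sq, mul_one]
      group
    rw [this]; exact mul_mem ha hb
  | inv a _ ha =>
    have : C.G.xu m t * a⁻¹ * C.G.xu m t = (C.G.xu m t * a * C.G.xu m t)⁻¹ := by
      simp only [_root_.mul_inv_rev, xu_inv_self, mul_assoc]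
    rw [this]; exact inv_mem ha
  | mem x hx =>
    obtain ⟨q, u, hq, rfl⟩ := hx
    obtain ⟨hp, hWq⟩ := hQ q hq
    by_cases hqm : q = m
    · subst hqm
      rw [← C.G.xu_add, ← C.G.xu_add]; exact xu_mem_US C hWq _
    rcases ip_le hL m q hqm (C.pos_ne_negr hm hp) with h | h | h
    · obtain ⟨z, hz⟩ := exists_sum hL h
      rw [conj_of_sum hL hz]
      exact mul_mem (xu_mem_US C hWq _) (xu_mem_US C (hW q z hq hz) _)
    all_goals
      rw [conj_of_zero hL (by omega) (C.pos_ne_negr hm hp)]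
      exact xu_mem_US C hWq _

theorem US_step {P : Fin D.nroots → Prop} (hP : Closed C P) {m : Fin D.nroots} (hm : P m) {g : GL D.Idx K}
    (hg : g ∈ US C (K := K) P) :
    ∃ t : K, ∃ v ∈ US C (K := K) (fun q => P q ∧ q ≠ m), g = C.G.xu m t * v := by
  have hnorm : ∀ (t : K) {v : GL D.Idx K}, v ∈ US C (K := K) (fun q => P q ∧ q ≠ m) →
      C.G.xu m t * v * C.G.xu m t ∈ US C (K := K) (fun q => P q ∧ q ≠ m) := fun t v hv =>
    conj_US hL (hP.1 m hm) (fun q hq => ⟨hP.1 q hq.1, hq⟩)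
      (fun q z hq e => ⟨hP.2 m q z hm hq.1 e, fun h =>
        (lt_of_sum C (hP.1 m hm) (hP.1 q hq.1) e).2.1.ne (congrArg Fin.val h).symm⟩) t hv
  have key : ∀ x ∈ {g | ∃ q t, P q ∧ g = C.G.xu (K := K) q t}, ∀ y : GL D.Idx K,
      (∃ t : K, ∃ v ∈ US C (K := K) (fun q => P q ∧ q ≠ m), y = C.G.xu m t * v) →
      ∃ t : K, ∃ v ∈ US C (K := K) (fun q => P q ∧ q ≠ m), x * y = C.G.xu m t * v := by
    rintro _ ⟨q, u, hq, rfl⟩ _ ⟨t, v, hv, rfl⟩
    by_cases hqm : q = m
    · subst hqm; exact ⟨u + t, v, hv, by rw [C.G.xu_add, mul_assoc]⟩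
    · refine ⟨t, C.G.xu m t * C.G.xu q u * C.G.xu m t * v,
        mul_mem (hnorm t (xu_mem_US C (P := fun q => P q ∧ q ≠ m) ⟨hq, hqm⟩ u)) hv, ?_⟩
      simp only [← mul_assoc, xu_sq, one_mul]
  induction hg using Subgroup.closure_induction_left with
  | one => exact ⟨0, 1, one_mem _, by rw [C.G.xu_zero, mul_one]⟩
  | mul_left x hx y _ ih => exact key x hx y ih
  | inv_mul_cancel x hx y _ ih =>
    have : x⁻¹ = x := by obtain ⟨q, u, -, rfl⟩ := hx; exact xu_inv_self C q u
    rw [this]; exact key x hx y ih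

theorem US_coord_zero {P : Fin D.nroots → Prop} (hP : Closed C P) {q : Fin D.nroots}
    (hq : D.IsPosRoot q.val) (hnot : ¬ P q) {d : K} (h : C.G.xu q d ∈ US C (K := K) P) : d = 0 := by
  suffices H : ∀ k m : ℕ, m + k = q.val + 1 → C.G.xu q d ∈ US C (K := K) (fun s => P s ∧ m ≤ s.val) → d = 0 by
    exact H (q.val + 1) 0 (Nat.zero_add _) (US_mono C (fun s hs => ⟨hs, Nat.zero_le _⟩) h)
  intro k
  induction k with
  | zero =>
    intro m hm h
    have h' := US_le_Uge C (m := q.val + 1) (fun s hs => ⟨by omega, hP.1 s hs.1⟩) h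
    exact (C.G.lowest_unique hq (one_mem _) h' (t := d) (t' := 0)
      (by rw [mul_one, C.G.xu_zero, one_mul])).1
  | succ k ih =>
    intro m hm h
    have hmn : m < D.nroots := by have := q.isLt; omega
    by_cases hpm : P ⟨m, hmn⟩
    · obtain ⟨t, v, hv, e⟩ := US_step hL (P := fun s => P s ∧ m ≤ s.val)
        ⟨fun s hs => hP.1 s hs.1, fun a b z ha hb e =>
          ⟨hP.2 a b z ha.1 hb.1 e, le_trans ha.2 (lt_of_sum C (hP.1 a ha.1) (hP.1 b hb.1) e).2.1.le⟩⟩
        (m := ⟨m, hmn⟩) ⟨hpm, le_rfl⟩ h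
      have hsub : ∀ s : Fin D.nroots, (P s ∧ m ≤ s.val) ∧ s ≠ ⟨m, hmn⟩ → P s ∧ m + 1 ≤ s.val := fun s hs => by
        have : s.val ≠ m := fun h => hs.2 (Fin.ext h)
        exact ⟨hs.1.1, by omega⟩
      have hmq : m ≠ q.val := fun h => hnot (by rwa [show q = ⟨m, hmn⟩ from Fin.ext h.symm])
      have h0 := C.G.lowest_unique (r := ⟨m, hmn⟩) (t := t) (t' := 0) (v := v) (v' := C.G.xu q d)
        (hP.1 _ hpm) (US_le_Uge C (fun s hs => ⟨(hsub s hs).2, hP.1 s hs.1.1⟩) hv)
        (C.G.xu_mem_Uge (by simp only; omega) hq d) (by rw [← e, C.G.xu_zero, one_mul])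
      refine ih (m + 1) (by omega) ?_
      rw [← h0.2]
      exact US_mono C hsub hv
    · refine ih (m + 1) (by omega) (US_mono C (fun s hs => ⟨hs.1, ?_⟩) h)
      have : s.val ≠ m := fun h' => hpm (by rw [show (⟨m, hmn⟩ : Fin D.nroots) = s from Fin.ext h'.symm]; exact hs.1)
      omega

omit hL
variable (C)

/-- the positive roots orthogonal to a list -/
def Perp (S : List (Fin D.nroots)) (q : Fin D.nroots) : Prop :=
  D.IsPosRoot q.val ∧ ∀ r ∈ S, ip D r q = 0

variable {C}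

theorem Perp.sum {S : List (Fin D.nroots)} {a b z : Fin D.nroots} (ha : Perp S a) (hb : Perp S b)
    (e : C.G.rho z = C.G.rho a + C.G.rho b) : Perp S z :=
  ⟨(lt_of_sum C ha.1 hb.1 e).1, fun r hr => by rw [ip_add r e, ha.2 r hr, hb.2 r hr, add_zero]⟩

include hL

theorem ip_bound {m q : Fin D.nroots} (hm : D.IsPosRoot m.val) (hq : D.IsPosRoot q.val) (h : m.val < q.val) :
    ip D m q = -1 ∨ ip D m q = 0 ∨ ip D m q = 1 :=
  ip_le hL m q (fun e => h.ne' (congrArg Fin.val e)) (C.pos_ne_negr hm hq)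

theorem clear_step {S : List (Fin D.nroots)} {m : Fin D.nroots} (hm : Perp S m) {c : K} (hc : c ≠ 0) :
    ∀ j k : ℕ, k + j = D.nroots → ∀ v ∈ US C (K := K)
      (fun q => Perp S q ∧ m.val < q.val ∧ ¬ (ip D m q = 1 ∧ q.val < k)),
    ∃ h ∈ US C (K := K) (Perp S), ∃ v' ∈ US C (K := K)
        (fun q => Perp S q ∧ m.val < q.val ∧ ip D m q ≠ 1),
      h * (C.G.xu m c * v) * h⁻¹ = C.G.xu m c * v' := by
  intro j
  induction j with
  | zero =>
    intro k hk v hv
    refine ⟨1, one_mem _, v, US_mono C (fun q hq => ⟨hq.1, hq.2.1, fun h => hq.2.2 ⟨h, by have := q.isLt; omega⟩⟩) hv,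
      by simp⟩
  | succ j ih =>
    intro k hk v hv
    have hkn : k < D.nroots := by omega
    set q₀ : Fin D.nroots := ⟨k, hkn⟩ with hq₀
    by_cases hk0 : Perp S q₀ ∧ m.val < k ∧ ip D m q₀ = 1
    · obtain ⟨hkP, hmk, hip⟩ := hk0
      set P := fun q => Perp S q ∧ m.val < q.val ∧ ¬ (ip D m q = 1 ∧ q.val < k)
      have hcl : Closed C P := by
        refine ⟨fun q hq => hq.1.1, fun a b z ha hb e => ?_⟩
        obtain ⟨-, l1, l2⟩ := lt_of_sum C ha.1.1 hb.1.1 e
        refine ⟨ha.1.sum hb.1 e, by have := ha.2.1; omega, fun ⟨h1, h2⟩ => ?_⟩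
        rw [ip_add m e] at h1
        rcases ip_bound hL hm.1 ha.1.1 ha.2.1 with h | h | h <;>
          rcases ip_bound hL hm.1 hb.1.1 hb.2.1 with h' | h' | h' <;>
          first | omega | exact ha.2.2 ⟨h, by omega⟩ | exact hb.2.2 ⟨h', by omega⟩
      obtain ⟨d, w, hw, rfl⟩ := US_step hL hcl (m := q₀)
        ⟨hkP, hmk, fun h => lt_irrefl k h.2⟩ hv
      obtain ⟨s, hs⟩ := exists_diff hL hip
      have hspos : D.IsPosRoot s.val := by
        rw [C.G.isPosRoot_iff]
        have h1 := C.G.ht_lt (r := m) (s := q₀) (Fin.lt_def.2 hmk)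
        rw [hs, Good.ht_add] at h1
        omega
      have hms : ip D m s = -1 := ip_sum_eq hL hs
      have hsP : Perp S s := ⟨hspos, fun r hr => by
        have := ip_add r hs
        rw [hkP.2 r hr, hm.2 r hr, zero_add] at this
        exact this.symm⟩
      have hsk : ip D s q₀ = 1 := by
        rw [ip_add s hs, hL.1 s m, hms, hL.2.1]; norm_num
      set u := d / c
      have hcu : u * c = d := div_mul_cancel₀ _ hc
      have hw' : C.G.xu s u * w * C.G.xu s u ∈ US C (K := K)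
          (fun q => Perp S q ∧ m.val < q.val ∧ ¬ (ip D m q = 1 ∧ q.val < k + 1)) := by
        refine conj_US hL (W := fun q => Perp S q ∧ m.val < q.val ∧ ¬ (ip D m q = 1 ∧ q.val < k + 1)) hspos
          (fun q hq => ⟨hq.1.1.1, hq.1.1, hq.1.2.1, fun h => ?_⟩) (fun q z hq e => ?_) u hw
        · refine hq.1.2.2 ⟨h.1, ?_⟩
          have : q.val ≠ k := fun h' => hq.2 (Fin.ext h')
          omega
        · obtain ⟨-, -, l2⟩ := lt_of_sum C hspos hq.1.1.1 e
          refine ⟨hsP.sum hq.1.1 e, by have := hq.1.2.1; omega, fun h => ?_⟩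
          have h1 := h.1
          rw [ip_add m e, hms] at h1
          rcases ip_bound hL hm.1 hq.1.1.1 hq.1.2.1 with h' | h' | h' <;> omega
      obtain ⟨h, hh, v', hv', e⟩ := ih (k + 1) (by omega) _ hw'
      refine ⟨h * C.G.xu s u, mul_mem hh (xu_mem_US C hsP u), v', hv', ?_⟩
      rw [← e]
      have e1 : C.G.xu s u * C.G.xu m c * C.G.xu s u = C.G.xu m c * C.G.xu q₀ d := by
        rw [conj_of_sum hL (z := q₀) (by rw [hs, add_comm]), hcu]
      have e2 : C.G.xu s u * C.G.xu q₀ d * C.G.xu s u = C.G.xu q₀ d :=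
        conj_of_zero hL (Or.inr hsk) (C.pos_ne_negr hspos hkP.1) u d
      have key : C.G.xu s u * (C.G.xu m c * (C.G.xu q₀ d * w)) * C.G.xu s u =
          C.G.xu m c * (C.G.xu s u * w * C.G.xu s u) := by
        calc _ = (C.G.xu s u * C.G.xu m c * C.G.xu s u) * (C.G.xu s u * C.G.xu q₀ d * C.G.xu s u) *
              (C.G.xu s u * w * C.G.xu s u) := by
              simp only [mul_assoc, ← mul_assoc (C.G.xu s u) (C.G.xu s u), xu_sq, one_mul]
          _ = C.G.xu m c * (C.G.xu q₀ d * C.G.xu q₀ d) * (C.G.xu s u * w * C.G.xu s u) := by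
              rw [e1, e2, mul_assoc (C.G.xu m c)]
          _ = _ := by rw [xu_sq, mul_one]
      rw [_root_.mul_inv_rev, xu_inv_self, ← key]
      simp only [mul_assoc]
    · refine ih (k + 1) (by omega) v (US_mono C (fun q hq => ⟨hq.1, hq.2.1, fun h => ?_⟩) hv)
      by_cases e : q = q₀
      · subst e; exact hk0 ⟨hq.1, hq.2.1, h.1⟩
      · refine hq.2.2 ⟨h.1, ?_⟩
        have : q.val ≠ k := fun h' => e (Fin.ext h')
        omega

theorem square_step {S : List (Fin D.nroots)} {m : Fin D.nroots} (hm : Perp S m) {c : K} (hc : c ≠ 0) :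
    ∀ j k : ℕ, k + j = D.nroots → ∀ v ∈ US C (K := K)
      (fun q => Perp S q ∧ m.val < q.val ∧ (ip D m q = 0 ∨ (ip D m q = -1 ∧ k ≤ q.val))),
    (C.G.xu m c * v) * (C.G.xu m c * v) = 1 → v ∈ US C (K := K) (fun q => Perp (m :: S) q ∧ m.val < q.val) := by
  intro j
  induction j with
  | zero =>
    intro k hk v hv _
    refine US_mono C (fun q hq => ⟨⟨hq.1.1, fun r hr => ?_⟩, hq.2.1⟩) hv
    rcases List.mem_cons.1 hr with rfl | hr
    · rcases hq.2.2 with h | ⟨-, h⟩
      · exact h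
      · have := q.isLt; omega
    · exact hq.1.2 r hr
  | succ j ih =>
    intro k hk v hv hsq
    have hkn : k < D.nroots := by omega
    set q₀ : Fin D.nroots := ⟨k, hkn⟩ with hq₀
    by_cases hk0 : Perp S q₀ ∧ m.val < k ∧ ip D m q₀ = -1
    · obtain ⟨hkP, hmk, hip⟩ := hk0
      set P := fun q => Perp S q ∧ m.val < q.val ∧ (ip D m q = 0 ∨ (ip D m q = -1 ∧ k ≤ q.val))
      have hcl : Closed C P := by
        refine ⟨fun q hq => hq.1.1, fun a b z ha hb e => ?_⟩
        obtain ⟨hz, l1, l2⟩ := lt_of_sum C ha.1.1 hb.1.1 e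
        refine ⟨ha.1.sum hb.1 e, by have := ha.2.1; omega, ?_⟩
        have hzb := ip_bound hL hm.1 hz (by have := ha.2.1; omega)
        rw [ip_add m e] at hzb ⊢
        rcases ha.2.2 with h | h <;> rcases hb.2.2 with h' | h' <;>
          first | (left; omega) | (right; constructor <;> omega) | omega
      obtain ⟨d, w, hw, hvw⟩ := US_step hL hcl (m := q₀) ⟨hkP, hmk, Or.inr ⟨hip, le_rfl⟩⟩ hv
      obtain ⟨z, hz⟩ := exists_sum hL hip
      obtain ⟨hzpos, hzm, hzk⟩ := lt_of_sum C hm.1 hkP.1 hz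
      set W := fun q : Fin D.nroots => Perp S q ∧ m.val < q.val ∧
        (ip D m q = 0 ∨ ip D m q = -1 ∨ z.val < q.val)
      have hW : Closed C W := by
        refine ⟨fun q hq => hq.1.1, fun a b y ha hb e => ?_⟩
        obtain ⟨hy, l1, l2⟩ := lt_of_sum C ha.1.1 hb.1.1 e
        refine ⟨ha.1.sum hb.1 e, by have := ha.2.1; omega, ?_⟩
        have hyb := ip_bound hL hm.1 hy (by have := ha.2.1; omega)
        rw [ip_add m e] at hyb ⊢
        rcases ha.2.2 with h | h | h <;> rcases hb.2.2 with h' | h' | h' <;>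
          first | (right; right; omega) | (left; omega) | (right; left; omega) | omega
      have hw' : C.G.xu m c * w * C.G.xu m c ∈ US C (K := K) W := by
        refine conj_US hL (W := W) hm.1 (fun q hq => ⟨hq.1.1.1, hq.1.1, hq.1.2.1, ?_⟩) (fun q y hq e => ?_) c hw
        · rcases hq.1.2.2 with h | h
          · exact Or.inl h
          · exact Or.inr (Or.inl h.1)
        · have hmq := ip_sum_eq hL e
          have hkq : k < q.val := by
            rcases hq.1.2.2 with h | h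
            · omega
            · have : q.val ≠ k := fun h' => hq.2 (Fin.ext h'); omega
          obtain ⟨-, ly, -⟩ := lt_of_sum C hm.1 hq.1.1.1 e
          refine ⟨hm.sum hq.1.1 e, by omega, Or.inr (Or.inr (C.G.index_lt_of_ht_lt ?_))⟩
          rw [e, hz, Good.ht_add, Good.ht_add]
          have := C.G.ht_lt (r := q₀) (s := q) (Fin.lt_def.2 hkq)
          omega
      have hv' : v ∈ US C (K := K) W := US_mono C (fun q hq => ⟨hq.1, hq.2.1,
        hq.2.2.elim Or.inl (fun h => Or.inr (Or.inl h.1))⟩) hv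
      have hd : c * d = 0 := by
        refine US_coord_zero hL hW hzpos (fun h => ?_) (d := c * d) ?_
        · rcases h.2.2 with h' | h' | h'
          · rw [ip_add m hz, hip, hL.2.1] at h'; omega
          · rw [ip_add m hz, hip, hL.2.1] at h'; omega
          · omega
        · have e0 : C.G.xu m c * (C.G.xu q₀ d * w) * C.G.xu m c =
              (C.G.xu q₀ d * C.G.xu z (c * d)) * (C.G.xu m c * w * C.G.xu m c) := by
            rw [← conj_of_sum hL hz c d]
            simp only [mul_assoc, ← mul_assoc (C.G.xu m c) (C.G.xu m c), xu_sq, one_mul]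
          have e1 : C.G.xu m c * v * C.G.xu m c = v⁻¹ := by
            refine eq_inv_of_mul_eq_one_left ?_
            rw [← hsq]; group
          rw [hvw, e0] at e1
          have e2 : C.G.xu z (c * d) = (C.G.xu q₀ d)⁻¹ * v⁻¹ * (C.G.xu m c * w * C.G.xu m c)⁻¹ := by
            rw [hvw, ← e1]; group
          rw [e2]
          exact mul_mem (mul_mem (inv_mem (xu_mem_US C (P := W) ⟨hkP, hmk, Or.inr (Or.inl hip)⟩ d))
            (inv_mem hv')) (inv_mem hw')
      obtain rfl : d = 0 := (mul_eq_zero.1 hd).resolve_left hc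
      rw [hvw, C.G.xu_zero, one_mul] at hsq ⊢
      refine ih (k + 1) (by omega) w (US_mono C (fun q hq => ⟨hq.1.1, hq.1.2.1, ?_⟩) hw) hsq
      refine hq.1.2.2.imp id fun h => ⟨h.1, ?_⟩
      have : q.val ≠ k := fun h' => hq.2 (Fin.ext h')
      omega
    · refine ih (k + 1) (by omega) v (US_mono C (fun q hq => ⟨hq.1, hq.2.1, ?_⟩) hv) hsq
      refine hq.2.2.imp id fun h => ⟨h.1, ?_⟩
      by_contra hlt
      have e : q = q₀ := Fin.ext (by simp only [hq₀]; omega)
      exact hk0 ⟨e ▸ hq.1, by rw [e] at hq; exact hq.2.1, e ▸ h.1⟩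

/-- a product of root elements -/
theorem exists_orth_prod : ∀ (j k : ℕ), k + j = D.nroots → ∀ (S : List (Fin D.nroots)) (g : GL D.Idx K),
    g ∈ US C (K := K) (fun q => Perp S q ∧ k ≤ q.val) → g * g = 1 →
    ∃ T : List (Fin D.nroots × K), T.Pairwise (fun a b => ip D a.1 b.1 = 0) ∧
      (∀ a ∈ T, Perp S a.1 ∧ k ≤ a.1.val ∧ a.2 ≠ 0) ∧
      ∃ h ∈ US C (K := K) (Perp S), h * g * h⁻¹ = (T.map fun a => C.G.xu a.1 a.2).prod := by
  intro j
  induction j with
  | zero =>
    intro k hk S g hg _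
    have := US_le_Uge C (m := k) (fun q hq => ⟨hq.2, hq.1.1⟩) hg
    rw [C.G.Uge_top (by omega), Subgroup.mem_bot] at this
    exact ⟨[], List.Pairwise.nil, by simp, 1, one_mem _, by simp [this]⟩
  | succ j ih =>
    intro k hk S g hg hsq
    have hkn : k < D.nroots := by omega
    set m : Fin D.nroots := ⟨k, hkn⟩ with hmdef
    have hnext : g ∈ US C (K := K) (fun q => Perp S q ∧ k + 1 ≤ q.val) →
        ∃ T : List (Fin D.nroots × K), T.Pairwise (fun a b => ip D a.1 b.1 = 0) ∧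
          (∀ a ∈ T, Perp S a.1 ∧ k ≤ a.1.val ∧ a.2 ≠ 0) ∧
          ∃ h ∈ US C (K := K) (Perp S), h * g * h⁻¹ = (T.map fun a => C.G.xu a.1 a.2).prod := fun h => by
      obtain ⟨T, h1, h2, h3⟩ := ih (k + 1) (by omega) S g h hsq
      exact ⟨T, h1, fun a ha => ⟨(h2 a ha).1, by have := (h2 a ha).2.1; omega, (h2 a ha).2.2⟩, h3⟩
    by_cases hm : Perp S m
    · obtain ⟨c, v, hv, rfl⟩ := US_step hL (P := fun q => Perp S q ∧ k ≤ q.val)
        ⟨fun q hq => hq.1.1, fun a b z ha hb e =>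
          ⟨ha.1.sum hb.1 e, le_trans ha.2 (lt_of_sum C ha.1.1 hb.1.1 e).2.1.le⟩⟩ (m := m) ⟨hm, le_rfl⟩ hg
      have hgt : ∀ q : Fin D.nroots, (Perp S q ∧ k ≤ q.val) ∧ q ≠ m → Perp S q ∧ k + 1 ≤ q.val := fun q hq => by
        have : q.val ≠ k := fun h' => hq.2 (Fin.ext h')
        exact ⟨hq.1.1, by omega⟩
      by_cases hc : c = 0
      · subst hc
        exact hnext (by rw [C.G.xu_zero, one_mul]; exact US_mono C hgt hv)
      obtain ⟨h1, hh1, v1, hv1, e1⟩ := clear_step hL hm hc D.nroots 0 (Nat.zero_add _) v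
        (US_mono C (fun q hq => ⟨(hgt q hq).1, (hgt q hq).2, fun h => Nat.not_lt_zero _ h.2⟩) hv)
      have hsq1 : (C.G.xu m c * v1) * (C.G.xu m c * v1) = 1 := by
        rw [← e1, show ∀ a : GL D.Idx K, h1 * a * h1⁻¹ * (h1 * a * h1⁻¹) = h1 * (a * a) * h1⁻¹ from
          fun a => by group, hsq, mul_one, mul_inv_cancel]
      have hv2 := square_step hL hm hc D.nroots 0 (Nat.zero_add _) v1 (US_mono C (fun q hq => ⟨hq.1, hq.2.1, by
        rcases ip_bound hL hm.1 hq.1.1 hq.2.1 with h | h | h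
        · exact Or.inr ⟨h, Nat.zero_le _⟩
        · exact Or.inl h
        · exact absurd h hq.2.2⟩) hv1) hsq1
      have hcomm : ∀ w ∈ US C (K := K) (Perp (m :: S)), w * C.G.xu m c = C.G.xu m c * w := by
        intro w hw
        induction hw using Subgroup.closure_induction with
        | one => simp
        | mem x hx =>
          obtain ⟨q, u, hq, rfl⟩ := hx
          exact xu_commute hL (Or.inl (hq.2 m List.mem_cons_self)) (C.pos_ne_negr hm.1 hq.1) c u
        | mul a b _ _ ha hb => rw [mul_assoc, hb, ← mul_assoc, ha, mul_assoc]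
        | inv a _ ha =>
          calc a⁻¹ * C.G.xu m c = a⁻¹ * (C.G.xu m c * a) * a⁻¹ := by group
            _ = _ := by rw [← ha]; group
      have hv1sq : v1 * v1 = 1 := by
        rw [← hsq1]
        calc v1 * v1 = C.G.xu m c * C.G.xu m c * (v1 * v1) := by rw [xu_sq, one_mul]
          _ = C.G.xu m c * (C.G.xu m c * v1) * v1 := by group
          _ = C.G.xu m c * (v1 * C.G.xu m c) * v1 := by rw [hcomm v1 (US_mono C (fun q hq => hq.1) hv2)]
          _ = _ := by group
      obtain ⟨T, hT1, hT2, h2, hh2, e2⟩ := ih (k + 1) (by omega) (m :: S) v1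
        (US_mono C (fun q hq => ⟨hq.1, hq.2⟩) hv2) hv1sq
      refine ⟨(m, c) :: T, List.pairwise_cons.2 ⟨fun a ha => (hT2 a ha).1.2 m List.mem_cons_self, hT1⟩,
        fun a ha => ?_, h2 * h1, mul_mem (US_mono C (fun q hq => ⟨hq.1, fun r hr => hq.2 r (List.mem_cons_of_mem _ hr)⟩) hh2) hh1, ?_⟩
      · rcases List.mem_cons.1 ha with rfl | ha
        · exact ⟨hm, le_rfl, hc⟩
        · exact ⟨⟨(hT2 a ha).1.1, fun r hr => (hT2 a ha).1.2 r (List.mem_cons_of_mem _ hr)⟩,
            by have := (hT2 a ha).2.1; omega, (hT2 a ha).2.2⟩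
      · rw [List.map_cons, List.prod_cons, ← e2]
        calc h2 * h1 * (C.G.xu m c * v) * (h2 * h1)⁻¹ = h2 * (h1 * (C.G.xu m c * v) * h1⁻¹) * h2⁻¹ := by group
          _ = (h2 * C.G.xu m c) * v1 * h2⁻¹ := by rw [e1]; group
          _ = _ := by rw [hcomm h2 hh2]; group
    · refine hnext (US_mono C (fun q hq => ⟨hq.1, ?_⟩) hg)
      have : q.val ≠ k := fun h' => hm (by rw [show m = q from Fin.ext h'.symm]; exact hq.1)
      omega

omit hL
variable (C)

/-- conjugacy in the group -/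
def Cj (g h : GL D.Idx K) : Prop := ∃ x ∈ D.group K, x * g * x⁻¹ = h

/-- the product of `x_r(1)` over a list -/
noncomputable def xprod (T : List (Fin D.nroots)) : GL D.Idx K := (T.map fun r => C.G.xu r (1 : K)).prod

variable {C}

omit [CharP K 2] in
theorem Cj.trans {g h k : GL D.Idx K} (h1 : Cj g h) (h2 : Cj h k) : Cj g k := by
  obtain ⟨x, hx, rfl⟩ := h1
  obtain ⟨y, hy, rfl⟩ := h2
  exact ⟨y * x, mul_mem hy hx, by group⟩

include hL

theorem scale_prod [Finite K] : ∀ T : List (Fin D.nroots × K), T.Pairwise (fun a b => ip D a.1 b.1 = 0) →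
    (∀ a ∈ T, a.2 ≠ 0) →
    ∃ h ∈ D.diagonalSubgroup K, (∀ (q : Fin D.nroots), (∀ a ∈ T, ip D a.1 q = 0) → ∀ t : K,
        h * C.G.xu q t * h⁻¹ = C.G.xu q t) ∧
      h * (T.map fun a => C.G.xu a.1 a.2).prod * h⁻¹ = xprod C (T.map Prod.fst) := by
  intro T
  induction T with
  | nil => intro _ _; exact ⟨1, one_mem _, fun q _ t => by simp, by simp [xprod]⟩
  | cons a T ih =>
    intro hp hne
    rw [List.pairwise_cons] at hp
    obtain ⟨h, hh, hfix, he⟩ := ih hp.2 fun b hb => hne b (List.mem_cons_of_mem _ hb)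
    obtain ⟨y, hy⟩ := (bijective_frobenius K 2).2 a.2⁻¹
    rw [frobenius_def] at hy
    have hy0 : y ≠ 0 := by
      rintro rfl
      exact inv_ne_zero (hne a List.mem_cons_self) (by simpa using hy.symm)
    set e := C.G.hd a.1 (Units.mk0 y hy0) with hedef
    have hea : e * C.G.xu a.1 a.2 * e⁻¹ = C.G.xu a.1 1 := by
      rw [hedef, hd_conj, hL.2.1]
      congr 1
      rw [zpow_ofNat, Units.val_pow_eq_pow_val, Units.val_mk0, hy, inv_mul_cancel₀ (hne a List.mem_cons_self)]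
    have hef : ∀ q : Fin D.nroots, ip D a.1 q = 0 → ∀ t : K, e * C.G.xu q t * e⁻¹ = C.G.xu q t := fun q hq t => by
      rw [hedef, hd_conj, hq, zpow_zero, Units.val_one, one_mul]
    refine ⟨e * h, mul_mem (C.G.hd_mem_H _ _) hh, fun q hq t => ?_, ?_⟩
    · calc e * h * C.G.xu q t * (e * h)⁻¹ = e * (h * C.G.xu q t * h⁻¹) * e⁻¹ := by group
        _ = _ := by rw [hfix q (fun b hb => hq b (List.mem_cons_of_mem _ hb)),
          hef q (hq a List.mem_cons_self)]
    · have hha : h * C.G.xu a.1 a.2 * h⁻¹ = C.G.xu a.1 a.2 :=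
        hfix a.1 (fun b hb => (hL.1 _ _).trans (hp.1 b hb)) _
      have hrest : e * xprod C (T.map Prod.fst) * e⁻¹ = xprod C (T.map Prod.fst) := by
        have hL' : ∀ l : List (Fin D.nroots), (∀ q ∈ l, ip D a.1 q = 0) →
            e * xprod C (K := K) l * e⁻¹ = xprod C l := by
          intro l
          induction l with
          | nil => intro _; simp [xprod]
          | cons q l ihl =>
            intro hl
            simp only [xprod, List.map_cons, List.prod_cons] at ihl ⊢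
            rw [show e * (C.G.xu q 1 * (l.map fun r => C.G.xu r (1 : K)).prod) * e⁻¹ =
              (e * C.G.xu q 1 * e⁻¹) * (e * (l.map fun r => C.G.xu r (1 : K)).prod * e⁻¹) by group,
              hef q (hl q List.mem_cons_self), ihl fun r hr => hl r (List.mem_cons_of_mem _ hr)]
        exact hL' _ fun q hq => by
          obtain ⟨b, hb, rfl⟩ := List.mem_map.1 hq
          exact hp.1 b hb
      simp only [List.map_cons, List.prod_cons]
      rw [show xprod C (a.1 :: T.map Prod.fst) = C.G.xu a.1 (1 : K) * xprod C (T.map Prod.fst) by simp [xprod],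
        ← hea, ← hrest, ← he]
      conv_rhs => rw [← hha]
      group

theorem exists_orth [Fintype K] {g : GL D.Idx K} (hg : g ∈ D.group K) (h : orderOf g = 2) :
    ∃ T : List (Fin D.nroots), T.Pairwise (fun a b => ip D a b = 0) ∧
      (∀ a ∈ T, D.IsPosRoot a.val) ∧ Cj g (xprod C (K := K) T) := by
  haveI : Fact (Nat.Prime 2) := ⟨Nat.prime_two⟩
  obtain ⟨P₀, hP₀⟩ := C.exists_sylow (F := K) 2
  set g' : ↥(D.group K) := ⟨g, hg⟩
  have hg2 : orderOf g' = 2 := (Subgroup.orderOf_coe g').symm.trans h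
  obtain ⟨Q, hQ⟩ := (IsPGroup.of_card (p := 2) (n := 1) (G := ↥(Subgroup.zpowers g'))
    (by rw [Nat.card_zpowers, hg2, pow_one])).exists_le_sylow
  obtain ⟨x, hx⟩ := MulAction.exists_smul_eq ↥(D.group K) Q P₀
  have hmem : x * g' * x⁻¹ ∈ (P₀ : Subgroup ↥(D.group K)) := by
    rw [← hx, Sylow.coe_subgroup_smul]
    exact Subgroup.smul_mem_pointwise_smul _ (MulAut.conj x) _ (hQ (Subgroup.mem_zpowers g'))
  rw [hP₀, Subgroup.mem_subgroupOf, C.G.posUnipotent_eq] at hmem
  have hgg : g * g = 1 := by rw [← pow_two, ← h]; exact pow_orderOf_eq_one g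
  obtain ⟨T, hT1, hT2, h1, hh1, e1⟩ := exists_orth_prod hL D.nroots 0 (Nat.zero_add _) []
    ((x : GL D.Idx K) * g * (x : GL D.Idx K)⁻¹)
    (Uge_le_US C (fun q _ hq => ⟨⟨hq, by simp⟩, Nat.zero_le _⟩) hmem)
    (by rw [show ∀ a : GL D.Idx K, (x : GL D.Idx K) * a * (x : GL D.Idx K)⁻¹ * ((x : GL D.Idx K) * a * (x : GL D.Idx K)⁻¹) =
      (x : GL D.Idx K) * (a * a) * (x : GL D.Idx K)⁻¹ from fun a => by group, hgg, mul_one, mul_inv_cancel])
  obtain ⟨h2, hh2, -, e2⟩ := scale_prod hL T hT1 fun a ha => (hT2 a ha).2.2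
  refine ⟨T.map Prod.fst, List.pairwise_map.2 hT1, fun a ha => ?_, h2 * h1 * (x : GL D.Idx K),
    mul_mem (mul_mem (C.G.diagonal_le_group hh2) ?_) x.2, ?_⟩
  · obtain ⟨b, hb, rfl⟩ := List.mem_map.1 ha
    exact (hT2 b hb).1.1
  · exact (C.G.posUnipotent_eq (K := K) ▸ C.G.posUnipotent_le_group)
      (US_le_Uge C (m := 0) (P := Perp []) (fun q hq => ⟨Nat.zero_le _, hq.1⟩) hh1)
  · rw [← e2, ← e1]; group

end CfsgLib.Lie.Laced
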