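import Cfsg.Agent.Lib.Lie.Laced.OrthTwistLayer

/-!
# Fixed involutions as products over orthogonal orbits of roots
-/

set_option autoImplicit false
set_option linter.style.haveILetI false
set_option linter.unusedSectionVars false
set_option maxHeartbeats 1000000

namespace CfsgLib.Lie.Laced.TwLaced

open Cfsg.Lie CfsgLib.Lie.Chev
open scoped MatrixGroups

variable {D : ChevalleyDatum} {C : Full D} {K : Type*} [Field K] [CharP K 2]
variable {T : Twist C.G K} {θ : K ≃+* K} {h : Fin D.nroots → ℤ} (H : TwLaced T θ h)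

omit [CharP K 2] in
/-- commuting with generators -/
theorem US_commute {P : Fin D.nroots → Prop} {X : GL D.Idx K}
    (hX : ∀ q t, P q → C.G.xu q t * X = X * C.G.xu q t) {w : GL D.Idx K} (hw : w ∈ US C (K := K) P) :
    w * X = X * w := by
  induction hw using Subgroup.closure_induction with
  | one => simp
  | mem x hx =>
    obtain ⟨q, u, hq, rfl⟩ := hx
    exact hX q u hq
  | mul a b _ _ ha hb => rw [mul_assoc, hb, ← mul_assoc, ha, mul_assoc]
  | inv a _ ha =>
    calc a⁻¹ * X = a⁻¹ * (X * a) * a⁻¹ := by group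
      _ = _ := by rw [← ha]; group

include H

/-- the product over a list of orbits -/
noncomputable def orbProd (L : List (Fin D.nroots × K)) : GL D.Idx K :=
  (L.map fun a => H.orbEl a.1 a.2).prod

/-- the orbit element commutes with the roots orthogonal to the orbit -/
theorem orbEl_commute {m q : Fin D.nroots} (hm : D.IsPosRoot m.val) (hq : D.IsPosRoot q.val) (hz : Zr T m q)
    (c t : K) : C.G.xu q t * H.orbEl m c = H.orbEl m c * C.G.xu q t := by
  have h1 : ∀ a, C.G.xu q t * C.G.xu m a = C.G.xu m a * C.G.xu q t := fun a =>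
    xu_commute H.laced (Or.inl hz.1) (C.pos_ne_negr hm hq) a t
  have h2 : ∀ a, C.G.xu q t * C.G.xu (T.p m) a = C.G.xu (T.p m) a * C.G.xu q t := fun a =>
    xu_commute H.laced (Or.inl hz.2) (C.pos_ne_negr (H.hp_pos.2 hm) hq) a t
  unfold orbEl
  split
  · exact h1 c
  · rw [← mul_assoc, h1, mul_assoc, h2, ← mul_assoc]

/-- the induction on the region -/
theorem exists_orb_prod_aux {β : K} (hβ : β + θ β = 1) : ∀ (k : ℕ) (S : List (Fin D.nroots))
    (R : Fin D.nroots → Prop), (∀ r ∈ S, T.p r ∈ S) → (∀ a, R a → Perp S a) → (∀ a, R a → R (T.p a)) →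
    (∀ a y, R a → Perp S y → h a < h y → R y) → Nat.card {a // R a} ≤ k →
    ∀ g ∈ US C (K := K) R, g ∈ T.Fix → g * g = 1 →
    ∃ L : List (Fin D.nroots × K), L.Pairwise (fun a b => Zr T a.1 b.1) ∧
      (∀ a ∈ L, Perp S a.1 ∧ a.2 ≠ 0 ∧ (T.p a.1 = a.1 → θ a.2 = a.2)) ∧
      ∃ u ∈ T.Fix, u ∈ US C (K := K) (Perp S) ∧ u * g * u⁻¹ = H.orbProd L := by
  intro k
  induction k with
  | zero =>
    intro S R _ _ _ _ hk g hg _ _
    have hR : ∀ a, ¬ R a := fun a ha => by
      have : Nonempty {a // R a} := ⟨⟨a, ha⟩⟩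
      have := Nat.card_pos (α := {a // R a})
      omega
    have hg1 : g = 1 := by
      have hle : US C (K := K) R ≤ ⊥ :=
        (Subgroup.closure_le _).2 fun _ ⟨q, _, hq, _⟩ => absurd hq (hR q)
      exact Subgroup.mem_bot.1 (hle hg)
    exact ⟨[], List.Pairwise.nil, by simp, 1, one_mem _, one_mem _, by simp [orbProd, hg1]⟩
  | succ k ih =>
    intro S R hS hsub hst hup hk g hg hgf hg2
    by_cases hex : ∃ a, R a
    swap
    · refine ih S R hS hsub hst hup ?_ g hg hgf hg2
      have : IsEmpty {a // R a} := ⟨fun a => hex ⟨a.1, a.2⟩⟩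
      simp [Nat.card_of_isEmpty]
    classical
    obtain ⟨m, hm, hmin⟩ := (Finset.univ.filter R).exists_min_image h
      (by obtain ⟨a, ha⟩ := hex; exact ⟨a, by simp [ha]⟩)
    simp only [Finset.mem_filter, Finset.mem_univ, true_and] at hm hmin
    have L : Low T h S R m := ⟨hS, hsub, hst, hup, hm, hmin⟩
    have hlt : ∀ R' : Fin D.nroots → Prop, (∀ a, R' a → R a) → ¬ R' m → Nat.card {a // R' a} ≤ k := fun R' hR' hn => by
      have : Nat.card {a // R' a} < Nat.card {a // R a} := by
        rw [Nat.card_eq_fintype_card, Nat.card_eq_fintype_card]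
        exact Fintype.card_lt_of_injective_of_notMem (fun a => (⟨a.1, hR' a.1 a.2⟩ : {a // R a}))
          (fun a b e => Subtype.ext (congrArg (fun z : {a // R a} => z.1) e)) (b := ⟨m, hm⟩)
          (by rintro ⟨a, ha⟩; exact hn (by rw [← show a.1 = m from congrArg Subtype.val ha]; exact a.2))
      omega
    have hsum : ∀ x, h x = h m → ∀ a b, R a → R b → C.G.rho x ≠ C.G.rho a + C.G.rho b := fun x hx a b ha hb e => by
      have := H.hadd a b x e
      have := hmin a ha
      have := hmin b hb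
      have := H.h_pos_of (H.m_pos L)
      omega
    obtain ⟨c, hc, v, hv, hvf, rfl⟩ := H.split (P := R)
      ⟨fun a ha => (hsub a ha).1, fun a b z ha hb e => H.R_closed L ha hb e⟩ hst hm (hsum m rfl)
      (hsum _ (H.hp m)) hg hgf
    by_cases hc0 : c = 0
    · subst hc0
      have h1 : H.orbEl m (0 : K) = 1 := by unfold orbEl; split <;> simp [C.G.xu_zero]
      rw [h1, one_mul] at hg2 ⊢
      exact ih S (fun a => R a ∧ a ≠ m ∧ a ≠ T.p m) hS (fun a ha => hsub a ha.1)
        (fun a ha => ⟨hst a ha.1, fun e => ha.2.2 (by rw [← e, H.pp]), fun e => ha.2.1 (T.p.injective e)⟩)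
        (fun a y ha hy hl => ⟨hup a y ha.1 hy hl, fun e => by subst e; have := hmin a ha.1; omega,
          fun e => by subst e; have := hmin a ha.1; have := H.hp m; omega⟩)
        (hlt _ (fun a ha => ha.1) fun e => e.2.1 rfl) v hv hvf hg2
    set X := H.orbEl m c
    set g := X * v
    obtain ⟨N, hN⟩ : ∃ N : ℕ, ∀ q, h q ≤ h m + N := by
      refine ⟨Finset.univ.sup fun q => (h q - h m).toNat, fun q => ?_⟩
      have := Finset.le_sup (f := fun q => (h q - h m).toNat) (Finset.mem_univ q)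
      omega
    have hloop : ∀ n : ℕ, State T h S R m (h m + n) (fun _ => False) X g := by
      intro n
      induction n with
      | zero =>
        refine ⟨1, one_mem _, one_mem _, v, US_mono C (fun a ha => ⟨ha.1, ha.2.1, ha.2.2, Or.inr ⟨?_, id⟩⟩) hv,
          hvf, by rw [inv_one, mul_one, one_mul]⟩
        have := hmin a ha.1
        omega
      | succ n ihn =>
        have := H.clear_layer L hβ hc0 hc hg2 ihn
        rwa [show h m + ((n + 1 : ℕ) : ℤ) = h m + n + 1 by push_cast; ring]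
    obtain ⟨u, hu, huU, w, hw, hwf, e⟩ := hloop (N + 1)
    set R' := fun a => R a ∧ Zr T m a
    have hwR : w ∈ US C (K := K) R' := US_mono C (fun a ha => ⟨ha.1, ha.2.2.2.resolve_right fun h1 => by
      have := hN a; have := h1.1; push_cast at this; omega⟩) hw
    have hmpos := H.m_pos L
    have hR'P : ∀ a, R' a → Perp (m :: T.p m :: S) a := fun a ha => ⟨(hsub a ha.1).1, fun r hr => by
      rcases List.mem_cons.1 hr with rfl | hr
      · exact ha.2.1
      rcases List.mem_cons.1 hr with rfl | hr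
      · exact ha.2.2
      exact (hsub a ha.1).2 r hr⟩
    have hcomm : ∀ x ∈ US C (K := K) (Perp (m :: T.p m :: S)), x * X = X * x := fun x hx =>
      US_commute (fun q t hq => H.orbEl_commute hmpos hq.1
        ⟨hq.2 m (by simp), hq.2 (T.p m) (by simp)⟩ c t) hx
    have hwc : w * X = X * w := hcomm w (US_mono C hR'P hwR)
    have hXX : X * X = 1 := H.orbEl_sq hmpos c
    have hw2 : w * w = 1 := by
      have h2 : X * w * (X * w) = 1 := by
        rw [← e, show u * g * u⁻¹ * (u * g * u⁻¹) = u * (g * g) * u⁻¹ by group, hg2, mul_one, mul_inv_cancel]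
      calc w * w = X * X * (w * w) := by rw [hXX, one_mul]
        _ = X * (X * w) * w := by simp only [mul_assoc]
        _ = X * (w * X) * w := by rw [hwc]
        _ = X * w * (X * w) := by simp only [mul_assoc]
        _ = 1 := h2
    obtain ⟨L', hp', ha', u', hu', hu'U, e'⟩ := ih (m :: T.p m :: S) R'
      (fun r hr => by
        rcases List.mem_cons.1 hr with rfl | hr
        · simp
        rcases List.mem_cons.1 hr with rfl | hr
        · simp [H.pp]
        simp [hS r hr])
      hR'P (fun a ha => ⟨hst a ha.1, H.zr_p L ha.2⟩)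
      (fun a y ha hy hl => ⟨hup a y ha.1 ⟨hy.1, fun r hr => hy.2 r (by simp [hr])⟩ hl,
        hy.2 m (by simp), hy.2 (T.p m) (by simp)⟩)
      (hlt _ (fun a ha => ha.1) fun hh => by have := hh.2.1; rw [H.laced.2.1] at this; omega) w hwR hwf hw2
    refine ⟨(m, c) :: L', List.pairwise_cons.2 ⟨fun a ha => ?_, hp'⟩, fun a ha => ?_, u' * u, mul_mem hu' hu,
      mul_mem (US_mono C (fun a ha => ⟨ha.1, fun r hr => ha.2 r (by simp [hr])⟩) hu'U) huU, ?_⟩
    · exact ⟨(ha' a ha).1.2 m (by simp), (ha' a ha).1.2 (T.p m) (by simp)⟩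
    · rcases List.mem_cons.1 ha with rfl | ha
      · exact ⟨hsub _ hm, hc0, hc⟩
      · exact ⟨⟨(ha' a ha).1.1, fun r hr => (ha' a ha).1.2 r (by simp [hr])⟩, (ha' a ha).2⟩
    · calc u' * u * g * (u' * u)⁻¹ = u' * (u * g * u⁻¹) * u'⁻¹ := by group
        _ = (u' * X) * w * u'⁻¹ := by rw [e]; group
        _ = X * (u' * w * u'⁻¹) := by rw [hcomm u' hu'U]; group
        _ = _ := by rw [e']; rfl

/-- a fixed unipotent involution as a product over orthogonal orbits -/
theorem exists_orb_prod (hβ : ∃ β, β + θ β = 1) {g : GL D.Idx K}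
    (hg : g ∈ US C (K := K) (fun a => D.IsPosRoot a.val)) (hgf : g ∈ T.Fix) (hg2 : g * g = 1) :
    ∃ L : List (Fin D.nroots × K), L.Pairwise (fun a b => Zr T a.1 b.1) ∧
      (∀ a ∈ L, D.IsPosRoot a.1.val ∧ a.2 ≠ 0 ∧ (T.p a.1 = a.1 → θ a.2 = a.2)) ∧
      ∃ u ∈ T.Fix, u * g * u⁻¹ = H.orbProd L := by
  obtain ⟨β, hβ⟩ := hβ
  obtain ⟨L, h1, h2, u, hu, -, e⟩ := H.exists_orb_prod_aux hβ (Nat.card {a : Fin D.nroots // D.IsPosRoot a.val})
    [] (fun a => D.IsPosRoot a.val) (by simp) (fun a ha => ⟨ha, by simp⟩) (fun a ha => H.hp_pos.2 ha)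
    (fun a y _ hy _ => hy.1) le_rfl g hg hgf hg2
  exact ⟨L, h1, fun a ha => ⟨(h2 a ha).1.1, (h2 a ha).2⟩, u, hu, e⟩

end CfsgLib.Lie.Laced.TwLaced
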