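import Cfsg.Agent.Lib.Lie.Laced.Orth
import Cfsg.Agent.Lib.Lie.Chev.Tw.Twist

/-!
# Coordinates of elements fixed by a twist of order two of a simply laced group
-/

set_option autoImplicit false
set_option linter.style.haveILetI false
set_option linter.unusedSectionVars false

namespace CfsgLib.Lie.Laced

open Cfsg.Lie CfsgLib.Lie.Chev
open scoped MatrixGroups

variable {D : ChevalleyDatum} {C : Full D} {K : Type*} [Field K] [CharP K 2]

/-- the hypotheses on a twist of order two, with a height function on the roots -/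
structure TwLaced (T : Twist C.G K) (θ : K ≃+* K) (h : Fin D.nroots → ℤ) : Prop where
  laced : IsLaced D C
  eps : ∀ r, T.eps r = 1
  sig : ∀ r, T.σ r = θ
  pp : ∀ r, T.p (T.p r) = r
  th : ∀ x, θ (θ x) = x
  ipp : ∀ r s, ip D (T.p r) (T.p s) = ip D r s
  orth : ∀ r, T.p r = r ∨ ip D r (T.p r) = 0
  hp : ∀ r, h (T.p r) = h r
  hadd : ∀ a b z, C.G.rho z = C.G.rho a + C.G.rho b → h z = h a + h b
  hpos : ∀ r, D.IsPosRoot r.val ↔ 0 < h r

variable {T : Twist C.G K} {θ : K ≃+* K} {h : Fin D.nroots → ℤ}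

/-- unique coefficient at a root which is not a sum -/
theorem coeff_unique (hL : IsLaced D C) {P : Fin D.nroots → Prop} {q : Fin D.nroots}
    (hP : Closed C (fun a => P a ∧ a ≠ q)) (hq : D.IsPosRoot q.val) {d d' : K} {w w' : GL D.Idx K}
    (hw : w ∈ US C (K := K) fun a => P a ∧ a ≠ q) (hw' : w' ∈ US C (K := K) fun a => P a ∧ a ≠ q)
    (e : C.G.xu q d * w = C.G.xu q d' * w') : d = d' ∧ w = w' := by
  have h1 : C.G.xu q (d + d') = w' * w⁻¹ := by
    calc C.G.xu q (d + d') = C.G.xu q (d' + d) := by rw [add_comm]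
      _ = C.G.xu q d' * C.G.xu q d := C.G.xu_add _ _ _
      _ = C.G.xu q d' * (C.G.xu q d * w) * w⁻¹ := by group
      _ = w' * w⁻¹ := by rw [e, ← mul_assoc, ← C.G.xu_add, CharTwo.add_self_eq_zero, C.G.xu_zero, one_mul]
  have hd : d + d' = 0 := by
    refine US_coord_zero hL hP hq (fun h => h.2 rfl) ?_
    rw [h1]; exact mul_mem hw' (inv_mem hw)
  have hdd : d = d' := by rwa [← sub_eq_zero, CharTwo.sub_eq_add]
  refine ⟨hdd, ?_⟩
  subst hdd
  exact mul_left_cancel e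

namespace TwLaced

variable (H : TwLaced T θ h)
include H

theorem hp_pos {r : Fin D.nroots} : D.IsPosRoot (T.p r).val ↔ D.IsPosRoot r.val := T.p_pos r

theorem ip_p (r s : Fin D.nroots) : ip D (T.p r) s = ip D r (T.p s) := by
  conv_lhs => rw [← H.pp s]
  rw [H.ipp]

theorem φ_xu (r : Fin D.nroots) (t : K) :
    (T.φ ⟨C.G.xu r t, C.G.xu_mem r t⟩ : GL D.Idx K) = C.G.xu (T.p r) (θ t) := by
  rw [T.φ_xu, H.eps, H.sig, one_mul]

theorem φ_US {P : Fin D.nroots → Prop} (hP : ∀ q, P q → P (T.p q)) {g : GL D.Idx K} (hg : g ∈ D.group K)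
    (hU : g ∈ US C (K := K) P) : (T.φ ⟨g, hg⟩ : GL D.Idx K) ∈ US C (K := K) P := by
  have hle : US C (K := K) P ≤ D.group K :=
    (Subgroup.closure_le _).2 fun _ ⟨q, t, _, e⟩ => e ▸ C.G.xu_mem q t
  have key : ∀ x ∈ US C (K := K) P, ∀ hx : x ∈ D.group K, (T.φ ⟨x, hx⟩ : GL D.Idx K) ∈ US C (K := K) P := by
    intro x hx
    induction hx using Subgroup.closure_induction with
    | mem x hx =>
      obtain ⟨q, t, hq, rfl⟩ := hx
      intro _
      rw [H.φ_xu]
      exact xu_mem_US C (hP q hq) _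
    | one => intro hx; rw [show (⟨1, hx⟩ : ↥(D.group K)) = 1 from rfl, map_one]; exact one_mem _
    | mul a b ha hb iha ihb =>
      intro hx
      rw [show (⟨a * b, hx⟩ : ↥(D.group K)) = ⟨a, hle ha⟩ * ⟨b, hle hb⟩ from rfl, map_mul]
      exact mul_mem (iha _) (ihb _)
    | inv a ha iha =>
      intro hx
      rw [show (⟨a⁻¹, hx⟩ : ↥(D.group K)) = ⟨a, hle ha⟩⁻¹ from rfl, map_inv]
      exact inv_mem (iha _)
  exact key g hU hg

/-- the element of an orbit -/
noncomputable def orbEl (_H : TwLaced T θ h) (r : Fin D.nroots) (a : K) : GL D.Idx K :=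
  if T.p r = r then C.G.xu r a else C.G.xu r a * C.G.xu (T.p r) (θ a)

theorem orb_commute {r : Fin D.nroots} (hr : D.IsPosRoot r.val) (a b : K) :
    C.G.xu (T.p r) a * C.G.xu r b = C.G.xu r b * C.G.xu (T.p r) a := by
  rcases H.orth r with e | e
  · rw [e, ← C.G.xu_add, ← C.G.xu_add, add_comm]
  · exact xu_commute H.laced (Or.inl e) (C.pos_ne_negr hr (H.hp_pos.2 hr)) b a

theorem orbEl_sq {r : Fin D.nroots} (hr : D.IsPosRoot r.val) (a : K) : H.orbEl r a * H.orbEl r a = 1 := by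
  unfold orbEl
  split
  · exact xu_sq C r a
  · calc C.G.xu r a * C.G.xu (T.p r) (θ a) * (C.G.xu r a * C.G.xu (T.p r) (θ a))
        = C.G.xu r a * (C.G.xu (T.p r) (θ a) * C.G.xu r a) * C.G.xu (T.p r) (θ a) := by group
      _ = C.G.xu r a * C.G.xu r a * (C.G.xu (T.p r) (θ a) * C.G.xu (T.p r) (θ a)) := by
          rw [H.orb_commute hr]; group
      _ = 1 := by rw [xu_sq, xu_sq, one_mul]

theorem orbEl_fix {r : Fin D.nroots} (hr : D.IsPosRoot r.val) {a : K} (ha : T.p r = r → θ a = a) :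
    H.orbEl r a ∈ T.Fix := by
  unfold orbEl
  split
  · next e =>
    refine T.mem_Fix.2 ⟨C.G.xu_mem _ _, Subtype.ext ?_⟩
    rw [H.φ_xu, e, ha e]
  · refine T.mem_Fix.2 ⟨mul_mem (C.G.xu_mem _ _) (C.G.xu_mem _ _), Subtype.ext ?_⟩
    rw [show (⟨C.G.xu r a * C.G.xu (T.p r) (θ a), _⟩ : ↥(D.group K)) =
      ⟨C.G.xu r a, C.G.xu_mem _ _⟩ * ⟨C.G.xu (T.p r) (θ a), C.G.xu_mem _ _⟩ from rfl, map_mul,
      Subgroup.coe_mul, H.φ_xu, H.φ_xu, H.pp, H.th]
    exact H.orb_commute hr _ _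

theorem orbEl_mem {P : Fin D.nroots → Prop} (hP : ∀ q, P q → P (T.p q)) {r : Fin D.nroots} (hr : P r) (a : K) :
    H.orbEl r a ∈ US C (K := K) P := by
  unfold orbEl
  split
  · exact xu_mem_US C hr a
  · exact mul_mem (xu_mem_US C hr a) (xu_mem_US C (hP r hr) _)

/-- splitting off the coordinates of an orbit in a fixed element -/
theorem split {P : Fin D.nroots → Prop} (hP : Closed C P) (hPp : ∀ a, P a → P (T.p a)) {q : Fin D.nroots}
    (hq : P q) (hsum : ∀ a b, P a → P b → C.G.rho q ≠ C.G.rho a + C.G.rho b)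
    (hsum' : ∀ a b, P a → P b → C.G.rho (T.p q) ≠ C.G.rho a + C.G.rho b) {g : GL D.Idx K}
    (hg : g ∈ US C (K := K) P) (hf : g ∈ T.Fix) :
    ∃ d, (T.p q = q → θ d = d) ∧ ∃ w ∈ US C (K := K) (fun a => P a ∧ a ≠ q ∧ a ≠ T.p q), w ∈ T.Fix ∧
      g = H.orbEl q d * w := by
  have hcl : ∀ x : Fin D.nroots, (∀ a b, P a → P b → C.G.rho x ≠ C.G.rho a + C.G.rho b) →
      Closed C fun a => P a ∧ a ≠ x := fun x hx =>
    ⟨fun a ha => hP.1 a ha.1, fun a b z ha hb e => ⟨hP.2 a b z ha.1 hb.1 e, fun e' => hx a b ha.1 hb.1 (e' ▸ e)⟩⟩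
  obtain ⟨d, w, hw, e⟩ := US_step H.laced hP hq hg
  have hgD := T.Fix_le hf
  have hwD : w ∈ D.group K := by
    rw [show w = (C.G.xu q d)⁻¹ * g by rw [e]; group]
    exact mul_mem (inv_mem (C.G.xu_mem _ _)) hgD
  have hφ : C.G.xu (T.p q) (θ d) * (T.φ ⟨w, hwD⟩ : GL D.Idx K) = g := by
    rw [← H.φ_xu, ← Subgroup.coe_mul, ← map_mul]
    rw [show (⟨C.G.xu q d, C.G.xu_mem q d⟩ : ↥(D.group K)) * ⟨w, hwD⟩ = ⟨g, hgD⟩ from Subtype.ext e.symm]
    exact T.fix_eq hf hgD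
  by_cases hfx : T.p q = q
  · have hd : θ d = d := by
      have hw2 : (T.φ ⟨w, hwD⟩ : GL D.Idx K) ∈ US C (K := K) fun a => P a ∧ a ≠ q :=
        H.φ_US (P := fun a => P a ∧ a ≠ q) (fun a ha => ⟨hPp a ha.1, fun e => ha.2 (by rw [← H.pp a, e, hfx])⟩)
          hwD hw
      rw [hfx] at hφ
      exact (coeff_unique H.laced (hcl q hsum) (hP.1 q hq) hw2 hw (hφ.trans e)).1
    have hor : H.orbEl q d = C.G.xu q d := if_pos hfx
    refine ⟨d, fun _ => hd, w, US_mono C (fun a ha => by rw [hfx]; exact ⟨ha.1, ha.2, ha.2⟩) hw, ?_, by rw [hor, e]⟩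
    rw [show w = (H.orbEl q d)⁻¹ * g by rw [hor, e]; group]
    exact mul_mem (inv_mem (H.orbEl_fix (hP.1 q hq) fun _ => hd)) hf
  · have hne : q ≠ T.p q := fun e => hfx e.symm
    have hor : H.orbEl q d = C.G.xu q d * C.G.xu (T.p q) (θ d) := if_neg hfx
    obtain ⟨d', w', hw', e'⟩ := US_step H.laced (hcl q hsum) (m := T.p q) ⟨hPp q hq, fun e => hne e.symm⟩ hw
    have hd' : d' = θ d := by
      have h2 : g = C.G.xu (T.p q) d' * (C.G.xu q d * w') := by
        rw [e, e', ← mul_assoc, ← H.orb_commute (hP.1 q hq), mul_assoc]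
      refine (coeff_unique H.laced (hcl _ hsum') (hP.1 _ (hPp q hq))
        (mul_mem (xu_mem_US C (P := fun a => P a ∧ a ≠ T.p q) ⟨hq, hne⟩ d)
          (US_mono C (fun a ha => ⟨ha.1.1, ha.2⟩) hw'))
        ?_ (h2.symm.trans hφ.symm)).1
      have hle : US C (K := K) (fun a => P a ∧ a ≠ q) ≤ D.group K :=
        (Subgroup.closure_le _).2 fun _ ⟨q, t, _, e⟩ => e ▸ C.G.xu_mem q t
      have key : ∀ x ∈ US C (K := K) (fun a => P a ∧ a ≠ q), ∀ hx : x ∈ D.group K,
          (T.φ ⟨x, hx⟩ : GL D.Idx K) ∈ US C (K := K) fun a => P a ∧ a ≠ T.p q := by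
        intro x hx
        induction hx using Subgroup.closure_induction with
        | mem x hx =>
          obtain ⟨r, t, hr, rfl⟩ := hx
          intro _
          rw [H.φ_xu]
          exact xu_mem_US C (P := fun a => P a ∧ a ≠ T.p q) ⟨hPp r hr.1, fun e => hr.2 (T.p.injective e)⟩ _
        | one => intro hx; rw [show (⟨1, hx⟩ : ↥(D.group K)) = 1 from rfl, map_one]; exact one_mem _
        | mul a b ha hb iha ihb =>
          intro hx
          rw [show (⟨a * b, hx⟩ : ↥(D.group K)) = ⟨a, hle ha⟩ * ⟨b, hle hb⟩ from rfl, map_mul]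
          exact mul_mem (iha _) (ihb _)
        | inv a ha iha =>
          intro hx
          rw [show (⟨a⁻¹, hx⟩ : ↥(D.group K)) = ⟨a, hle ha⟩⁻¹ from rfl, map_inv]
          exact inv_mem (iha _)
      exact key w hw hwD
    subst hd'
    have hfin : g = H.orbEl q d * w' := by rw [hor, e, e', mul_assoc]
    refine ⟨d, fun e => absurd e hfx, w', US_mono C (fun a ha => ⟨ha.1.1, ha.1.2, ha.2⟩) hw', ?_, hfin⟩
    rw [show w' = (H.orbEl q d)⁻¹ * g by rw [hfin]; group]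
    exact mul_mem (inv_mem (H.orbEl_fix (hP.1 q hq) fun e => absurd e hfx)) hf

end TwLaced

end CfsgLib.Lie.Laced
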