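import Cfsg.Agent.Lib.Lie.Laced.OrthTwistStep

/-!
# The steps of the reduction of a fixed involution
-/

set_option autoImplicit false
set_option linter.style.haveILetI false
set_option linter.unusedSectionVars false
set_option maxHeartbeats 1000000

namespace CfsgLib.Lie.Laced.TwLaced

open Cfsg.Lie CfsgLib.Lie.Chev
open scoped MatrixGroups

variable {D : ChevalleyDatum} {C : Full D} {K : Type*} [Field K] [CharP K 2]
variable {T : Twist C.G K} {θ : K ≃+* K} {h : Fin D.nroots → ℤ} (H : TwLaced T θ h)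

omit [CharP K 2] in
theorem sandwich_two {G : Type*} [Group G] {x y : G} (hc : y * x = x * y) (n : G) :
    x * y * n * (x * y) = x * (y * n * y) * x := by
  conv_lhs => rw [show x * y * n * (x * y) = x * y * n * (y * x) by rw [hc]]
  simp only [mul_assoc]

omit [CharP K 2] in
theorem conj_mul_two {G : Type*} [Group G] {x : G} (hx : x * x = 1) (a b : G) :
    x * (a * b) * x = (x * a * x) * (x * b * x) := by
  calc x * (a * b) * x = x * a * 1 * b * x := by rw [mul_one, mul_assoc x a b]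
    _ = _ := by rw [← hx]; simp only [mul_assoc]

include H

theorem eq_of_ip_two {r s : Fin D.nroots} (hr : D.IsPosRoot r.val) (hs : D.IsPosRoot s.val) (e : ip D r s = 2) :
    s = r := by
  by_contra hne
  rcases ip_le H.laced r s hne (C.pos_ne_negr hr hs) with h' | h' | h' <;> omega

theorem ip_ge {r s : Fin D.nroots} (hr : D.IsPosRoot r.val) (hs : D.IsPosRoot s.val) : -1 ≤ ip D r s := by
  by_cases hne : s = r
  · rw [hne, H.laced.2.1]; norm_num
  · rcases ip_le H.laced r s hne (C.pos_ne_negr hr hs) with h' | h' | h' <;> omega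

theorem sum_p {a b z : Fin D.nroots} (ha : D.IsPosRoot a.val) (hb : D.IsPosRoot b.val)
    (e : C.G.rho z = C.G.rho a + C.G.rho b) : C.G.rho (T.p z) = C.G.rho (T.p a) + C.G.rho (T.p b) := by
  have hab := ip_sum_eq H.laced e
  obtain ⟨z', hz'⟩ := exists_sum H.laced (r := T.p a) (s := T.p b) (by rw [H.ipp]; exact hab)
  have h2 : ip D (T.p z) z' = 2 := by
    rw [ip_add _ hz', H.ipp, H.ipp, H.laced.1 z a, H.laced.1 z b, ip_add a e, ip_add b e, H.laced.2.1,
      H.laced.2.1, hab, H.laced.1 b a, hab]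
    norm_num
  rw [← H.eq_of_ip_two (H.hp_pos.2 (lt_of_sum C ha hb e).1) (lt_of_sum C (H.hp_pos.2 ha) (H.hp_pos.2 hb) hz').1 h2]
  exact hz'

theorem sum_ne {r b q z : Fin D.nroots} (hz : C.G.rho z = C.G.rho r + C.G.rho q) (hne : b ≠ q) :
    C.G.rho z ≠ C.G.rho r + C.G.rho b := fun e =>
  hne (C.G.rho_injective (add_left_cancel (e.symm.trans hz)))

section

variable {S : List (Fin D.nroots)} {R : Fin D.nroots → Prop} {m : Fin D.nroots} (L : Low T h S R m)
  {j : ℤ} {E : Fin D.nroots → Prop} (hE : Lay T h E j)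
include L

/-- the facts about the root under a root of the layer -/
theorem diff_facts {q : Fin D.nroots} (hq : R q) (hx : ip D m q = 1) (hj : h q = j) :
    ∃ s, C.G.rho q = C.G.rho m + C.G.rho s ∧ C.G.rho (T.p q) = C.G.rho (T.p m) + C.G.rho (T.p s) ∧
      Perp S s ∧ h s = j - h m ∧ ip D m s = -1 ∧
      ip D (T.p m) s = ip D (T.p m) q - ip D (T.p m) m ∧
      ip D s (T.p s) = ip D q (T.p q) - ip D q (T.p m) - ip D m (T.p q) + ip D m (T.p m) ∧
      q ≠ s ∧ T.p q ≠ s ∧ q ≠ T.p s ∧ T.p q ≠ T.p s := by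
  obtain ⟨s, hs, hsS, hsh, hms⟩ := H.diff L hq hx
  have e := H.sum_p (H.m_pos L) hsS.1 hs
  have a1 := ip_add (T.p m) hs
  have a2 := ip_add q e
  have a3 := ip_add m e
  have a4 : ip D (T.p s) q = ip D (T.p s) m + ip D (T.p s) s := ip_add (T.p s) hs
  have b1 := H.laced.1 (T.p s) q
  have b2 := H.laced.1 (T.p s) m
  have b3 := H.laced.1 (T.p s) s
  have hm0 := H.h_pos_of (H.m_pos L)
  refine ⟨s, hs, e, hsS, by omega, hms, by omega, by omega, fun e' => ?_, fun e' => ?_, fun e' => ?_, fun e' => ?_⟩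
  · rw [← e'] at hsh; omega
  · rw [← e', H.hp] at hsh; omega
  · have := congrArg h e'; rw [H.hp] at this; omega
  · rw [← H.hp s, ← e', H.hp] at hsh; omega

theorem no_pos_low {a : Fin D.nroots} (ha : R a) (hh : h a = h m) :
    ip D m a ≠ 1 ∧ ip D (T.p m) a ≠ 1 := by
  constructor
  · intro hx
    obtain ⟨s, -, hsS, hsh, -⟩ := H.diff L ha hx
    have := H.h_pos_of hsS.1
    omega
  · intro hx
    obtain ⟨s, -, hsS, hsh, -⟩ := H.diff L (L.stable a ha) (by rw [← H.ip_p]; exact hx)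
    rw [H.hp] at hsh
    have := H.h_pos_of hsS.1
    omega

theorem fixed11 (hm : T.p m ≠ m) {q : Fin D.nroots} (hq : R q) (hx : ip D m q = 1) (hy : ip D (T.p m) q = 1) :
    T.p q = q := by
  obtain ⟨s, -, -, hsS, -, -, -, e, -⟩ := H.diff_facts L hq hx (j := h q) rfl
  refine (H.orth q).resolve_right fun h0 => ?_
  rw [h0, H.laced.1 q (T.p m), hy, show ip D m (T.p q) = 1 by rw [← H.ip_p, hy], (H.pair_orth L hm).1] at e
  have := H.ip_ge hsS.1 (H.hp_pos.2 hsS.1)
  omega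

include hE

/-- absorbing the coordinates of an orbit -/
theorem absorb {q s : Fin D.nroots} (hq : R q) (hqj : h q = j) (hsS : Perp S s) (hsj : h s = j - h m)
    (hne : q ≠ s ∧ T.p q ≠ s ∧ q ≠ T.p s ∧ T.p q ≠ T.p s) {a : K} (ha : T.p s = s → θ a = a) {d : K}
    {X w : GL D.Idx K}
    (hty : ∀ y, add T E q y → (ip D m y ≠ ip D m s ∨ ip D (T.p m) y ≠ ip D (T.p m) s) ∧
      (ip D m y ≠ ip D (T.p m) s ∨ ip D (T.p m) y ≠ ip D m s))
    (hX : ∃ n ∈ US C (K := K) (Cur T h R m j (add T E q)),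
      H.orbEl s a * X * H.orbEl s a = X * H.orbEl q d * n)
    (hd : T.p q = q → θ d = d) (hXf : X ∈ T.Fix)
    (hw : w ∈ US C (K := K) (Cur T h R m j (add T E q))) (hwf : w ∈ T.Fix) :
    Goal T h S R m j (add T E q) X (H.orbEl q d * w) := by
  have hE' := H.add_lay L hE hqj
  obtain ⟨n1, hn1, e1⟩ := hX
  set u := H.orbEl s a with hu
  have hu2 : u * u = 1 := H.orbEl_sq hsS.1 a
  have hps : Perp S (T.p s) := H.perp_p L hsS
  have hsj' : h (T.p s) = j - h m := by rw [H.hp]; exact hsj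
  have hty1 : ∀ y, add T E q y → ip D m y ≠ ip D m s ∨ ip D (T.p m) y ≠ ip D (T.p m) s := fun y hy => (hty y hy).1
  have hty2 : ∀ y, add T E q y → ip D m y ≠ ip D m (T.p s) ∨ ip D (T.p m) y ≠ ip D (T.p m) (T.p s) := fun y hy => by
    rw [← H.ip_p, H.ipp]; exact (hty y hy).2
  have hA : ∃ n ∈ US C (K := K) (Cur T h R m j (add T E q)), u * H.orbEl q d * u = H.orbEl q d * n := by
    obtain ⟨k1, l1, f1⟩ := H.orb_near L hE' hsS hq hqj hne.1 hne.2.1 a d
    rw [hu]
    by_cases hs : T.p s = s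
    · rw [show H.orbEl s a = C.G.xu s a from if_pos hs]; exact ⟨k1, l1, f1⟩
    · obtain ⟨k2, l2, f2⟩ := H.orb_near L hE' hps hq hqj hne.2.2.1 hne.2.2.2 (θ a) d
      refine ⟨k1 * (C.G.xu s a * k2 * C.G.xu s a), mul_mem l1 (H.conj_cur L hE' hsS hsj hty1 a l2), ?_⟩
      rw [show H.orbEl s a = C.G.xu s a * C.G.xu (T.p s) (θ a) from if_neg hs]
      rw [sandwich_two (H.orb_commute hsS.1 _ _), f2, conj_mul_two (xu_sq C s a), f1, mul_assoc]
  have hconj : ∀ n ∈ US C (K := K) (Cur T h R m j (add T E q)), u * n * u ∈ US C (K := K) (Cur T h R m j (add T E q)) := by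
    intro n hn
    rw [hu]
    by_cases hs : T.p s = s
    · rw [show H.orbEl s a = C.G.xu s a from if_pos hs]; exact H.conj_cur L hE' hsS hsj hty1 a hn
    · rw [show H.orbEl s a = C.G.xu s a * C.G.xu (T.p s) (θ a) from if_neg hs]
      rw [sandwich_two (H.orb_commute hsS.1 _ _)]
      exact H.conj_cur L hE' hsS hsj hty1 a (H.conj_cur L hE' hps hsj' hty2 (θ a) hn)
  obtain ⟨n2, hn2, e2⟩ := hA
  have hAn : H.orbEl q d * n1 * H.orbEl q d ∈ US C (K := K) (Cur T h R m j (add T E q)) := by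
    by_cases hf : T.p q = q
    · rw [show H.orbEl q d = C.G.xu q d from if_pos hf]; exact H.conj_cur' L hE' hq hqj d hn1
    · rw [show H.orbEl q d = C.G.xu q d * C.G.xu (T.p q) (θ d) from if_neg hf]
      rw [sandwich_two (H.orb_commute (L.sub q hq).1 _ _)]
      exact H.conj_cur' L hE' hq hqj d (H.conj_cur' L hE' (L.stable q hq) (by rw [H.hp]; exact hqj) _ hn1)
  have hAA : H.orbEl q d * H.orbEl q d = 1 := H.orbEl_sq (L.sub q hq).1 d
  have key : u * (X * (H.orbEl q d * w)) * u⁻¹ = X * (H.orbEl q d * n1 * H.orbEl q d * n2 * (u * w * u)) := by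
    rw [inv_eq_of_mul_eq_one_right hu2]
    calc u * (X * (H.orbEl q d * w)) * u
        = u * X * (u * u) * H.orbEl q d * (u * u) * w * u := by rw [hu2, mul_one, mul_one]; simp only [mul_assoc]
      _ = (u * X * u) * (u * H.orbEl q d * u) * (u * w * u) := by simp only [mul_assoc]
      _ = _ := by rw [e1, e2]; simp only [mul_assoc]
  refine ⟨u, H.orbEl_fix hsS.1 ha, H.orbEl_mem (P := Perp S) (fun x hx => H.perp_p L hx) hsS a, _,
    mul_mem (mul_mem hAn hn2) (hconj w hw), ?_, key⟩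
  rw [show H.orbEl q d * n1 * H.orbEl q d * n2 * (u * w * u) = X⁻¹ * (u * (X * (H.orbEl q d * w)) * u⁻¹) by
    rw [key]; group]
  exact mul_mem (inv_mem hXf) (mul_mem (mul_mem (H.orbEl_fix hsS.1 ha)
    (mul_mem hXf (mul_mem (H.orbEl_fix (L.sub q hq).1 hd) hwf))) (inv_mem (H.orbEl_fix hsS.1 ha)))

/-- a positive pairing with a fixed root -/
theorem clear_fixed (hm : T.p m = m) {c : K} (hc : c ≠ 0) (hcf : θ c = c) {q : Fin D.nroots} (hq : R q)
    (hx : ip D m q = 1) (hqj : h q = j) (hty : ∀ y, E y → ip D m y ≠ -1) {d : K} (hd : T.p q = q → θ d = d)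
    {w : GL D.Idx K} (hw : w ∈ US C (K := K) (Cur T h R m j (add T E q))) (hwf : w ∈ T.Fix) :
    Goal T h S R m j (add T E q) (H.orbEl m c) (H.orbEl q d * w) := by
  have hE' := H.add_lay L hE hqj
  obtain ⟨s, e, e', hsS, hsj, hms, -, hss, hne⟩ := H.diff_facts L hq hx hqj
  rw [hm] at e' hss
  have hmq' : ip D m (T.p q) = 1 := by rw [← H.ip_p, hm, hx]
  rw [hmq', H.laced.1 q m, hx, H.laced.2.1] at hss
  have hty' : ∀ y, add T E q y → (ip D m y ≠ ip D m s ∨ ip D (T.p m) y ≠ ip D (T.p m) s) ∧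
      (ip D m y ≠ ip D (T.p m) s ∨ ip D (T.p m) y ≠ ip D m s) := by
    intro y hy
    rw [hm, hms]
    refine ⟨Or.inl ?_, Or.inl ?_⟩ <;>
    · rcases hy with hy | rfl | rfl
      exacts [hty y hy, by omega, by omega]
  have hXf : H.orbEl m c ∈ T.Fix := H.orbEl_fix (H.m_pos L) fun _ => hcf
  have hX1 : H.orbEl m c = C.G.xu m c := if_pos hm
  by_cases hq2 : T.p q = q
  · have hsp : T.p s = s := H.eq_of_ip_two hsS.1 (H.hp_pos.2 hsS.1) (by rw [hss, hq2, H.laced.2.1]; norm_num)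
    refine H.absorb L hE hq hqj hsS hsj hne (a := d / c) (fun _ => by rw [map_div₀, hd hq2, hcf]) hty'
      ⟨1, one_mem _, ?_⟩ hd hXf hw hwf
    rw [hX1, mul_one, show H.orbEl q d = C.G.xu q d from if_pos hq2,
      show H.orbEl s (d / c) = C.G.xu s (d / c) from if_pos hsp,
      conj_of_sum H.laced (z := q) (by rw [e, add_comm]), div_mul_cancel₀ _ hc]
  · have h0 : ip D q (T.p q) = 0 := (H.orth q).resolve_left hq2
    have hsp : T.p s ≠ s := fun e'' => by rw [h0, e'', H.laced.2.1] at hss; omega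
    obtain ⟨n, hn, en⟩ := H.xu_near L hE' hsS (L.stable q hq) (by rw [H.hp]; exact hqj) hne.2.1 (d / c) (θ d)
    refine H.absorb L hE hq hqj hsS hsj hne (a := d / c) (fun e'' => absurd e'' hsp) hty' ⟨n, hn, ?_⟩ hd hXf hw hwf
    rw [hX1, show H.orbEl q d = C.G.xu q d * C.G.xu (T.p q) (θ d) from if_neg hq2,
      show H.orbEl s (d / c) = C.G.xu s (d / c) * C.G.xu (T.p s) (θ (d / c)) from if_neg hsp]
    rw [sandwich_two (H.orb_commute hsS.1 _ _), conj_of_sum H.laced (z := T.p q) (by rw [e', add_comm]),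
      map_div₀, hcf, div_mul_cancel₀ _ hc, conj_mul_two (xu_sq C s _),
      conj_of_sum H.laced (z := q) (by rw [e, add_comm]), en, div_mul_cancel₀ _ hc]
    simp only [mul_assoc]

/-- a positive pairing with exactly one root of a pair -/
theorem clear10 (hm : T.p m ≠ m) {c : K} (hc : c ≠ 0) {q : Fin D.nroots} (hq : R q) (hx : ip D m q = 1)
    (hy : ip D (T.p m) q = 0) (hqj : h q = j) (hty : ∀ y, E y → ip D m y ≠ -1 ∧ ip D (T.p m) y ≠ -1) {d : K}
    (hd : T.p q = q → θ d = d) {w : GL D.Idx K} (hw : w ∈ US C (K := K) (Cur T h R m j (add T E q)))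
    (hwf : w ∈ T.Fix) :
    Goal T h S R m j (add T E q) (H.orbEl m c) (H.orbEl q d * w) := by
  have hE' := H.add_lay L hE hqj
  obtain ⟨s, e, e', hsS, hsj, hms, hps, hss, hne⟩ := H.diff_facts L hq hx hqj
  obtain ⟨o1, o2⟩ := H.pair_orth L hm
  have hmq' : ip D m (T.p q) = 0 := by rw [← H.ip_p, hy]
  rw [hy, o2, sub_zero] at hps
  have hq2 : T.p q ≠ q := fun e'' => by rw [e'', hx] at hmq'; omega
  rw [(H.orth q).resolve_left hq2, H.laced.1 q (T.p m), hy, hmq', o1] at hss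
  have hsp : T.p s ≠ s := fun e'' => by rw [e'', H.laced.2.1] at hss; omega
  have hsm : ip D (T.p s) m = 0 := by rw [H.laced.1, ← H.ip_p, hps]
  have hspm : ip D s (T.p m) = 0 := by rw [H.laced.1, hps]
  obtain ⟨n, hn, en⟩ := H.xu_near L hE' hsS (L.stable q hq) (by rw [H.hp]; exact hqj) hne.2.1 (d / c) (θ d)
  refine H.absorb L hE hq hqj hsS hsj hne (a := d / c) (fun e'' => absurd e'' hsp) ?_ ⟨n, hn, ?_⟩ hd
    (H.orbEl_fix (H.m_pos L) fun e'' => absurd e'' hm) hw hwf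
  · intro y hy'
    rw [hms, hps]
    rcases hy' with hy' | rfl | rfl
    · exact ⟨Or.inl (hty y hy').1, Or.inr (hty y hy').2⟩
    · exact ⟨Or.inl (by omega), Or.inl (by omega)⟩
    · rw [hmq', show ip D (T.p m) (T.p q) = 1 by rw [H.ipp, hx]]
      exact ⟨Or.inl (by omega), Or.inr (by omega)⟩
  rw [show H.orbEl m c = C.G.xu m c * C.G.xu (T.p m) (θ c) from if_neg hm,
    show H.orbEl q d = C.G.xu q d * C.G.xu (T.p q) (θ d) from if_neg hq2,
    show H.orbEl s (d / c) = C.G.xu s (d / c) * C.G.xu (T.p s) (θ (d / c)) from if_neg hsp]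
  have hpm : D.IsPosRoot (T.p m).val := H.pm_pos L
  have c1 : C.G.xu (T.p s) (θ (d / c)) * C.G.xu m c * C.G.xu (T.p s) (θ (d / c)) = C.G.xu m c :=
    conj_of_zero H.laced (Or.inl hsm) (C.pos_ne_negr (H.hp_pos.2 hsS.1) (H.m_pos L)) _ _
  have c2 : C.G.xu (T.p s) (θ (d / c)) * C.G.xu (T.p m) (θ c) * C.G.xu (T.p s) (θ (d / c)) =
      C.G.xu (T.p m) (θ c) * C.G.xu (T.p q) (θ d) := by
    rw [conj_of_sum H.laced (z := T.p q) (by rw [e', add_comm]), ← map_mul, div_mul_cancel₀ _ hc]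
  have c3 : C.G.xu s (d / c) * C.G.xu m c * C.G.xu s (d / c) = C.G.xu m c * C.G.xu q d := by
    rw [conj_of_sum H.laced (z := q) (by rw [e, add_comm]), div_mul_cancel₀ _ hc]
  have c4 : C.G.xu s (d / c) * C.G.xu (T.p m) (θ c) * C.G.xu s (d / c) = C.G.xu (T.p m) (θ c) :=
    conj_of_zero H.laced (Or.inl hspm) (C.pos_ne_negr hsS.1 hpm) _ _
  have c5 : C.G.xu q d * C.G.xu (T.p m) (θ c) = C.G.xu (T.p m) (θ c) * C.G.xu q d :=
    xu_commute H.laced (Or.inl hy) (C.pos_ne_negr hpm (L.sub q hq).1) _ _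
  rw [sandwich_two (H.orb_commute hsS.1 _ _), conj_mul_two (xu_sq C (T.p s) _), c1, c2,
    conj_mul_two (xu_sq C s _), c3, conj_mul_two (xu_sq C s _), c4, en]
  simp only [← mul_assoc]
  rw [mul_assoc _ (C.G.xu q d) (C.G.xu (T.p m) (θ c)), c5, ← mul_assoc]

end

end CfsgLib.Lie.Laced.TwLaced
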