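import Cfsg.Agent.Lib.Lie.Laced.OrthTwistPair

/-!
# Coordinates forced to vanish in an involution
-/

set_option autoImplicit false
set_option linter.style.haveILetI false
set_option linter.unusedSectionVars false
set_option maxHeartbeats 1000000


namespace CfsgLib.Lie.Laced.TwLaced

open Cfsg.Lie CfsgLib.Lie.Chev
open scoped MatrixGroups

variable {D : ChevalleyDatum} {C : Full D} {K : Type*} [Field K] [CharP K 2]
variable {T : Twist C.G K} {θ : K ≃+* K} {h : Fin D.nroots → ℤ} (H : TwLaced T θ h)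
variable {S : List (Fin D.nroots)} {R : Fin D.nroots → Prop} {m : Fin D.nroots} (L : Low T h S R m)
  {j : ℤ} {E : Fin D.nroots → Prop} (hE : Lay T h E j)
include H L hE

/-- the coefficient of the square at a root above the layer -/
theorem square_zero {q z : Fin D.nroots} (hq : R q) (hqj : h q = j) (hzR : R z) (hzh : h z = h m + j)
    (hsum : ∀ a b, Cur T h R m j (add T E q) a → Cur T h R m j (add T E q) b → C.G.rho z ≠ C.G.rho a + C.G.rho b)
    (hm1 : ∀ a, Cur T h R m j (add T E q) a →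
      C.G.rho z ≠ C.G.rho m + C.G.rho a ∧ C.G.rho z ≠ C.G.rho (T.p m) + C.G.rho a)
    (hq1 : ∀ a, R a → a ≠ m → a ≠ T.p m →
      C.G.rho z ≠ C.G.rho q + C.G.rho a ∧ C.G.rho z ≠ C.G.rho (T.p q) + C.G.rho a)
    {c d γ : K} {w : GL D.Idx K} (hw : w ∈ US C (K := K) (Cur T h R m j (add T E q)))
    (hA : ∃ n ∈ US C (K := K) (fun a => R a ∧ (Cur T h R m j (add T E q) a ∨ h z ≤ h a) ∧ a ≠ z),
      H.orbEl m c * H.orbEl q d * H.orbEl m c = H.orbEl q d * C.G.xu z γ * n)
    (hsq : H.orbEl m c * (H.orbEl q d * w) * (H.orbEl m c * (H.orbEl q d * w)) = 1) : γ = 0 := by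
  have hE' := H.add_lay L hE hqj
  have hm0 := H.h_pos_of (H.m_pos L)
  have hj0 : 0 < j := by have := H.h_pos_of (L.sub q hq).1; omega
  set W := fun a => R a ∧ (Cur T h R m j (add T E q) a ∨ h z ≤ h a) ∧ a ≠ z with hWd
  set Wp := fun a => R a ∧ (Cur T h R m j (add T E q) a ∨ h z ≤ h a) with hWp
  have hclp : Closed C Wp := by
    refine ⟨fun a ha => (L.sub a ha.1).1, fun a b y ha hb e => ⟨H.R_closed L ha.1 hb.1 e, ?_⟩⟩
    have := H.hadd a b y e
    have := H.h_pos_of (L.sub a ha.1).1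
    have := H.h_pos_of (L.sub b hb.1).1
    rcases ha.2 with ha' | ha'
    · rcases hb.2 with hb' | hb'
      · exact Or.inl ((H.cur_closed L hE').2 a b y ha' hb' e)
      · exact Or.inr (by omega)
    · exact Or.inr (by omega)
  have hcl : Closed C W := by
    refine ⟨fun a ha => (L.sub a ha.1).1, fun a b y ha hb e => ?_⟩
    obtain ⟨y1, y2⟩ := hclp.2 a b y ⟨ha.1, ha.2.1⟩ ⟨hb.1, hb.2.1⟩ e
    refine ⟨y1, y2, fun e' => ?_⟩
    subst e'
    have := H.hadd a b y e
    have := H.h_pos_of (L.sub a ha.1).1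
    have := H.h_pos_of (L.sub b hb.1).1
    rcases ha.2.1 with ha' | ha'
    · rcases hb.2.1 with hb' | hb'
      · exact hsum a b ha' hb' e
      · omega
    · omega
  -- the roots of the lowest orbit
  have hrW : ∀ r, r = m ∨ r = T.p m → ∀ (t : K) (v : GL D.Idx K), v ∈ US C (K := K) W →
      C.G.xu r t * v * C.G.xu r t ∈ US C (K := K) W := by
    intro r hr t v hv
    have hrR : R r := by rcases hr with rfl | rfl; exacts [L.mem, L.stable _ L.mem]
    have hrh : h r = h m := by rcases hr with rfl | rfl; exacts [rfl, H.hp m]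
    refine conj_US H.laced (L.sub r hrR).1 (fun b hb => ⟨(L.sub b hb.1).1, hb⟩) (fun b y hb e => ?_) t hv
    have he := H.hadd r b y e
    have hyR := H.R_closed L hrR hb.1 e
    rcases hb.2.1 with hb' | hb'
    · rcases hb'.2.2.2 with zb | zb
      · exfalso
        have := ip_sum_eq H.laced e
        rcases hr with rfl | rfl
        · rw [zb.1] at this; omega
        · rw [zb.2] at this; omega
      · refine ⟨hyR, Or.inr (by omega), fun e' => ?_⟩
        subst e'
        rcases hr with rfl | rfl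
        exacts [(hm1 b hb').1 e, (hm1 b hb').2 e]
    · exact ⟨hyR, Or.inr (by omega), fun e' => by subst e'; omega⟩
  -- the roots of the layer
  have hqW : ∀ r, r = q ∨ r = T.p q → ∀ (t : K) (v : GL D.Idx K), v ∈ US C (K := K) W →
      C.G.xu r t * v * C.G.xu r t ∈ US C (K := K) W := by
    intro r hr t v hv
    have hrR : R r := by rcases hr with rfl | rfl; exacts [hq, L.stable _ hq]
    have hrh : h r = j := by rcases hr with rfl | rfl; exacts [hqj, (H.hp q).trans hqj]
    refine conj_US H.laced (L.sub r hrR).1 (fun b hb => ⟨(L.sub b hb.1).1, hb⟩) (fun b y hb e => ?_) t hv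
    have he := H.hadd r b y e
    have hb1 := L.low b hb.1
    refine ⟨H.R_closed L hrR hb.1 e, Or.inr (by omega), fun e' => ?_⟩
    subst e'
    rcases hb.2.1 with hb' | hb'
    · rcases hr with rfl | rfl
      exacts [(hq1 b hb.1 hb'.2.1 hb'.2.2.1).1 e, (hq1 b hb.1 hb'.2.1 hb'.2.2.1).2 e]
    · omega
  -- the root above
  have hzz : ∀ r, R r → ∀ t e : K, ∃ n ∈ US C (K := K) W,
      C.G.xu r t * C.G.xu z e * C.G.xu r t = C.G.xu z e * n := by
    intro r hr t e
    by_cases hrz : z = r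
    · subst hrz
      exact ⟨1, one_mem _, by rw [← C.G.xu_add, ← C.G.xu_add, mul_one, add_comm t e, add_assoc,
        CharTwo.add_self_eq_zero, add_zero]⟩
    have hp := C.pos_ne_negr (L.sub r hr).1 (L.sub z hzR).1
    rcases ip_le H.laced r z hrz hp with hip | hip | hip
    · obtain ⟨y, hy⟩ := exists_sum H.laced hip
      have := H.hadd r z y hy
      have := H.h_pos_of (L.sub r hr).1
      exact ⟨C.G.xu y (t * e), xu_mem_US C (P := W) ⟨H.R_closed L hr hzR hy, Or.inr (by omega), fun e' => by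
        subst e'; omega⟩ _, conj_of_sum H.laced hy t e⟩
    all_goals exact ⟨1, one_mem _, by rw [mul_one, conj_of_zero H.laced (by omega) hp]⟩
  have horb : ∀ x, (∀ r, r = x ∨ r = T.p x → ∀ (t : K) (v : GL D.Idx K), v ∈ US C (K := K) W →
      C.G.xu r t * v * C.G.xu r t ∈ US C (K := K) W) → R x → ∀ b : K,
      (∀ v ∈ US C (K := K) W, H.orbEl x b * v * H.orbEl x b ∈ US C (K := K) W) ∧
      ∀ e : K, ∃ n ∈ US C (K := K) W, H.orbEl x b * C.G.xu z e * H.orbEl x b = C.G.xu z e * n := by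
    intro x hxW hx b
    unfold orbEl
    by_cases hf : T.p x = x
    · rw [if_pos hf]; exact ⟨fun v hv => hxW x (Or.inl rfl) b v hv, hzz x hx b⟩
    · rw [if_neg hf]
      refine ⟨fun v hv => ?_, fun e => ?_⟩
      · rw [sandwich_two (H.orb_commute (L.sub x hx).1 _ _)]
        exact hxW x (Or.inl rfl) _ _ (hxW _ (Or.inr rfl) _ _ hv)
      · obtain ⟨n, hn, en⟩ := hzz (T.p x) (L.stable x hx) (θ b) e
        obtain ⟨n', hn', en'⟩ := hzz x hx b e
        refine ⟨n' * (C.G.xu x b * n * C.G.xu x b), mul_mem hn' (hxW x (Or.inl rfl) _ _ hn), ?_⟩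
        rw [sandwich_two (H.orb_commute (L.sub x hx).1 _ _), en, conj_mul_two (xu_sq C x b), en']
        group
  set X := H.orbEl m c
  set A := H.orbEl q d
  have hXX : X * X = 1 := H.orbEl_sq (H.m_pos L) c
  have hAA : A * A = 1 := H.orbEl_sq (L.sub q hq).1 d
  obtain ⟨hXW, hXz⟩ := horb m hrW L.mem c
  obtain ⟨hAW, hAz⟩ := horb q hqW hq d
  obtain ⟨e, w0, hw0, rfl⟩ := US_step H.laced hclp (m := z) ⟨hzR, Or.inr le_rfl⟩
    (US_mono C (Q := Wp) (fun a ha => ⟨ha.1, Or.inl ha⟩) hw)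
  replace hw0 : w0 ∈ US C (K := K) W := US_mono C (fun a ha => ⟨ha.1.1, ha.1.2, ha.2⟩) hw0
  obtain ⟨n, hn, en⟩ := hA
  obtain ⟨n1, hn1, en1⟩ := hXz e
  obtain ⟨n2, hn2, en2⟩ := hAz e
  have hz2 : ∀ t : K, C.G.xu z t * C.G.xu z t = 1 := fun t => xu_sq C z t
  have hzW : ∀ v ∈ US C (K := K) W, C.G.xu z e * v * C.G.xu z e ∈ US C (K := K) W := by
    intro v hv
    refine conj_US H.laced (L.sub z hzR).1 (fun b hb => ⟨(L.sub b hb.1).1, hb⟩) (fun b y hb e' => ?_) e hv
    have := H.hadd z b y e'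
    have := H.h_pos_of (L.sub b hb.1).1
    exact ⟨H.R_closed L hzR hb.1 e', Or.inr (by omega), fun e'' => by subst e''; omega⟩
  -- compare the two sides of the square
  have hl : X * (A * (C.G.xu z e * w0)) * X =
      A * C.G.xu z (γ + e) * (C.G.xu z e * n * C.G.xu z e * n1 * (X * w0 * X)) := by
    rw [conj_mul_two hXX, conj_mul_two hXX (C.G.xu z e) w0, en, en1, C.G.xu_add]
    calc A * C.G.xu z γ * n * (C.G.xu z e * n1 * (X * w0 * X))
        = A * C.G.xu z γ * (C.G.xu z e * C.G.xu z e) * n * (C.G.xu z e * n1 * (X * w0 * X)) := by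
          rw [hz2, mul_one]
      _ = _ := by simp only [mul_assoc]
  have hr : X * (A * (C.G.xu z e * w0)) * X = A * (C.G.xu z e * (C.G.xu z e * (A * w0⁻¹ * A) * C.G.xu z e) * n2) := by
    have h1 : X * (A * (C.G.xu z e * w0)) * X = (A * (C.G.xu z e * w0))⁻¹ := by
      refine eq_inv_of_mul_eq_one_left ?_
      rw [← hsq]; simp only [mul_assoc]
    rw [h1, _root_.mul_inv_rev, _root_.mul_inv_rev, xu_inv_self, inv_eq_of_mul_eq_one_right hAA]
    calc w0⁻¹ * C.G.xu z e * A = (A * A) * w0⁻¹ * (A * A) * C.G.xu z e * A := by rw [hAA, one_mul, mul_one]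
      _ = A * (A * w0⁻¹ * A) * (A * C.G.xu z e * A) := by simp only [mul_assoc]
      _ = A * (C.G.xu z e * C.G.xu z e) * (A * w0⁻¹ * A) * (C.G.xu z e * n2) := by rw [en2, hz2, mul_one]
      _ = _ := by simp only [mul_assoc]
  have hu : US C (K := K) W ≤ US C (K := K) (fun a => Wp a ∧ a ≠ z) :=
    US_mono C (P := W) (Q := fun a => Wp a ∧ a ≠ z) (fun a ha => ⟨⟨ha.1, ha.2.1⟩, ha.2.2⟩)
  have hd : US C (K := K) (fun a => Wp a ∧ a ≠ z) ≤ US C (K := K) W :=
    US_mono C (P := fun a => Wp a ∧ a ≠ z) (Q := W) (fun a ha => ⟨ha.1.1, ha.1.2, ha.2⟩)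
  have hclu : Closed C (fun a => Wp a ∧ a ≠ z) := by
    refine ⟨fun a ha => (L.sub a ha.1.1).1, fun a b y ha hb e' => ?_⟩
    obtain ⟨u1, u2, u3⟩ := hcl.2 a b y ⟨ha.1.1, ha.1.2, ha.2⟩ ⟨hb.1.1, hb.1.2, hb.2⟩ e'
    exact ⟨⟨u1, u2⟩, u3⟩
  have key : C.G.xu z (γ + e) * (C.G.xu z e * n * C.G.xu z e * n1 * (X * w0 * X)) =
      C.G.xu z e * (C.G.xu z e * (A * w0⁻¹ * A) * C.G.xu z e * n2) := by
    have h2 := hl.symm.trans hr
    rw [mul_assoc A, mul_assoc (C.G.xu z e) (C.G.xu z e * (A * w0⁻¹ * A) * C.G.xu z e)] at h2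
    exact mul_left_cancel h2
  have hin1 : C.G.xu z e * n * C.G.xu z e * n1 * (X * w0 * X) ∈ US C (K := K) (fun a => Wp a ∧ a ≠ z) :=
    hu (mul_mem (mul_mem (hzW n hn) hn1) (hXW w0 hw0))
  have hin2 : C.G.xu z e * (A * w0⁻¹ * A) * C.G.xu z e * n2 ∈ US C (K := K) (fun a => Wp a ∧ a ≠ z) :=
    hu (mul_mem (hzW _ (hAW _ (inv_mem hw0))) hn2)
  have := (coeff_unique H.laced (P := Wp) (q := z) hclu (L.sub z hzR).1 hin1 hin2 key).1
  simpa using this

/-- no pair of current roots adds up to a root with pairing one above the layer -/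
theorem no_sum {q z : Fin D.nroots} (hqj : h q = j) (hxz : ip D m z = 1) (hzh : h z = h m + j)
    (hno : ∀ a, Cur T h R m j (add T E q) a → h a = j → ¬ (ip D m a = 1 ∧ ip D (T.p m) a = ip D (T.p m) z))
    (a b : Fin D.nroots) (ha : Cur T h R m j (add T E q) a) (hb : Cur T h R m j (add T E q) b) :
    C.G.rho z ≠ C.G.rho a + C.G.rho b := by
  intro e
  have he := H.hadd a b z e
  have h1 := L.low a ha.1
  have h2 := L.low b hb.1
  have hx := ip_add m e
  have hy := ip_add (T.p m) e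
  rw [hxz] at hx
  rcases ha.2.2.2 with za | za <;> rcases hb.2.2.2 with zb | zb
  · rw [za.1, zb.1] at hx; omega
  · rw [za.1, zero_add] at hx; rw [za.2, zero_add] at hy
    exact hno b hb (by omega) ⟨hx.symm, hy.symm⟩
  · rw [zb.1, add_zero] at hx; rw [zb.2, add_zero] at hy
    exact hno a ha (by omega) ⟨hx.symm, hy.symm⟩
  · have hha : h a = h m := by omega
    have hhb : h b = h m := by omega
    have := (H.no_pos_low L ha.1 hha).1
    have := (H.no_pos_low L hb.1 hhb).1
    rcases H.ip_range L (L.sub a ha.1).1 ha.2.1 with u | u | u <;>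
      rcases H.ip_range L (L.sub b hb.1).1 hb.2.1 with u' | u' | u' <;> omega

/-- a negative pairing -/
theorem kill {c : K} (hc : c ≠ 0) {q : Fin D.nroots} (hq : Cur T h R m j E q) (hx : ip D m q = -1)
    (hy : T.p m = m ∨ ip D (T.p m) q ≠ 1) (hqj : h q = j)
    (hno : ∀ a, Cur T h R m j (add T E q) a → h a = j →
      ¬ (ip D m a = 1 ∧ ip D (T.p m) a = ip D (T.p m) m + ip D (T.p m) q))
    {d : K} {w : GL D.Idx K} (hw : w ∈ US C (K := K) (Cur T h R m j (add T E q)))
    (hsq : H.orbEl m c * (H.orbEl q d * w) * (H.orbEl m c * (H.orbEl q d * w)) = 1) : d = 0 := by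
  have hE' := H.add_lay L hE hqj
  obtain ⟨z, hz⟩ := exists_sum H.laced hx
  have hzR := H.R_closed L L.mem hq.1 hz
  have hzh : h z = h m + j := by rw [H.hadd _ _ _ hz, hqj]
  have hxz : ip D m z = 1 := by rw [ip_add m hz, H.laced.2.1, hx]; norm_num
  have hyz : ip D (T.p m) z = ip D (T.p m) m + ip D (T.p m) q := ip_add (T.p m) hz
  have hm0 := H.h_pos_of (H.m_pos L)
  have hsum := H.no_sum L hE hqj hxz hzh (fun a ha haj => hyz ▸ hno a ha haj)
  have hpm1 : ∀ a, R a → a ≠ T.p m → a ≠ q → C.G.rho z ≠ C.G.rho (T.p m) + C.G.rho a := by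
    intro a ha hane haq e
    by_cases hm : T.p m = m
    · rw [hm] at e; exact (H.sum_ne hz haq) e
    · obtain ⟨o1, o2⟩ := H.pair_orth L hm
      have h1 := ip_add (T.p m) e
      rw [hyz, o2, H.laced.2.1] at h1
      have h2 := H.ip_range' L (L.sub a ha).1 hane
      have h3 := hy.resolve_left hm
      have h4 := H.ip_range' L (L.sub q hq.1).1 hq.2.2.1
      omega
  have hm1 : ∀ a, Cur T h R m j (add T E q) a →
      C.G.rho z ≠ C.G.rho m + C.G.rho a ∧ C.G.rho z ≠ C.G.rho (T.p m) + C.G.rho a := by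
    intro a ha
    have haq : a ≠ q := fun e => by
      subst e
      rcases ha.2.2.2 with hz' | hz'
      · have := hz'.1; omega
      · exact hz'.2 (Or.inr (Or.inl rfl))
    exact ⟨H.sum_ne hz haq, hpm1 a ha.1 ha.2.2.1 haq⟩
  have hq1 : ∀ a, R a → a ≠ m → a ≠ T.p m →
      C.G.rho z ≠ C.G.rho q + C.G.rho a ∧ C.G.rho z ≠ C.G.rho (T.p q) + C.G.rho a := by
    intro a ha ham hapm
    refine ⟨H.sum_ne (by rw [hz, add_comm]) ham, fun e => ?_⟩
    by_cases hf : T.p q = q
    · rw [hf] at e; exact H.sum_ne (by rw [hz, add_comm]) ham e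
    have hha : h a = h m := by
      have := H.hadd _ _ _ e
      have := H.hp q
      omega
    have h1 := ip_add m e
    rw [hxz, ← H.ip_p] at h1
    have h2 := (H.no_pos_low L ha hha).1
    have h3 := H.ip_range L (L.sub a ha).1 ham
    have h4 := H.ip_range' L (L.sub q hq.1).1 hq.2.2.1
    rcases hy with hm | hy
    · rw [hm, hx] at h1; omega
    · omega
  refine (mul_eq_zero.1 (?_ : c * d = 0)).resolve_left hc
  refine H.square_zero L hE hq.1 hqj hzR hzh hsum hm1 hq1 hw ?_ hsq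
  -- the conjugate of the orbit
  set W := fun a => R a ∧ (Cur T h R m j (add T E q) a ∨ h z ≤ h a) ∧ a ≠ z
  have near : ∀ r b, R r → h r = h m → R b → h b = j → C.G.rho z ≠ C.G.rho r + C.G.rho b → ∀ t u : K,
      ∃ n ∈ US C (K := K) W, C.G.xu r t * C.G.xu b u * C.G.xu r t = C.G.xu b u * n := by
    intro r b hr hrh hb hbh hne t u
    by_cases hrb : b = r
    · subst hrb
      exact ⟨1, one_mem _, by rw [← C.G.xu_add, ← C.G.xu_add, mul_one, add_comm t u, add_assoc,
        CharTwo.add_self_eq_zero, add_zero]⟩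
    have hp := C.pos_ne_negr (L.sub r hr).1 (L.sub b hb).1
    rcases ip_le H.laced r b hrb hp with hip | hip | hip
    · obtain ⟨y, hy'⟩ := exists_sum H.laced hip
      have := H.hadd r b y hy'
      exact ⟨C.G.xu y (t * u), xu_mem_US C (P := W) ⟨H.R_closed L hr hb hy', Or.inr (by omega), fun e' => by
        subst e'; exact hne hy'⟩ _, conj_of_sum H.laced hy' t u⟩
    all_goals exact ⟨1, one_mem _, by rw [mul_one, conj_of_zero H.laced (by omega) hp]⟩
  have hj0 : 0 < j := hqj ▸ H.h_pos_of (L.sub q hq.1).1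
  have qconj : ∀ b, R b → h b = j → (b = q ∨ b = T.p q) → ∀ (t : K) (v : GL D.Idx K), v ∈ US C (K := K) W →
      C.G.xu b t * v * C.G.xu b t ∈ US C (K := K) W := by
    intro r hrR hrh hr t v hv
    refine conj_US H.laced (L.sub r hrR).1 (fun b hb => ⟨(L.sub b hb.1).1, hb⟩) (fun b y hb e => ?_) t hv
    have he := H.hadd r b y e
    have hb1 := L.low b hb.1
    refine ⟨H.R_closed L hrR hb.1 e, Or.inr (by omega), fun e' => ?_⟩
    subst e'
    rcases hb.2.1 with hb' | hb'
    · rcases hr with rfl | rfl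
      exacts [(hq1 b hb.1 hb'.2.1 hb'.2.2.1).1 e, (hq1 b hb.1 hb'.2.1 hb'.2.2.1).2 e]
    · omega
  have mconj : ∀ (t : K) (v : GL D.Idx K), v ∈ US C (K := K) W →
      C.G.xu m t * v * C.G.xu m t ∈ US C (K := K) W := by
    intro t v hv
    refine conj_US H.laced (H.m_pos L) (fun b hb => ⟨(L.sub b hb.1).1, hb⟩) (fun b y hb e => ?_) t hv
    have he := H.hadd m b y e
    rcases hb.2.1 with hb' | hb'
    · rcases hb'.2.2.2 with zb | zb
      · exfalso
        have := ip_sum_eq H.laced e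
        rw [zb.1] at this; omega
      · exact ⟨H.R_closed L L.mem hb.1 e, Or.inr (by omega), fun e' => by subst e'; exact (hm1 b hb').1 e⟩
    · exact ⟨H.R_closed L L.mem hb.1 e, Or.inr (by omega), fun e' => by subst e'; omega⟩
  have hpqh : h (T.p q) = j := by rw [H.hp]; exact hqj
  -- the effect of the lowest root
  have step1 : ∃ n ∈ US C (K := K) W,
      C.G.xu m c * H.orbEl q d * C.G.xu m c = H.orbEl q d * C.G.xu z (c * d) * n := by
    have e1 := conj_of_sum (K := K) H.laced hz c d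
    unfold orbEl
    by_cases hf : T.p q = q
    · rw [if_pos hf]; exact ⟨1, one_mem _, by rw [e1, mul_one]⟩
    · rw [if_neg hf]
      obtain ⟨n, hn, en⟩ := near m (T.p q) L.mem rfl (L.stable q hq.1) hpqh (H.sum_ne hz hf) c (θ d)
      have hp2 := C.pos_ne_negr (L.sub _ (L.stable q hq.1)).1 (L.sub z hzR).1
      have hzq : z ≠ T.p q := fun e' => by rw [e', hpqh] at hzh; omega
      rcases ip_le H.laced (T.p q) z hzq hp2 with hip | hip | hip
      · obtain ⟨y, hy'⟩ := exists_sum H.laced hip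
        have := H.hadd _ _ y hy'
        have := H.h_pos_of (L.sub _ (L.stable q hq.1)).1
        refine ⟨C.G.xu y (θ d * (c * d)) * n, mul_mem (xu_mem_US C (P := W)
          ⟨H.R_closed L (L.stable q hq.1) hzR hy', Or.inr (by omega), fun e' => by subst e'; omega⟩ _) hn, ?_⟩
        rw [conj_mul_two (xu_sq C m c), e1, en]
        have e2 := xu_comm (K := K) H.laced hy' (θ d) (c * d)
        calc C.G.xu q d * C.G.xu z (c * d) * (C.G.xu (T.p q) (θ d) * n)
            = C.G.xu q d * (C.G.xu z (c * d) * C.G.xu (T.p q) (θ d)) * n := by simp only [mul_assoc]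
          _ = _ := by rw [e2]; simp only [mul_assoc]
      all_goals
        refine ⟨n, hn, ?_⟩
        rw [conj_mul_two (xu_sq C m c), e1, en]
        have e2 := xu_commute (K := K) H.laced (r := T.p q) (s := z) (by omega) hp2 (θ d) (c * d)
        calc C.G.xu q d * C.G.xu z (c * d) * (C.G.xu (T.p q) (θ d) * n)
            = C.G.xu q d * (C.G.xu z (c * d) * C.G.xu (T.p q) (θ d)) * n := by simp only [mul_assoc]
          _ = _ := by rw [e2]; simp only [mul_assoc]
  obtain ⟨n, hn, en⟩ := step1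
  by_cases hm : T.p m = m
  · exact ⟨n, hn, by rw [show H.orbEl m c = C.G.xu m c from if_pos hm]; exact en⟩
  have step2 : ∃ k ∈ US C (K := K) W,
      C.G.xu (T.p m) (θ c) * H.orbEl q d * C.G.xu (T.p m) (θ c) = H.orbEl q d * k := by
    have hne1 : C.G.rho z ≠ C.G.rho (T.p m) + C.G.rho q := fun e =>
      hm (C.G.rho_injective (add_right_cancel (e.symm.trans hz)))
    obtain ⟨k1, l1, f1⟩ := near (T.p m) q (L.stable m L.mem) (H.hp m) hq.1 hqj hne1 (θ c) d
    unfold orbEl
    by_cases hf : T.p q = q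
    · rw [if_pos hf]; exact ⟨k1, l1, f1⟩
    · rw [if_neg hf]
      obtain ⟨k2, l2, f2⟩ := near (T.p m) (T.p q) (L.stable m L.mem) (H.hp m) (L.stable q hq.1) hpqh
        (hpm1 (T.p q) (L.stable q hq.1) (fun e => hq.2.1 (T.p.injective e)) hf) (θ c) (θ d)
      refine ⟨C.G.xu (T.p q) (θ d) * k1 * C.G.xu (T.p q) (θ d) * k2,
        mul_mem (qconj _ (L.stable q hq.1) hpqh (Or.inr rfl) _ _ l1) l2, ?_⟩
      rw [conj_mul_two (xu_sq C (T.p m) (θ c)), f1, f2]
      calc C.G.xu q d * k1 * (C.G.xu (T.p q) (θ d) * k2)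
          = C.G.xu q d * (C.G.xu (T.p q) (θ d) * C.G.xu (T.p q) (θ d)) * k1 * (C.G.xu (T.p q) (θ d) * k2) := by
            rw [xu_sq, mul_one]
        _ = _ := by simp only [mul_assoc]
  obtain ⟨k, hk, ek⟩ := step2
  refine ⟨n * (C.G.xu m c * k * C.G.xu m c), mul_mem hn (mconj _ _ hk), ?_⟩
  rw [show H.orbEl m c = C.G.xu m c * C.G.xu (T.p m) (θ c) from if_neg hm,
    sandwich_two (H.orb_commute (H.m_pos L) _ _), ek, conj_mul_two (xu_sq C m c), en]
  simp only [mul_assoc]

/-- the relation between the coordinates with pairings of opposite signs -/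
theorem mixed_rel (hm : T.p m ≠ m) {c : K} (hc : c ≠ 0) {q : Fin D.nroots} (hq : Cur T h R m j E q)
    (hx : ip D m q = 1) (hy : ip D (T.p m) q = -1) (hqj : h q = j)
    (hno : ∀ a, Cur T h R m j (add T E q) a → h a = j → ¬ (ip D m a = 1 ∧ ip D (T.p m) a = 1))
    {d : K} {w : GL D.Idx K} (hw : w ∈ US C (K := K) (Cur T h R m j (add T E q)))
    (hsq : H.orbEl m c * (H.orbEl q d * w) * (H.orbEl m c * (H.orbEl q d * w)) = 1) : θ (d / c) = d / c := by
  obtain ⟨o1, o2⟩ := H.pair_orth L hm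
  have hpm := L.stable m L.mem
  obtain ⟨z, hz⟩ := exists_sum H.laced hy
  have hzR := H.R_closed L hpm hq.1 hz
  have hzh : h z = h m + j := by rw [H.hadd _ _ _ hz, hqj, H.hp]
  have hxz : ip D m z = 1 := by rw [ip_add m hz, o1, hx]; norm_num
  have hyz : ip D (T.p m) z = 1 := by rw [ip_add (T.p m) hz, H.laced.2.1, hy]; norm_num
  have hzf := H.fixed11 L hm hzR hxz hyz
  have hmq' : ip D m (T.p q) = -1 := by rw [← H.ip_p, hy]
  have hq2 : T.p q ≠ q := fun e'' => by rw [e'', hx] at hmq'; omega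
  have hz' : C.G.rho z = C.G.rho m + C.G.rho (T.p q) := by
    have := H.sum_p (H.pm_pos L) (L.sub q hq.1).1 hz
    rwa [hzf, H.pp] at this
  have hm1 : ∀ a, Cur T h R m j (add T E q) a →
      C.G.rho z ≠ C.G.rho m + C.G.rho a ∧ C.G.rho z ≠ C.G.rho (T.p m) + C.G.rho a := by
    intro a ha
    have hnot : ∀ b, (b = q ∨ b = T.p q) → a ≠ b := fun b hb e => by
      subst e
      rcases ha.2.2.2 with hzr | hzr
      · rcases hb with rfl | rfl
        · have := hzr.1; omega
        · have := hzr.1; omega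
      · exact hzr.2 (Or.inr hb)
    exact ⟨H.sum_ne hz' (hnot _ (Or.inr rfl)), H.sum_ne hz (hnot _ (Or.inl rfl))⟩
  have hq1 : ∀ a, R a → a ≠ m → a ≠ T.p m →
      C.G.rho z ≠ C.G.rho q + C.G.rho a ∧ C.G.rho z ≠ C.G.rho (T.p q) + C.G.rho a := fun a _ ham hapm =>
    ⟨H.sum_ne (by rw [hz, add_comm]) hapm, H.sum_ne (by rw [hz', add_comm]) ham⟩
  have hsum := H.no_sum L hE hqj hxz hzh (fun a ha haj => hyz ▸ hno a ha haj)
  have h0 : θ c * d + c * θ d = 0 := by
    refine H.square_zero L hE hq.1 hqj hzR hzh hsum hm1 hq1 hw ⟨1, one_mem _, ?_⟩ hsq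
    rw [show H.orbEl m c = C.G.xu m c * C.G.xu (T.p m) (θ c) from if_neg hm,
      show H.orbEl q d = C.G.xu q d * C.G.xu (T.p q) (θ d) from if_neg hq2,
      sandwich_two (H.orb_commute (H.m_pos L) _ _), mul_one, conj_mul_two (xu_sq C (T.p m) _),
      conj_of_sum H.laced hz]
    have hm_pos := H.m_pos L
    have hpq : D.IsPosRoot (T.p q).val := (L.sub _ (L.stable q hq.1)).1
    rw [conj_of_zero H.laced (r := T.p m) (s := T.p q) (Or.inr (by rw [H.ipp, hx]))
      (C.pos_ne_negr (H.pm_pos L) hpq), conj_mul_two (xu_sq C m c), conj_mul_two (xu_sq C m c),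
      conj_of_zero H.laced (r := m) (s := q) (Or.inr hx) (C.pos_ne_negr hm_pos (L.sub q hq.1).1),
      conj_of_zero H.laced (r := m) (s := z) (Or.inr hxz) (C.pos_ne_negr hm_pos (L.sub z hzR).1),
      conj_of_sum H.laced hz']
    have hzq : ip D (T.p q) z = 0 ∨ ip D (T.p q) z = 1 := by
      refine Or.inr ?_
      rw [ip_add _ hz', H.laced.1, hmq', H.laced.2.1]; norm_num
    have e2 := xu_commute (K := K) H.laced hzq (C.pos_ne_negr hpq (L.sub z hzR).1) (θ d) (θ c * d)
    calc C.G.xu q d * C.G.xu z (θ c * d) * (C.G.xu (T.p q) (θ d) * C.G.xu z (c * θ d))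
        = C.G.xu q d * (C.G.xu z (θ c * d) * C.G.xu (T.p q) (θ d)) * C.G.xu z (c * θ d) := by
          simp only [mul_assoc]
      _ = _ := by rw [e2, C.G.xu_add]; simp only [mul_assoc]
  rw [map_div₀, div_eq_div_iff (by simp [hc]) hc]
  linear_combination (norm := (ring_nf; simp [CharTwo.two_eq_zero])) h0

end CfsgLib.Lie.Laced.TwLaced
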