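import Cfsg.Agent.Lib.Lie.Laced.OrthTwistKill

/-!
# Clearing one height layer
-/

set_option autoImplicit false
set_option linter.style.haveILetI false
set_option linter.unusedSectionVars false
set_option maxHeartbeats 1000000

namespace CfsgLib.Lie.Laced.TwLaced

open Cfsg.Lie CfsgLib.Lie.Chev
open scoped MatrixGroups

variable {D : ChevalleyDatum} {C : Full D} {K : Type*} [Field K] [CharP K 2]
variable (T : Twist C.G K) (h : Fin D.nroots → ℤ)

/-- conjugate to the lowest element times current roots -/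
def State (S : List (Fin D.nroots)) (R : Fin D.nroots → Prop) (m : Fin D.nroots) (j : ℤ)
    (E : Fin D.nroots → Prop) (X g : GL D.Idx K) : Prop :=
  ∃ u ∈ T.Fix, u ∈ US C (K := K) (Perp S) ∧
    ∃ v ∈ US C (K := K) (Cur T h R m j E), v ∈ T.Fix ∧ u * g * u⁻¹ = X * v

variable {T h} {θ : K ≃+* K} (H : TwLaced T θ h)
variable {S : List (Fin D.nroots)} {R : Fin D.nroots → Prop} {m : Fin D.nroots} (L : Low T h S R m)
include H L

/-- clearing the orbits of a class, one after the other -/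
theorem clear_class {j : ℤ} {X g : GL D.Idx K} (hg2 : g * g = 1) {P Sel : Fin D.nroots → Prop}
    (hPp : ∀ q, R q → P q → P (T.p q)) (hnz : ∀ q, R q → P q → ¬ Zr T m q)
    (hsel : ∀ q, R q → P q → Sel q ∨ Sel (T.p q))
    {E0 : Fin D.nroots → Prop} (hE0 : Lay T h E0 j) (hs : State T h S R m j E0 X g)
    (step : ∀ E, Lay T h E j → (∀ y, E y → E0 y ∨ P y) → (∀ y, E0 y → E y) →
      ∀ q, Cur T h R m j E q → P q → Sel q → h q = j → ∀ d, (T.p q = q → θ d = d) →
      ∀ w ∈ US C (K := K) (Cur T h R m j (add T E q)), w ∈ T.Fix →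
      X * (H.orbEl q d * w) * (X * (H.orbEl q d * w)) = 1 →
      Goal T h S R m j (add T E q) X (H.orbEl q d * w)) :
    ∃ E, Lay T h E j ∧ (∀ y, E y → E0 y ∨ P y) ∧ (∀ y, E0 y → E y) ∧
      (∀ q, Cur T h R m j E q → h q = j → ¬ P q) ∧ State T h S R m j E X g := by
  classical
  suffices key : ∀ n : ℕ, ∀ E, Lay T h E j → (∀ y, E y → E0 y ∨ P y) → (∀ y, E0 y → E y) →
      State T h S R m j E X g →
      (Finset.univ.filter fun q => Cur T h R m j E q ∧ P q ∧ h q = j).card = n →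
      ∃ E, Lay T h E j ∧ (∀ y, E y → E0 y ∨ P y) ∧ (∀ y, E0 y → E y) ∧
        (∀ q, Cur T h R m j E q → h q = j → ¬ P q) ∧ State T h S R m j E X g from
    key _ E0 hE0 (fun y hy => Or.inl hy) (fun y hy => hy) hs rfl
  intro n
  induction n using Nat.strong_induction_on with
  | _ n ih =>
    intro E hE hsub hsup hst hcard
    by_cases hex : ∃ q, Cur T h R m j E q ∧ P q ∧ h q = j
    swap
    · exact ⟨E, hE, hsub, hsup, fun q hq hqj hP => hex ⟨q, hq, hP, hqj⟩, hst⟩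
    obtain ⟨q, hq, hP, hqj, hS⟩ : ∃ q, Cur T h R m j E q ∧ P q ∧ h q = j ∧ Sel q := by
      obtain ⟨q, hq, hP, hqj⟩ := hex
      rcases hsel q hq.1 hP with hS | hS
      · exact ⟨q, hq, hP, hqj, hS⟩
      · exact ⟨T.p q, H.cur_p L hE hq, hPp q hq.1 hP, by rw [H.hp]; exact hqj, hS⟩
    obtain ⟨u, hu, huU, v, hv, hvf, e⟩ := hst
    obtain ⟨d, hd, w, hw, hwf, rfl⟩ := H.split_layer L hE hq (hnz q hq.1 hP) hqj hv hvf
    have hsq : X * (H.orbEl q d * w) * (X * (H.orbEl q d * w)) = 1 := by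
      rw [← e, show u * g * u⁻¹ * (u * g * u⁻¹) = u * (g * g) * u⁻¹ by group, hg2, mul_one, mul_inv_cancel]
    obtain ⟨u', hu', hu'U, w', hw', hwf', e'⟩ := step E hE hsub hsup q hq hP hS hqj d hd w hw hwf hsq
    refine ih _ ?_ (add T E q) (H.add_lay L hE hqj) (fun y hy => ?_) (fun y hy => Or.inl (hsup y hy))
      ⟨u' * u, mul_mem hu' hu, mul_mem hu'U huU, w', hw', hwf', ?_⟩ rfl
    · subst hcard
      refine Finset.card_lt_card ((Finset.ssubset_iff_of_subset fun a ha => ?_).2 ⟨q, ?_, ?_⟩)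
      · simp only [Finset.mem_filter, Finset.mem_univ, true_and] at ha ⊢
        exact ⟨⟨ha.1.1, ha.1.2.1, ha.1.2.2.1, ha.1.2.2.2.imp id fun h1 => ⟨h1.1, fun h2 => h1.2 (Or.inl h2)⟩⟩,
          ha.2⟩
      · simp only [Finset.mem_filter, Finset.mem_univ, true_and]; exact ⟨hq, hP, hqj⟩
      · simp only [Finset.mem_filter, Finset.mem_univ, true_and]
        rintro ⟨hc, -, -⟩
        rcases hc.2.2.2 with hz | hz
        · exact hnz q hq.1 hP hz
        · exact hz.2 (Or.inr (Or.inl rfl))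
    · rcases hy with hy | rfl | rfl
      exacts [hsub y hy, Or.inr hP, Or.inr (hPp q hq.1 hP)]
    · rw [← e', ← e]; group

omit L

/-- a class: positive, no negative pairing -/
def P1 (T : Twist C.G K) (m q : Fin D.nroots) : Prop :=
  (ip D m q = 1 ∨ ip D (T.p m) q = 1) ∧ ip D m q ≠ -1 ∧ ip D (T.p m) q ≠ -1

omit H

/-- a class: negative, no positive pairing -/
def P2 (T : Twist C.G K) (m q : Fin D.nroots) : Prop :=
  (ip D m q = -1 ∨ ip D (T.p m) q = -1) ∧ ip D m q ≠ 1 ∧ ip D (T.p m) q ≠ 1 ∧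
    (T.p m = m ∨ ¬ (ip D m q = -1 ∧ ip D (T.p m) q = -1))

/-- a class: opposite signs -/
def P3 (T : Twist C.G K) (m q : Fin D.nroots) : Prop :=
  (ip D m q = 1 ∧ ip D (T.p m) q = -1) ∨ (ip D m q = -1 ∧ ip D (T.p m) q = 1)

/-- a class: both negative -/
def P4 (T : Twist C.G K) (m q : Fin D.nroots) : Prop :=
  T.p m ≠ m ∧ ip D m q = -1 ∧ ip D (T.p m) q = -1

include H L

/-- all the classes of a layer -/
theorem clear_layer {β : K} (hβ : β + θ β = 1) {c : K} (hc : c ≠ 0) (hcf : T.p m = m → θ c = c) {j : ℤ}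
    {g : GL D.Idx K} (hg2 : g * g = 1) (hs : State T h S R m j (fun _ => False) (H.orbEl m c) g) :
    State T h S R m (j + 1) (fun _ => False) (H.orbEl m c) g := by
  have hL0 : Lay T h (fun _ : Fin D.nroots => False) j := ⟨fun _ h0 => h0, fun _ h0 => h0.elim⟩
  have hfl : ∀ q, ip D m (T.p q) = ip D (T.p m) q ∧ ip D (T.p m) (T.p q) = ip D m q :=
    fun q => ⟨(H.ip_p m q).symm, H.ipp m q⟩
  have hnot : ∀ {E : Fin D.nroots → Prop} {a}, Cur T h R m j E a → ¬ Zr T m a → ¬ E a := fun {E a} ha hz =>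
    (ha.2.2.2.resolve_left hz).2
  obtain ⟨E1, hE1, hb1, -, hk1, hs1⟩ := H.clear_class L hg2 (P := P1 T m) (Sel := fun q => ip D m q = 1)
    (fun q _ hq => by
      unfold P1 at hq ⊢; rw [(hfl q).1, (hfl q).2]; exact ⟨hq.1.symm, hq.2.2, hq.2.1⟩)
    (fun q _ hq hz => by rcases hq.1 with e | e <;> simp [hz.1, hz.2] at e)
    (fun q _ hq => by rw [(hfl q).1]; exact hq.1)
    hL0 hs (by
      intro E hE hsub _ q hq hP hS hqj d hd w hw hwf _
      have hty : ∀ y, E y → ip D m y ≠ -1 ∧ ip D (T.p m) y ≠ -1 := fun y hy =>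
        ⟨((hsub y hy).resolve_left id).2.1, ((hsub y hy).resolve_left id).2.2⟩
      by_cases hm : T.p m = m
      · exact H.clear_fixed L hE hm hc (hcf hm) hq.1 hS hqj (fun y hy => (hty y hy).1) hd hw hwf
      rcases H.ip_range' L (L.sub q hq.1).1 hq.2.2.1 with e | e | e
      · exact absurd e hP.2.2
      · exact H.clear10 L hE hm hc hq.1 hS e hqj hty hd hw hwf
      · exact H.clear11 L hE hm hc hβ hq.1 hS e hqj hty hd hw hwf)
  obtain ⟨E2, hE2, hb2, hu2, hk2, hs2⟩ := H.clear_class L hg2 (P := P2 T m) (Sel := fun q => ip D m q = -1)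
    (fun q _ hq => by
      unfold P2 at hq ⊢; rw [(hfl q).1, (hfl q).2]
      exact ⟨hq.1.symm, hq.2.2.1, hq.2.1, hq.2.2.2.imp id fun h1 h2 => h1 ⟨h2.2, h2.1⟩⟩)
    (fun q _ hq hz => by rcases hq.1 with e | e <;> simp [hz.1, hz.2] at e)
    (fun q _ hq => by rw [(hfl q).1]; exact hq.1)
    hE1 hs1 (by
      intro E hE _ hsup q hq hP hS hqj d hd w hw hwf hsq
      have hz : d = 0 := by
        refine H.kill L hE hc hq hS (Or.inr hP.2.2.1) hqj (fun a ha haj hh => ?_) hw hsq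
        obtain ⟨ha1, ha2⟩ := hh
        have hP1 : P1 T m a := by
          refine ⟨Or.inl ha1, by omega, ?_⟩
          by_cases hm : T.p m = m
          · rw [hm]; omega
          · rcases H.ip_range' L (L.sub q hq.1).1 hq.2.2.1 with e | e | e
            · exact absurd ⟨hS, e⟩ (hP.2.2.2.resolve_left hm)
            · rw [ha2, e, (H.pair_orth L hm).2]; norm_num
            · exact absurd e hP.2.2.1
        have hna : ¬ Zr T m a := fun hz' => by rw [hz'.1] at ha1; omega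
        refine hk1 a ⟨ha.1, ha.2.1, ha.2.2.1, Or.inr ⟨haj.ge, fun h' => ?_⟩⟩ haj hP1
        exact hnot ha hna (Or.inl (hsup a h'))
      subst hz
      refine ⟨1, one_mem _, one_mem _, w, hw, hwf, ?_⟩
      rw [show H.orbEl q 0 = 1 by unfold orbEl; split <;> simp [C.G.xu_zero]]
      group)
  obtain ⟨E3, hE3, hb3, hu3, hk3, hs3⟩ := H.clear_class L hg2 (P := P3 T m)
    (Sel := fun q => ip D m q = 1 ∧ ip D (T.p m) q = -1)
    (fun q _ hq => by
      unfold P3 at hq ⊢; rw [(hfl q).1, (hfl q).2]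
      exact hq.symm.imp (fun e => ⟨e.2, e.1⟩) (fun e => ⟨e.2, e.1⟩))
    (fun q _ hq hz => by rcases hq with e | e <;> simp [hz.1] at e)
    (fun q _ hq => by
      rw [(hfl q).1, (hfl q).2]; exact hq.imp id (fun e => ⟨e.2, e.1⟩))
    hE2 hs2 (by
      intro E hE hsub hsup q hq hP hS hqj d hd w hw hwf hsq
      have hm : T.p m ≠ m := fun e => by rw [e, hS.1] at hS; omega
      have hrel : θ (d / c) = d / c := by
        refine H.mixed_rel L hE hm hc hq hS.1 hS.2 hqj (fun a ha haj hh => ?_) hw hsq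
        have hna : ¬ Zr T m a := fun hz' => by rw [hz'.1] at hh; omega
        refine hk1 a ⟨ha.1, ha.2.1, ha.2.2.1, Or.inr ⟨haj.ge, fun h' => ?_⟩⟩ haj
          ⟨Or.inl hh.1, by omega, by omega⟩
        exact hnot ha hna (Or.inl (hsup a (hu2 a h')))
      refine H.clear_mixed L hE hm hc hq.1 hS.1 hS.2 hqj (fun y hy hh => ?_) hrel hd hw hwf
      rcases hsub y hy with hy' | hy'
      · rcases hb2 y hy' with hy'' | hy''
        · exact ((hb1 y hy'').resolve_left id).2.1 hh.1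
        · exact hy''.2.2.2.resolve_left hm hh
      · rcases hy' with hy' | hy' <;> omega)
  obtain ⟨E4, hE4, -, hu4, hk4, hs4⟩ := H.clear_class L hg2 (P := P4 T m) (Sel := fun _ => True)
    (fun q _ hq => by
      unfold P4 at hq ⊢; rw [(hfl q).1, (hfl q).2]; exact ⟨hq.1, hq.2.2, hq.2.1⟩)
    (fun q _ hq hz => by have := hz.1; have := hq.2.1; omega)
    (fun q _ _ => Or.inl trivial)
    hE3 hs3 (by
      intro E hE _ hsup q hq hP _ hqj d hd w hw hwf hsq
      have hz : d = 0 := by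
        refine H.kill L hE hc hq hP.2.1 (Or.inr (by rw [hP.2.2]; omega)) hqj (fun a ha haj hh => ?_) hw hsq
        obtain ⟨ha1, ha2⟩ := hh
        have hna : ¬ Zr T m a := fun hz' => by rw [hz'.1] at ha1; omega
        refine hk3 a ⟨ha.1, ha.2.1, ha.2.2.1, Or.inr ⟨haj.ge, fun h' => ?_⟩⟩ haj
          (Or.inl ⟨ha1, by rw [ha2, hP.2.2, (H.pair_orth L hP.1).2]; norm_num⟩)
        exact hnot ha hna (Or.inl (hsup a h'))
      subst hz
      refine ⟨1, one_mem _, one_mem _, w, hw, hwf, ?_⟩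
      rw [show H.orbEl q 0 = 1 by unfold orbEl; split <;> simp [C.G.xu_zero]]
      group)
  obtain ⟨u, hu, huU, v, hv, hvf, e⟩ := hs4
  refine ⟨u, hu, huU, v, US_mono C (fun q hq => ⟨hq.1, hq.2.1, hq.2.2.1, ?_⟩) hv, hvf, e⟩
  by_cases hzq : Zr T m q
  · exact Or.inl hzq
  obtain ⟨hjq, hq4⟩ := hq.2.2.2.resolve_left hzq
  refine Or.inr ⟨?_, id⟩
  by_contra hlt
  have hqj : h q = j := by omega
  have c4 : Cur T h R m j E4 q := hq
  have c3 : Cur T h R m j E3 q :=
    ⟨hq.1, hq.2.1, hq.2.2.1, Or.inr ⟨hjq, fun h' => hq4 (hu4 q h')⟩⟩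
  have c2 : Cur T h R m j E2 q :=
    ⟨hq.1, hq.2.1, hq.2.2.1, Or.inr ⟨hjq, fun h' => hq4 (hu4 q (hu3 q h'))⟩⟩
  have c1 : Cur T h R m j E1 q :=
    ⟨hq.1, hq.2.1, hq.2.2.1, Or.inr ⟨hjq, fun h' => hq4 (hu4 q (hu3 q (hu2 q h')))⟩⟩
  have n1 : ¬ P1 T m q := hk1 q c1 hqj
  have n2 : ¬ P2 T m q := hk2 q c2 hqj
  have n3 : ¬ P3 T m q := hk3 q c3 hqj
  have n4 : ¬ P4 T m q := hk4 q c4 hqj
  unfold P1 at n1
  unfold P2 at n2
  unfold P3 at n3
  unfold P4 at n4
  have hx := H.ip_range L (L.sub q hq.1).1 hq.2.1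
  have hy := H.ip_range' L (L.sub q hq.1).1 hq.2.2.1
  by_cases hm : T.p m = m
  · rw [hm] at n1 n2 hy
    simp only [Zr, hm] at hzq
    rcases hx with e | e | e
    · exact n2 ⟨Or.inl e, by omega, by omega, Or.inl rfl⟩
    · exact hzq ⟨e, e⟩
    · exact n1 ⟨Or.inl e, by omega, by omega⟩
  simp only [Zr] at hzq
  rcases hx with e | e | e <;> rcases hy with e' | e' | e'
  · exact n4 ⟨hm, e, e'⟩
  · exact n2 ⟨Or.inl e, by omega, by omega, Or.inr (by omega)⟩
  · exact n3 (Or.inr ⟨e, e'⟩)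
  · exact n2 ⟨Or.inr e', by omega, by omega, Or.inr (by omega)⟩
  · exact hzq ⟨e, e'⟩
  · exact n1 ⟨Or.inr e', by omega, by omega⟩
  · exact n3 (Or.inl ⟨e, e'⟩)
  · exact n1 ⟨Or.inl e, by omega, by omega⟩
  · exact n1 ⟨Or.inl e, by omega, by omega⟩

end CfsgLib.Lie.Laced.TwLaced
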