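import Cfsg.Agent.Lib.Lie.Laced.OrthTwistClear

/-!
# Roots pairing with both roots of the lowest pair
-/

set_option autoImplicit false
set_option linter.style.haveILetI false
set_option linter.unusedSectionVars false
set_option maxHeartbeats 1000000

namespace CfsgLib.Lie.Laced.TwLaced

open Cfsg.Lie CfsgLib.Lie.Chev
open scoped MatrixGroups

variable {D : ChevalleyDatum} {C : Full D} {K : Type*} [Field K] [CharP K 2]
variable {T : Twist C.G K} {θ : K ≃+* K} {h : Fin D.nroots → ℤ} (H : TwLaced T θ h)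
variable {S : List (Fin D.nroots)} {R : Fin D.nroots → Prop} {m : Fin D.nroots} (L : Low T h S R m)
  {j : ℤ} {E : Fin D.nroots → Prop} (hE : Lay T h E j)
include H L hE

/-- a positive pairing with both roots of a pair: the trace is onto -/
theorem clear11 (hm : T.p m ≠ m) {c : K} (hc : c ≠ 0) {β : K} (hβ : β + θ β = 1) {q : Fin D.nroots} (hq : R q)
    (hx : ip D m q = 1) (hy : ip D (T.p m) q = 1) (hqj : h q = j)
    (hty : ∀ y, E y → ip D m y ≠ -1 ∧ ip D (T.p m) y ≠ -1) {d : K}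
    (hd : T.p q = q → θ d = d) {w : GL D.Idx K} (hw : w ∈ US C (K := K) (Cur T h R m j (add T E q)))
    (hwf : w ∈ T.Fix) :
    Goal T h S R m j (add T E q) (H.orbEl m c) (H.orbEl q d * w) := by
  have hE' := H.add_lay L hE hqj
  have hq2 := H.fixed11 L hm hq hx hy
  obtain ⟨s, e, e', hsS, hsj, hms, hps, hss, hne⟩ := H.diff_facts L hq hx hqj
  obtain ⟨o1, o2⟩ := H.pair_orth L hm
  rw [hy, o2, sub_zero] at hps
  rw [hq2, H.laced.2.1, H.laced.1 q (T.p m), hy, hx, o1] at hss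
  rw [hq2] at e'
  have hsp : T.p s ≠ s := fun e'' => by rw [e'', H.laced.2.1] at hss; omega
  have hsm : ip D (T.p s) m = 1 := by rw [H.laced.1, ← H.ip_p, hps]
  have hspm : ip D s (T.p m) = 1 := by rw [H.laced.1, hps]
  set a := β * d / c
  obtain ⟨n, hn, en⟩ := H.xu_near L hE' hsS hq hqj hne.1 a (θ (a * c))
  refine H.absorb L hE hq hqj hsS hsj hne (a := a) (fun e'' => absurd e'' hsp) ?_ ⟨n, hn, ?_⟩ hd
    (H.orbEl_fix (H.m_pos L) fun e'' => absurd e'' hm) hw hwf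
  · intro y hy'
    rw [hms, hps]
    rcases hy' with hy' | rfl | rfl
    · exact ⟨Or.inl (hty y hy').1, Or.inr (hty y hy').2⟩
    · exact ⟨Or.inl (by omega), Or.inr (by omega)⟩
    · rw [hq2, hx, hy]; exact ⟨Or.inl (by omega), Or.inr (by omega)⟩
  rw [show H.orbEl m c = C.G.xu m c * C.G.xu (T.p m) (θ c) from if_neg hm,
    show H.orbEl q d = C.G.xu q d from if_pos hq2,
    show H.orbEl s a = C.G.xu s a * C.G.xu (T.p s) (θ a) from if_neg hsp]
  have hpm : D.IsPosRoot (T.p m).val := H.pm_pos L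
  have c1 : C.G.xu (T.p s) (θ a) * C.G.xu m c * C.G.xu (T.p s) (θ a) = C.G.xu m c :=
    conj_of_zero H.laced (Or.inr hsm) (C.pos_ne_negr (H.hp_pos.2 hsS.1) (H.m_pos L)) _ _
  have c2 : C.G.xu (T.p s) (θ a) * C.G.xu (T.p m) (θ c) * C.G.xu (T.p s) (θ a) =
      C.G.xu (T.p m) (θ c) * C.G.xu q (θ (a * c)) := by
    rw [conj_of_sum H.laced (z := q) (by rw [e', add_comm]), ← map_mul]
  have c3 : C.G.xu s a * C.G.xu m c * C.G.xu s a = C.G.xu m c * C.G.xu q (a * c) :=
    conj_of_sum H.laced (z := q) (by rw [e, add_comm]) _ _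
  have c4 : C.G.xu s a * C.G.xu (T.p m) (θ c) * C.G.xu s a = C.G.xu (T.p m) (θ c) :=
    conj_of_zero H.laced (Or.inr hspm) (C.pos_ne_negr hsS.1 hpm) _ _
  have c5 : C.G.xu q (a * c) * C.G.xu (T.p m) (θ c) = C.G.xu (T.p m) (θ c) * C.G.xu q (a * c) :=
    xu_commute H.laced (Or.inr hy) (C.pos_ne_negr hpm (L.sub q hq).1) _ _
  have htr : a * c + θ (a * c) = d := by
    rw [div_mul_cancel₀ _ hc, map_mul, hd hq2, ← add_mul, hβ, one_mul]
  rw [sandwich_two (H.orb_commute hsS.1 _ _), conj_mul_two (xu_sq C (T.p s) _), c1, c2,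
    conj_mul_two (xu_sq C s _), c3, conj_mul_two (xu_sq C s _), c4, en]
  simp only [← mul_assoc]
  rw [mul_assoc _ (C.G.xu q (a * c)) (C.G.xu (T.p m) (θ c)), c5, ← mul_assoc,
    mul_assoc _ (C.G.xu q (a * c)) (C.G.xu q (θ (a * c))), ← C.G.xu_add, htr]

/-- pairings of opposite signs -/
theorem clear_mixed (hm : T.p m ≠ m) {c : K} (hc : c ≠ 0) {q : Fin D.nroots} (hq : R q)
    (hx : ip D m q = 1) (hy : ip D (T.p m) q = -1) (hqj : h q = j)
    (hty : ∀ y, E y → ¬ (ip D m y = -1 ∧ ip D (T.p m) y = -1)) {d : K} (hrel : θ (d / c) = d / c)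
    (hd : T.p q = q → θ d = d) {w : GL D.Idx K} (hw : w ∈ US C (K := K) (Cur T h R m j (add T E q)))
    (hwf : w ∈ T.Fix) :
    Goal T h S R m j (add T E q) (H.orbEl m c) (H.orbEl q d * w) := by
  have hE' := H.add_lay L hE hqj
  obtain ⟨s, e, e', hsS, hsj, hms, hps, hss, hne⟩ := H.diff_facts L hq hx hqj
  obtain ⟨o1, o2⟩ := H.pair_orth L hm
  have hmq' : ip D m (T.p q) = -1 := by rw [← H.ip_p, hy]
  rw [hy, o2, sub_zero] at hps
  have hq2 : T.p q ≠ q := fun e'' => by rw [e'', hx] at hmq'; omega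
  rw [(H.orth q).resolve_left hq2, H.laced.1 q (T.p m), hy, hmq', o1] at hss
  have hsp : T.p s = s := H.eq_of_ip_two hsS.1 (H.hp_pos.2 hsS.1) (by omega)
  rw [hsp] at e'
  have hpm : D.IsPosRoot (T.p m).val := H.pm_pos L
  obtain ⟨z, hz⟩ := exists_sum H.laced hy
  have hzh := H.hadd _ _ _ hz
  have hzC : Cur T h R m j (add T E q) z := by
    have := H.hp m
    have := H.h_pos_of (H.m_pos L)
    refine ⟨L.up q z hq ((H.perp_p L (L.sub m L.mem)).sum (L.sub q hq) hz) (by omega), fun e'' => by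
      subst e''; have := L.low q hq; omega, fun e'' => by subst e''; have := L.low q hq; omega,
      Or.inr ⟨by omega, fun hzE => ?_⟩⟩
    have := hE'.layer z hzE
    omega
  refine H.absorb L hE hq hqj hsS hsj hne (a := d / c) (fun _ => hrel) ?_
    ⟨C.G.xu (T.p q) (θ d) * C.G.xu z (θ c * d) * C.G.xu (T.p q) (θ d),
      H.conj_cur' L hE' (L.stable q hq) (by rw [H.hp]; exact hqj) _ (xu_mem_US C hzC _), ?_⟩ hd
    (H.orbEl_fix (H.m_pos L) fun e'' => absurd e'' hm) hw hwf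
  · intro y hy'
    rw [hms, hps]
    rcases hy' with hy' | rfl | rfl
    · have := hty y hy'
      constructor <;> · rw [← not_and_or]; exact this
    · exact ⟨Or.inl (by omega), Or.inl (by omega)⟩
    · rw [hmq', show ip D (T.p m) (T.p q) = 1 by rw [H.ipp, hx]]
      exact ⟨Or.inr (by omega), Or.inr (by omega)⟩
  rw [show H.orbEl m c = C.G.xu m c * C.G.xu (T.p m) (θ c) from if_neg hm,
    show H.orbEl q d = C.G.xu q d * C.G.xu (T.p q) (θ d) from if_neg hq2,
    show H.orbEl s (d / c) = C.G.xu s (d / c) from if_pos hsp]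
  have c1 : C.G.xu s (d / c) * C.G.xu m c * C.G.xu s (d / c) = C.G.xu m c * C.G.xu q d := by
    rw [conj_of_sum H.laced (z := q) (by rw [e, add_comm]), div_mul_cancel₀ _ hc]
  have c2 : C.G.xu s (d / c) * C.G.xu (T.p m) (θ c) * C.G.xu s (d / c) =
      C.G.xu (T.p m) (θ c) * C.G.xu (T.p q) (θ d) := by
    rw [conj_of_sum H.laced (z := T.p q) (by rw [e', add_comm])]
    congr 2
    conv_lhs => rw [← hrel]
    rw [← map_mul, div_mul_cancel₀ _ hc]
  have c3 : C.G.xu q d * C.G.xu (T.p m) (θ c) = C.G.xu (T.p m) (θ c) * C.G.xu q d * C.G.xu z (θ c * d) :=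
    xu_comm H.laced hz _ _
  rw [conj_mul_two (xu_sq C s _), c1, c2]
  simp only [← mul_assoc]
  rw [mul_assoc _ (C.G.xu q d) (C.G.xu (T.p m) (θ c)), c3]
  simp only [← mul_assoc]
  rw [mul_assoc _ (C.G.xu (T.p q) (θ d)) (C.G.xu (T.p q) (θ d)), xu_sq, mul_one]

end CfsgLib.Lie.Laced.TwLaced
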