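import Cfsg.Agent.Lib.Lie.Laced.OrthTwistBase

/-!
# Clearing the coordinates next to the lowest orbit
-/

set_option autoImplicit false
set_option linter.style.haveILetI false
set_option linter.unusedSectionVars false
set_option maxHeartbeats 1000000

namespace CfsgLib.Lie.Laced.TwLaced

open Cfsg.Lie CfsgLib.Lie.Chev
open scoped MatrixGroups

variable {D : ChevalleyDatum} {C : Full D} {K : Type*} [Field K] [CharP K 2]
variable (T : Twist C.G K) (θ : K ≃+* K) (h : Fin D.nroots → ℤ)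

/-- the lowest orbit of a region of roots orthogonal to a list -/
structure Low (S : List (Fin D.nroots)) (R : Fin D.nroots → Prop) (m : Fin D.nroots) : Prop where
  sS : ∀ r ∈ S, T.p r ∈ S
  sub : ∀ a, R a → Perp S a
  stable : ∀ a, R a → R (T.p a)
  up : ∀ a y, R a → Perp S y → h a < h y → R y
  mem : R m
  low : ∀ a, R a → h m ≤ h a

/-- orthogonal to the lowest orbit -/
def Zr (m q : Fin D.nroots) : Prop := ip D m q = 0 ∧ ip D (T.p m) q = 0

/-- the current roots -/
def Cur (R : Fin D.nroots → Prop) (m : Fin D.nroots) (j : ℤ) (E : Fin D.nroots → Prop) (q : Fin D.nroots) : Prop :=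
  R q ∧ q ≠ m ∧ q ≠ T.p m ∧ (Zr T m q ∨ (j ≤ h q ∧ ¬ E q))

/-- the cleared roots are stable and lie in the layer -/
structure Lay (E : Fin D.nroots → Prop) (j : ℤ) : Prop where
  stable : ∀ q, E q → E (T.p q)
  layer : ∀ q, E q → h q = j

/-- with one more orbit -/
def add (E : Fin D.nroots → Prop) (q a : Fin D.nroots) : Prop := E a ∨ a = q ∨ a = T.p q

/-- one more orbit is cleared -/
def Goal (S : List (Fin D.nroots)) (R : Fin D.nroots → Prop) (m : Fin D.nroots) (j : ℤ)
    (E : Fin D.nroots → Prop) (X v : GL D.Idx K) : Prop :=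
  ∃ u ∈ T.Fix, u ∈ US C (K := K) (Perp S) ∧
    ∃ w ∈ US C (K := K) (Cur T h R m j E), w ∈ T.Fix ∧ u * (X * v) * u⁻¹ = X * w

variable {T θ h} (H : TwLaced T θ h)
include H

theorem h_pos_of {a : Fin D.nroots} (ha : D.IsPosRoot a.val) : 0 < h a := (H.hpos a).1 ha

section

variable {S : List (Fin D.nroots)} {R : Fin D.nroots → Prop} {m : Fin D.nroots} (L : Low T h S R m)
  {j : ℤ} {E : Fin D.nroots → Prop} (hE : Lay T h E j)
include L

theorem m_pos : D.IsPosRoot m.val := (L.sub m L.mem).1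

theorem pm_pos : D.IsPosRoot (T.p m).val := H.hp_pos.2 (H.m_pos L)

theorem perp_p {a : Fin D.nroots} (ha : Perp S a) : Perp S (T.p a) :=
  ⟨H.hp_pos.2 ha.1, fun r hr => by rw [← H.pp r, H.ipp]; exact ha.2 _ (L.sS r hr)⟩

theorem R_closed {a b z : Fin D.nroots} (ha : R a) (hb : R b) (e : C.G.rho z = C.G.rho a + C.G.rho b) : R z :=
  L.up a z ha ((L.sub a ha).sum (L.sub b hb) e) (by
    have := H.hadd a b z e; have := H.h_pos_of (L.sub b hb).1; omega)

theorem zr_p {a : Fin D.nroots} (ha : Zr T m a) : Zr T m (T.p a) :=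
  ⟨by rw [← H.ip_p]; exact ha.2, by rw [H.ipp]; exact ha.1⟩

theorem layer_pm {a : Fin D.nroots} : ip D (T.p m) (T.p a) = ip D m a ∧ ip D m (T.p a) = ip D (T.p m) a :=
  ⟨H.ipp m a, (H.ip_p m a).symm⟩

theorem ip_range {a : Fin D.nroots} (ha : D.IsPosRoot a.val) (hne : a ≠ m) :
    ip D m a = -1 ∨ ip D m a = 0 ∨ ip D m a = 1 :=
  ip_le H.laced m a hne (C.pos_ne_negr (H.m_pos L) ha)

theorem ip_range' {a : Fin D.nroots} (ha : D.IsPosRoot a.val) (hne : a ≠ T.p m) :
    ip D (T.p m) a = -1 ∨ ip D (T.p m) a = 0 ∨ ip D (T.p m) a = 1 :=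
  ip_le H.laced (T.p m) a hne (C.pos_ne_negr (H.pm_pos L) ha)

theorem pair_orth (hm : T.p m ≠ m) : ip D m (T.p m) = 0 ∧ ip D (T.p m) m = 0 := by
  have := (H.orth m).resolve_left hm
  exact ⟨this, by rw [H.laced.1, this]⟩

/-- the root between the lowest root and a root with positive pairing -/
theorem diff {q : Fin D.nroots} (hq : R q) (hx : ip D m q = 1) :
    ∃ s, C.G.rho q = C.G.rho m + C.G.rho s ∧ Perp S s ∧ h s = h q - h m ∧ ip D m s = -1 := by
  obtain ⟨s, hs⟩ := exists_diff H.laced hx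
  have e := H.hadd m s q hs
  have hspos : D.IsPosRoot s.val := by
    by_contra hn
    have hn' := (C.G.negr_pos_iff s).2 hn
    have e' : C.G.rho m = C.G.rho q + C.G.rho (C.G.negr s) := by
      rw [C.G.rho_negr, hs, add_neg_cancel_right]
    have := H.hadd q _ m e'
    have := H.h_pos_of hn'
    have := L.low q hq
    omega
  refine ⟨s, hs, ⟨hspos, fun r hr => ?_⟩, by omega, ip_sum_eq H.laced hs⟩
  have := ip_add r hs
  rw [(L.sub q hq).2 r hr, (L.sub m L.mem).2 r hr, zero_add] at this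
  exact this.symm

include hE

theorem cur_closed : Closed C (Cur T h R m j E) := by
  refine ⟨fun a ha => (L.sub a ha.1).1, fun a b z ha hb e => ?_⟩
  have hab := H.hadd a b z e
  have h1 := H.h_pos_of (L.sub a ha.1).1
  have h2 := H.h_pos_of (L.sub b hb.1).1
  have h3 := L.low a ha.1
  refine ⟨H.R_closed L ha.1 hb.1 e, fun e' => by subst e'; omega, fun e' => by subst e'; have := H.hp m; omega, ?_⟩
  rcases ha.2.2.2 with za | za
  · rcases hb.2.2.2 with zb | zb
    · exact Or.inl ⟨by rw [ip_add m e, za.1, zb.1, add_zero], by rw [ip_add (T.p m) e, za.2, zb.2, add_zero]⟩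
    · exact Or.inr ⟨by omega, fun hz => by have := hE.layer z hz; omega⟩
  · exact Or.inr ⟨by omega, fun hz => by have := hE.layer z hz; omega⟩

theorem cur_p {a : Fin D.nroots} (ha : Cur T h R m j E a) : Cur T h R m j E (T.p a) := by
  refine ⟨L.stable a ha.1, fun e => ha.2.2.1 (by rw [← e, H.pp]), fun e => ha.2.1 (T.p.injective e), ?_⟩
  refine ha.2.2.2.imp (H.zr_p L) fun h1 => ⟨by rw [H.hp]; exact h1.1, fun h2 => h1.2 ?_⟩
  have := hE.stable _ h2
  rwa [H.pp] at this

theorem add_lay {q : Fin D.nroots} (hq : h q = j) : Lay T h (add T E q) j :=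
  ⟨fun a ha => by
    rcases ha with ha | rfl | rfl
    exacts [Or.inl (hE.stable a ha), Or.inr (Or.inr rfl), Or.inr (Or.inl (H.pp q))],
   fun a ha => by
    rcases ha with ha | rfl | rfl
    exacts [hE.layer a ha, hq, by rw [H.hp]; exact hq]⟩

/-- splitting off an orbit of the layer -/
theorem split_layer {q : Fin D.nroots} (hq : Cur T h R m j E q) (hz : ¬ Zr T m q) (hj : h q = j)
    {v : GL D.Idx K} (hv : v ∈ US C (K := K) (Cur T h R m j E)) (hf : v ∈ T.Fix) :
    ∃ d, (T.p q = q → θ d = d) ∧ ∃ w ∈ US C (K := K) (Cur T h R m j (add T E q)), w ∈ T.Fix ∧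
      v = H.orbEl q d * w := by
  have hns : ∀ x, ¬ Zr T m x → h x = j → ∀ a b, Cur T h R m j E a → Cur T h R m j E b →
      C.G.rho x ≠ C.G.rho a + C.G.rho b := by
    intro x hx hxj a b ha hb e
    have hab := H.hadd a b x e
    have h1 := H.h_pos_of (L.sub a ha.1).1
    have h2 := H.h_pos_of (L.sub b hb.1).1
    rcases ha.2.2.2 with za | za
    · rcases hb.2.2.2 with zb | zb
      · exact hx ⟨by rw [ip_add m e, za.1, zb.1, add_zero], by rw [ip_add (T.p m) e, za.2, zb.2, add_zero]⟩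
      · omega
    · omega
  obtain ⟨d, hd, w, hw, hwf, e⟩ := H.split (H.cur_closed L hE) (fun a ha => H.cur_p L hE ha) hq (hns q hz hj)
    (hns (T.p q) (fun hh => hz (by have := H.zr_p L hh; rwa [H.pp] at this)) (by rw [H.hp]; exact hj)) hv hf
  refine ⟨d, hd, w, US_mono C (fun a ha => ⟨ha.1.1, ha.1.2.1, ha.1.2.2.1, ?_⟩) hw, hwf, e⟩
  refine ha.1.2.2.2.imp id fun h1 => ⟨h1.1, fun h2 => ?_⟩
  rcases h2 with h2 | h2 | h2
  exacts [h1.2 h2, ha.2.1 h2, ha.2.2 h2]

/-- a root element of positive height keeps the current roots -/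
theorem conj_cur {s : Fin D.nroots} (hs : Perp S s) (hsj : h s = j - h m)
    (hty : ∀ y, E y → ip D m y ≠ ip D m s ∨ ip D (T.p m) y ≠ ip D (T.p m) s) (a : K) {w : GL D.Idx K}
    (hw : w ∈ US C (K := K) (Cur T h R m j E)) :
    C.G.xu s a * w * C.G.xu s a ∈ US C (K := K) (Cur T h R m j E) := by
  refine conj_US H.laced hs.1 (fun b hb => ⟨(L.sub b hb.1).1, hb⟩) (fun b y hb e => ?_) a hw
  have he := H.hadd s b y e
  have h1 := H.h_pos_of hs.1
  have h2 := L.low b hb.1
  have hy : R y := L.up b y hb.1 (hs.sum (L.sub b hb.1) e) (by omega)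
  refine ⟨hy, fun e' => by subst e'; omega, fun e' => by subst e'; have := H.hp m; omega, ?_⟩
  refine Or.inr ⟨by omega, fun hyE => ?_⟩
  have hl := hE.layer y hyE
  rcases hb.2.2.2 with zb | zb
  · rcases hty y hyE with hne | hne
    · exact hne (by rw [ip_add m e, zb.1, add_zero])
    · exact hne (by rw [ip_add (T.p m) e, zb.2, add_zero])
  · omega

/-- a root element of the layer keeps the current roots -/
theorem conj_cur' {r : Fin D.nroots} (hr : R r) (hrj : h r = j) (a : K) {w : GL D.Idx K}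
    (hw : w ∈ US C (K := K) (Cur T h R m j E)) :
    C.G.xu r a * w * C.G.xu r a ∈ US C (K := K) (Cur T h R m j E) := by
  refine conj_US H.laced (L.sub r hr).1 (fun b hb => ⟨(L.sub b hb.1).1, hb⟩) (fun b y hb e => ?_) a hw
  have he := H.hadd r b y e
  have h1 := H.h_pos_of (L.sub b hb.1).1
  have h2 := L.low r hr
  exact ⟨H.R_closed L hr hb.1 e, fun e' => by subst e'; omega, fun e' => by subst e'; have := H.hp m; omega,
    Or.inr ⟨by omega, fun hyE => by have := hE.layer y hyE; omega⟩⟩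

/-- conjugating a root element of the layer -/
theorem xu_near {s r : Fin D.nroots} (hs : Perp S s) (hr : R r) (hrj : h r = j) (hne : r ≠ s) (a b : K) :
    ∃ n ∈ US C (K := K) (Cur T h R m j E), C.G.xu s a * C.G.xu r b * C.G.xu s a = C.G.xu r b * n := by
  have hp := C.pos_ne_negr hs.1 (L.sub r hr).1
  rcases ip_le H.laced s r hne hp with hip | hip | hip
  · obtain ⟨z, hz⟩ := exists_sum H.laced hip
    have he := H.hadd s r z hz
    have h1 := H.h_pos_of hs.1
    have h2 := L.low r hr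
    refine ⟨C.G.xu z (a * b), xu_mem_US C ?_ _, conj_of_sum H.laced hz a b⟩
    exact ⟨L.up r z hr (hs.sum (L.sub r hr) hz) (by omega), fun e' => by subst e'; omega,
      fun e' => by subst e'; have := H.hp m; omega,
      Or.inr ⟨by omega, fun hyE => by have := hE.layer z hyE; omega⟩⟩
  all_goals exact ⟨1, one_mem _, by rw [mul_one, conj_of_zero H.laced (by omega) hp]⟩

/-- conjugating the element of an orbit of the layer -/
theorem orb_near {s q : Fin D.nroots} (hs : Perp S s) (hq : R q) (hqj : h q = j) (hne : q ≠ s) (hne' : T.p q ≠ s)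
    (a d : K) :
    ∃ n ∈ US C (K := K) (Cur T h R m j E), C.G.xu s a * H.orbEl q d * C.G.xu s a = H.orbEl q d * n := by
  obtain ⟨n1, h1, e1⟩ := H.xu_near L hE hs hq hqj hne a d
  unfold orbEl
  by_cases hf : T.p q = q
  · rw [if_pos hf]; exact ⟨n1, h1, e1⟩
  · rw [if_neg hf]
    obtain ⟨n2, h2, e2⟩ := H.xu_near L hE hs (L.stable q hq) (by rw [H.hp]; exact hqj) hne' a (θ d)
    refine ⟨C.G.xu (T.p q) (θ d) * n1 * C.G.xu (T.p q) (θ d) * n2,
      mul_mem (H.conj_cur' L hE (L.stable q hq) (by rw [H.hp]; exact hqj) _ h1) h2, ?_⟩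
    calc C.G.xu s a * (C.G.xu q d * C.G.xu (T.p q) (θ d)) * C.G.xu s a
        = C.G.xu s a * C.G.xu q d * (C.G.xu s a * C.G.xu s a) * (C.G.xu (T.p q) (θ d) * C.G.xu s a) := by
          rw [xu_sq, mul_one]; simp only [mul_assoc]
      _ = C.G.xu s a * C.G.xu q d * C.G.xu s a * (C.G.xu s a * C.G.xu (T.p q) (θ d) * C.G.xu s a) := by
          simp only [mul_assoc]
      _ = C.G.xu q d * n1 * (C.G.xu (T.p q) (θ d) * n2) := by rw [e1, e2]
      _ = C.G.xu q d * (C.G.xu (T.p q) (θ d) * C.G.xu (T.p q) (θ d)) * n1 * (C.G.xu (T.p q) (θ d) * n2) := by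
          rw [xu_sq, mul_one]
      _ = _ := by simp only [mul_assoc]

end

end CfsgLib.Lie.Laced.TwLaced
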