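import Cfsg.Agent.Lib.Lie.Laced.Rank

/-!
# Rank certificates with literal intermediate matrices
-/

set_option autoImplicit false
set_option linter.style.haveILetI false

namespace CfsgLib.Lie.Laced

open Cfsg.Lie CfsgLib.Lie.Chev

/-- the vectors of a tagged list: the tags keep the literals apart in the kernel's caches -/
def unT (L : List ℕ) : List ℕ := L.map fun x => x / 1024

/-- the vector selected by an index, from a lookup tree -/
noncomputable def getB (t : Chev.Tree ℕ) (len i : ℕ) : ℕ := cond (Nat.blt i len) (Nat.div (t.get i) 1024) 0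

/-- the combination over the set bits, from the highest -/
noncomputable def comboT (t : Chev.Tree ℕ) (cs : List ℕ) (fuel : ℕ) : ℕ → ℕ :=
  Nat.rec (motive := fun _ => ℕ → ℕ) (fun n => combo (unT cs) n)
    (fun _ ih n => cond (Nat.beq n 0) 0 (getB t cs.length (Nat.log2 n) ^^^ ih (n - 2 ^ Nat.log2 n))) fuel

theorem combo_zero : ∀ cs : List ℕ, combo cs 0 = 0
  | [] => rfl
  | c :: cs => by simp [combo, combo_zero cs, Nat.beq]

theorem combo_xor : ∀ (cs : List ℕ) (a b : ℕ), combo cs (a ^^^ b) = combo cs a ^^^ combo cs b := by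
  intro cs
  induction cs with
  | nil => intro a b; simp [combo]
  | cons c cs ih =>
    intro a b
    simp only [combo, Nat.xor_div_two, ih]
    have h2 : (a ^^^ b) % 2 = (a % 2) ^^^ (b % 2) := Nat.xor_mod_two_pow (n := 1)
    rcases Nat.mod_two_eq_zero_or_one a with ha | ha <;> rcases Nat.mod_two_eq_zero_or_one b with hb | hb <;>
      rw [ha, hb] at h2 <;> simp [ha, hb, h2, Nat.xor_assoc, Nat.xor_left_comm c, Nat.beq]

theorem combo_two_pow : ∀ (cs : List ℕ) (i : ℕ), combo cs (2 ^ i) = cs.getD i 0 := by
  intro cs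
  induction cs with
  | nil => intro i; simp [combo]
  | cons c cs ih =>
    intro i
    cases i with
    | zero => simp [combo, combo_zero, Nat.beq]
    | succ i => simp [combo, pow_succ, ih, Nat.beq, Nat.mul_mod_left]

/-- the tree holds the list -/
noncomputable def treeB (t : Chev.Tree ℕ) (cs : List ℕ) : Bool :=
  ((List.range cs.length).map fun i => Nat.div (t.get i) 1024) == unT cs

theorem getB_eq {t : Chev.Tree ℕ} {cs : List ℕ} (h : treeB t cs = true) (i : ℕ) : getB t cs.length i = (unT cs).getD i 0 := by
  unfold getB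
  by_cases hi : i < cs.length
  · rw [show Nat.blt i cs.length = true by simpa [Nat.blt_eq] using hi, cond_true]
    conv_rhs => rw [← beq_iff_eq.1 h]
    simp [List.getD_eq_getElem?_getD, hi]
  · rw [show Nat.blt i cs.length = false by simpa [← Bool.not_eq_true, Nat.blt_eq] using hi, cond_false,
      List.getD_eq_default _ _ (by simpa [unT] using hi)]

theorem comboT_eq {t : Chev.Tree ℕ} {cs : List ℕ} (h : treeB t cs = true) : ∀ fuel n : ℕ, comboT t cs fuel n = combo (unT cs) n := by
  intro fuel
  induction fuel with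
  | zero => intro n; rfl
  | succ fuel ih =>
    intro n
    show cond (Nat.beq n 0) 0 (getB t cs.length (Nat.log2 n) ^^^ comboT t cs fuel (n - 2 ^ Nat.log2 n)) = _
    by_cases hn : n = 0
    · subst hn; simp [combo_zero, Nat.beq]
    · rw [natBeq_false hn, cond_false, ih, getB_eq h, ← combo_two_pow, ← combo_xor]
      congr 1
      have h1 := Nat.log2_self_le hn
      have h2 : n < 2 ^ (Nat.log2 n + 1) := Nat.lt_log2_self
      have h3 : n - 2 ^ Nat.log2 n < 2 ^ Nat.log2 n := by rw [pow_succ] at h2; omega
      have h4 := Nat.two_pow_add_eq_or_of_lt h3 1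
      rw [mul_one] at h4
      have h5 : 2 ^ Nat.log2 n + (n - 2 ^ Nat.log2 n) = n := by omega
      rw [h5] at h4
      refine Eq.trans ?_ h4.symm
      apply Nat.eq_of_testBit_eq
      intro j
      rw [Nat.testBit_xor, Nat.testBit_or, Nat.testBit_two_pow]
      by_cases hj : Nat.log2 n = j
      · subst hj; simp [Nat.testBit_lt_two_pow h3]
      · simp [hj]

/-- a product of bit matrices is as claimed -/
noncomputable def mulB (t : Chev.Tree ℕ) (cs W W' : List ℕ) : Bool :=
  treeB t cs && (W.map (fun x => comboT t cs 64 (Nat.div x 1024)) == unT W')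

theorem mulB_spec {t : Chev.Tree ℕ} {cs W W' : List ℕ} (h : mulB t cs W W' = true) :
    (unT W).map (combo (unT cs)) = unT W' := by
  simp only [mulB, Bool.and_eq_true, beq_iff_eq] at h
  rw [← h.2]
  show (W.map fun x => x / 1024).map (combo (unT cs)) = _
  rw [List.map_map]
  exact List.map_congr_left fun n _ => (comboT_eq h.1 64 (n / 1024)).symm

variable {D : ChevalleyDatum} {f : Fast}

theorem colsW_step {w W W' X : List ℕ} {r : ℕ} {t : Chev.Tree ℕ} (hW : colsW D f w = unT W)
    (hX : (colsX D f r == unT X) = true) (h : mulB t X W W' = true) : colsW D f (r :: w) = unT W' := by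
  rw [colsW, hW, beq_iff_eq.1 hX, mulB_spec h]

theorem colsW_one {r : ℕ} {ID X : List ℕ} {t : Chev.Tree ℕ} (hID : (idCols (D.rank + D.nroots) == unT ID) = true)
    (hX : (colsX D f r == unT X) = true) (h : mulB t X ID X = true) : colsW D f [r] = unT X :=
  colsW_step (beq_iff_eq.1 hID) hX h

theorem colsM_of {ID w W M : List ℕ} (hID : (idCols (D.rank + D.nroots) == unT ID) = true)
    (hW : colsW D f w = unT W) (h : (List.zipWith (· ^^^ ·) (unT W) (unT ID) == unT M) = true) :
    colsM D f w = unT M := by
  rw [colsM, hW, beq_iff_eq.1 hID]; exact beq_iff_eq.1 h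

theorem rank_cert {w : List ℕ} {k : ℕ} {B A P Q M R I : List ℕ} {tB tM tP : Chev.Tree ℕ}
    (hlen : (allList w (fun r => Nat.blt r D.nroots) && Nat.beq B.length k && Nat.beq A.length (D.rank + D.nroots) &&
      Nat.beq P.length (D.rank + D.nroots) && Nat.beq Q.length k) = true)
    (hI : (idCols k == unT I) = true) (hM : colsM D f w = unT M) (h1 : mulB tB B A M = true)
    (h2 : mulB tM M Q R = true) (h3 : mulB tP P R I = true) :
    ∃ B A P Q, chkRank D f w k B A P Q = true := by
  refine ⟨unT B, unT A, unT P, unT Q, ?_⟩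
  rw [chkRank, hM, mulB_spec h1, mulB_spec h2, mulB_spec h3, beq_iff_eq.1 hI]
  simp only [unT, List.length_map] at hlen ⊢
  rw [hlen]
  simp

end CfsgLib.Lie.Laced
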